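import Cfsg.Agent.H395.Jordan
import Cfsg.Agent.H531.TwoPrimes

/-!
# Class sizes: basic facts

* `exists_decomp`: an element is the product of its `p`-part and its `p'`-part;
* `index_dvd_of_normal`, `index_map_dvd`: class sizes in normal subgroups and in quotients divide
  class sizes of the group;
* `exists_sylow_between`: a `p`-subgroup of a subgroup `H` of index prime to `p` lies in a Sylow
  `p`-subgroup of the group which is contained in `H`;
* `sylow_sup_centralizer`: if the class sizes of the `p'`-elements are prime to `p`, then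
  `G = P C(P)`;
* `normal_and_complement`: if `P C(P) = G` then `P` is a direct factor.
-/

set_option autoImplicit false

namespace Cfsg.Agent.H524.ClassSize

open Subgroup
open scoped Pointwise

/-- Decomposition of an element in `p`-part and `p'`-part. -/
theorem exists_decomp {G : Type*} [Group G] [Finite G] (p : ℕ) [hp : Fact p.Prime] (h : G) :
    ∃ a b : G, a * b = h ∧ Commute a b ∧ (∃ k : ℕ, orderOf a = p ^ k) ∧
      (orderOf b).Coprime p ∧ a ∈ zpowers h ∧ b ∈ zpowers h := by
  obtain ⟨e, m, hm, hn⟩ := Nat.exists_eq_pow_mul_and_not_dvd (orderOf_pos h).ne' p hp.out.ne_one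
  have hcop : Nat.Coprime (p ^ e) m := Nat.Coprime.pow_left _ ((Nat.Prime.coprime_iff_not_dvd hp.out).mpr hm)
  have hbez : (1 : ℤ) = ((p ^ e : ℕ) : ℤ) * Nat.gcdA (p ^ e) m + (m : ℤ) * Nat.gcdB (p ^ e) m := by
    have := Nat.gcd_eq_gcd_ab (p ^ e) m
    rw [hcop] at this
    exact_mod_cast this
  have hone : h ^ (((p ^ e : ℕ) : ℤ) * (m : ℤ)) = 1 := by
    have : (((p ^ e : ℕ) : ℤ) * (m : ℤ)) = ((orderOf h : ℕ) : ℤ) := by
      rw [hn]; push_cast; ring
    rw [this, zpow_natCast, pow_orderOf_eq_one]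
  refine ⟨h ^ ((m : ℤ) * Nat.gcdB (p ^ e) m), h ^ (((p ^ e : ℕ) : ℤ) * Nat.gcdA (p ^ e) m), ?_, ?_,
    ?_, ?_, ⟨_, rfl⟩, ⟨_, rfl⟩⟩
  · rw [← zpow_add, add_comm, ← hbez, zpow_one]
  · exact (Commute.refl h).zpow_zpow _ _
  · have h1 : (h ^ ((m : ℤ) * Nat.gcdB (p ^ e) m)) ^ (p ^ e) = 1 := by
      rw [← zpow_natCast, ← zpow_mul]
      have : (m : ℤ) * Nat.gcdB (p ^ e) m * ((p ^ e : ℕ) : ℤ) =
          (((p ^ e : ℕ) : ℤ) * (m : ℤ)) * Nat.gcdB (p ^ e) m := by ring
      rw [this, zpow_mul, hone, one_zpow]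
    obtain ⟨k, -, hk⟩ := (Nat.dvd_prime_pow hp.out).mp (orderOf_dvd_of_pow_eq_one h1)
    exact ⟨k, hk⟩
  · have h1 : (h ^ (((p ^ e : ℕ) : ℤ) * Nat.gcdA (p ^ e) m)) ^ m = 1 := by
      rw [← zpow_natCast, ← zpow_mul]
      have : ((p ^ e : ℕ) : ℤ) * Nat.gcdA (p ^ e) m * (m : ℤ) =
          (((p ^ e : ℕ) : ℤ) * (m : ℤ)) * Nat.gcdA (p ^ e) m := by ring
      rw [this, zpow_mul, hone, one_zpow]
    have h2 : Nat.Coprime m p := ((Nat.Prime.coprime_iff_not_dvd hp.out).mpr hm).symm
    exact Nat.Coprime.coprime_dvd_left (orderOf_dvd_of_pow_eq_one h1) h2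

variable {G : Type*} [Group G] [Finite G]

/-- A `p`-subgroup of a subgroup `H` of index prime to `p` lies in a Sylow `p`-subgroup of the
group which is contained in `H`. -/
theorem exists_sylow_between {p : ℕ} [Fact p.Prime] {H A : Subgroup G} (h : ¬ p ∣ H.index)
    (hA : IsPGroup p A) (hAH : A ≤ H) :
    ∃ P : Sylow p G, A ≤ (P : Subgroup G) ∧ (P : Subgroup G) ≤ H := by
  have hA' : IsPGroup p (A.subgroupOf H) := by
    have := hA.comap_of_injective H.subtype H.subtype_injective
    exact this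
  obtain ⟨R, hAR⟩ := hA'.exists_le_sylow
  have hR : IsPGroup p ((R : Subgroup H).map H.subtype) := R.isPGroup'.map _
  obtain ⟨P, hP⟩ := hR.exists_le_sylow
  have hcard : Nat.card P ≤ Nat.card ((R : Subgroup H).map H.subtype) := by
    rw [Subgroup.card_map_of_injective H.subtype_injective]
    rw [Sylow.card_eq_multiplicity P, Sylow.card_eq_multiplicity R]
    have e : Nat.card G = Nat.card H * H.index := (Subgroup.card_mul_index H).symm
    have hH0 : Nat.card H ≠ 0 := Nat.card_pos.ne'
    have hi0 : H.index ≠ 0 := Subgroup.index_ne_zero_of_finite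
    rw [e, Nat.factorization_mul hH0 hi0, Finsupp.add_apply,
      Nat.factorization_eq_zero_of_not_dvd h, add_zero]
  have hEq : (R : Subgroup H).map H.subtype = P :=
    Subgroup.eq_of_le_of_card_ge hP hcard
  refine ⟨P, ?_, by rw [← hEq]; exact Subgroup.map_subtype_le _⟩
  rw [← hEq]
  intro a ha
  exact ⟨⟨a, hAH ha⟩, hAR (Subgroup.mem_subgroupOf.mpr ha), rfl⟩

/-- If `x = a b` with commuting `a`, `b`, `a` of `p`-power order, and the class size of `b` is
prime to `p`, then `x` is conjugate to an element of `P C(P)`. -/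
theorem conj_mem_sup {p : ℕ} [Fact p.Prime] (P : Sylow p G) {a b : G} (hab : Commute a b)
    (ha : ∃ k : ℕ, orderOf a = p ^ k)
    (h : ¬ p ∣ (Subgroup.centralizer ({b} : Set G)).index) :
    ∃ g : G, g * a * g⁻¹ ∈ (P : Subgroup G) ∧
      g * b * g⁻¹ ∈ Subgroup.centralizer ((P : Subgroup G) : Set G) := by
  obtain ⟨k, hk⟩ := ha
  have hpa : IsPGroup p (zpowers a) := by
    apply IsPGroup.of_card (n := k)
    rw [Nat.card_zpowers, hk]
  have hle : zpowers a ≤ Subgroup.centralizer ({b} : Set G) := by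
    rw [zpowers_le, Subgroup.mem_centralizer_singleton_iff]
    exact hab.eq
  obtain ⟨S, hS1, hS2⟩ := exists_sylow_between h hpa hle
  obtain ⟨g, hg⟩ := MulAction.exists_smul_eq G S P
  have hmem : ∀ s : G, s ∈ (S : Subgroup G) ↔ g * s * g⁻¹ ∈ (P : Subgroup G) := by
    intro s
    have : g * s * g⁻¹ ∈ (g • S : Sylow p G) ↔ s ∈ (S : Subgroup G) := by
      change g * s * g⁻¹ ∈ MulAut.conj g • (S : Subgroup G) ↔ _
      rw [Subgroup.mem_pointwise_smul_iff_inv_smul_mem]
      simp [MulAut.smul_def, mul_assoc]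
    rw [← this, hg]
    rfl
  refine ⟨g, (hmem a).mp (hS1 (mem_zpowers a)), ?_⟩
  rw [Subgroup.mem_centralizer_iff]
  intro y hy
  have hy2 : g⁻¹ * y * g ∈ (S : Subgroup G) := by
    rw [hmem]
    have h3 : g * (g⁻¹ * y * g) * g⁻¹ = y := by group
    rw [h3]
    exact hy
  have h4 := hS2 hy2
  rw [Subgroup.mem_centralizer_singleton_iff] at h4
  calc y * (g * b * g⁻¹) = g * ((g⁻¹ * y * g) * b) * g⁻¹ := by group
    _ = g * (b * (g⁻¹ * y * g)) * g⁻¹ := by rw [h4]
    _ = (g * b * g⁻¹) * y := by group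

/-- If the class sizes of the `p'`-elements are prime to `p`, then `G = P C(P)`. -/
theorem sylow_sup_centralizer {p : ℕ} [Fact p.Prime]
    (h : ∀ y : G, (orderOf y).Coprime p → ¬ p ∣ (Subgroup.centralizer ({y} : Set G)).index)
    (P : Sylow p G) :
    (P : Subgroup G) ⊔ Subgroup.centralizer ((P : Subgroup G) : Set G) = ⊤ := by
  by_contra hne
  obtain ⟨x, hx⟩ := Cfsg.Agent.H395.Jordan.exists_not_conj_mem hne
  obtain ⟨a, b, rfl, hab, ha, hb, -, -⟩ := exists_decomp p x
  obtain ⟨g, h1, h2⟩ := conj_mem_sup P hab ha (h b hb)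
  apply hx g⁻¹
  have : g⁻¹⁻¹ * (a * b) * g⁻¹ = (g * a * g⁻¹) * (g * b * g⁻¹) := by group
  rw [this]
  exact Subgroup.mul_mem_sup h1 h2

/-- If `P C(P) = G` for the Sylow `p`-subgroup `P` then `P` is normal and has a normal
complement, contained in `C(P)`. -/
theorem normal_and_complement {p : ℕ} [Fact p.Prime] (P : Sylow p G)
    (h : (P : Subgroup G) ⊔ Subgroup.centralizer ((P : Subgroup G) : Set G) = ⊤) :
    (P : Subgroup G).Normal ∧ ∃ N : Subgroup G, N.Normal ∧ N.IsComplement' (P : Subgroup G) ∧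
      N ≤ Subgroup.centralizer ((P : Subgroup G) : Set G) := by
  set C := Subgroup.centralizer ((P : Subgroup G) : Set G) with hC
  have hCn : C ≤ normalizer ((P : Subgroup G) : Set G) := by
    intro c hc
    rw [hC, Subgroup.mem_centralizer_iff] at hc
    rw [Subgroup.mem_normalizer_iff]
    intro y
    constructor
    · intro hy
      have : c * y * c⁻¹ = y := by rw [← hc y hy]; group
      rw [this]; exact hy
    · intro hy
      have h1 := hc _ hy
      have : y = c * y * c⁻¹ := by
        have h2 : c * y = c * (c * y * c⁻¹) := by rw [← h1]; group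
        exact mul_left_cancel h2
      rw [this]; exact hy
  have hP : (P : Subgroup G).Normal := by
    rw [← Subgroup.normalizer_eq_top_iff]
    rw [eq_top_iff, ← h]
    exact sup_le Subgroup.le_normalizer hCn
  have hcop : Nat.Coprime (Nat.card (P : Subgroup G)) (P : Subgroup G).index := by
    obtain ⟨n, hn⟩ := IsPGroup.iff_card.mp P.isPGroup'
    rw [hn]
    exact Nat.Coprime.pow_left _ ((Nat.Prime.coprime_iff_not_dvd Fact.out).mpr P.not_dvd_index)
  obtain ⟨K, hK⟩ := Subgroup.exists_left_complement'_of_coprime hcop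
  -- `K ≤ C`
  have hKC : K ≤ C := by
    intro k hk
    -- `C` has index a power of `p`, `k` has order prime to `p`
    have hCnorm : C.Normal := by
      rw [hC]
      exact Subgroup.normal_centralizer
    have hidx : ∃ n : ℕ, C.index = p ^ n := by
      have h1 : C.index ∣ Nat.card (P : Subgroup G) := by
        have h2 : C.index = C.relIndex (P : Subgroup G) := by
          have h4 := Subgroup.relIndex_sup_right (P : Subgroup G) C
          rw [h, Subgroup.relIndex_top_right] at h4
          exact h4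
        rw [h2]
        exact Subgroup.relIndex_dvd_card _ _
      obtain ⟨n, hn⟩ := IsPGroup.iff_card.mp P.isPGroup'
      rw [hn] at h1
      obtain ⟨m, -, hm⟩ := (Nat.dvd_prime_pow Fact.out).mp h1
      exact ⟨m, hm⟩
    obtain ⟨n, hn⟩ := hidx
    have hkq : orderOf (k : G ⧸ C) ∣ p ^ n := by
      rw [← hn]
      exact orderOf_dvd_natCard _
    have hkK : orderOf (k : G ⧸ C) ∣ Nat.card K := by
      have h1 : orderOf (k : G ⧸ C) ∣ orderOf k := orderOf_map_dvd (QuotientGroup.mk' C) k
      have h2 : orderOf k ∣ Nat.card K := by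
        have := orderOf_dvd_natCard (⟨k, hk⟩ : K)
        rwa [Subgroup.orderOf_mk] at this
      exact h1.trans h2
    have hcopK : Nat.Coprime (p ^ n) (Nat.card K) := by
      apply Nat.Coprime.pow_left
      rw [Nat.Prime.coprime_iff_not_dvd Fact.out]
      rw [← hK.index_eq_card]
      exact P.not_dvd_index
    have h1 : orderOf (k : G ⧸ C) = 1 := Nat.eq_one_of_dvd_coprimes hcopK hkq hkK
    rw [orderOf_eq_one_iff, QuotientGroup.eq_one_iff] at h1
    exact h1
  refine ⟨hP, K, ?_, hK, hKC⟩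
  rw [← Subgroup.normalizer_eq_top_iff, eq_top_iff]
  have hsup : K ⊔ (P : Subgroup G) = ⊤ := hK.sup_eq_top
  rw [← hsup]
  refine sup_le Subgroup.le_normalizer ?_
  intro u hu
  rw [Subgroup.mem_normalizer_iff]
  have hcomm : ∀ k ∈ K, u * k * u⁻¹ = k := by
    intro k hk
    have := (Subgroup.mem_centralizer_iff.mp (hKC hk)) u hu
    rw [this]; group
  intro y
  constructor
  · intro hy
    rw [hcomm y hy]; exact hy
  · intro hy
    have h1 := hcomm _ hy
    have : u * y * u⁻¹ = y := by
      have h2 : u * (u * y * u⁻¹) = u * y := by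
        have h3 : u * (u * y * u⁻¹) = (u * (u * y * u⁻¹) * u⁻¹) * u := by group
        rw [h3, h1]; group
      exact mul_left_cancel h2
    rw [← this]; exact hy

end Cfsg.Agent.H524.ClassSize
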