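import Cfsg.Agent.H524.SqfKnoche
import Cfsg.Agent.Lib.CoprimeStab

/-!
# Solvable groups with square-free class sizes: the derived subgroup is cyclic of square-free order
-/

set_option autoImplicit false

namespace Cfsg.Agent.H524.Sqf

open Subgroup
open scoped commutatorElement

variable {G : Type*} [Group G] [Finite G]

omit [Finite G] in
/-- An element of order prime to `p` lies in every normal subgroup of `p`-power index. -/
theorem mem_of_coprime {p n : ℕ} {N : Subgroup G} [N.Normal] (hidx : N.index = p ^ n) {x : G}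
    (hx : (orderOf x).Coprime p) : x ∈ N := by
  rw [← QuotientGroup.eq_one_iff, ← orderOf_eq_one_iff]
  have h6 : orderOf (x : G ⧸ N) ∣ Nat.card (G ⧸ N) := orderOf_dvd_natCard _
  have h7 : orderOf (x : G ⧸ N) ∣ orderOf x := orderOf_map_dvd (QuotientGroup.mk' N) x
  have h8 : Nat.card (G ⧸ N) = p ^ n := hidx
  rw [h8] at h6
  exact Nat.eq_one_of_dvd_coprimes (Nat.Coprime.pow_right _ hx) h7 h6

omit [Finite G] in
theorem orderOf_coprime {p : ℕ} {K : Subgroup G} (hK : (Nat.card K).Coprime p) {x : G}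
    (hx : x ∈ K) : (orderOf x).Coprime p := by
  have h5 : orderOf x ∣ Nat.card K := by
    have := orderOf_dvd_natCard (⟨x, hx⟩ : K)
    rwa [Subgroup.orderOf_mk] at this
  exact Nat.Coprime.coprime_dvd_left h5 hK

/-- If `G'` is nilpotent and `G` has no nontrivial normal `p'`-subgroup then `G'` is a
`p`-group. -/
theorem isPGroup_commutator {p : ℕ} [hp : Fact p.Prime] (hnil : Group.IsNilpotent (commutator G))
    (hO : ∀ N : Subgroup G, N.Normal → ¬ p ∣ Nat.card N → N = ⊥) :
    IsPGroup p (commutator G) := by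
  rw [IsPGroup.iff_card]
  by_contra hcon
  -- some prime `q ≠ p` divides the order of `G'`
  obtain ⟨q, hq, hqd, hqp⟩ : ∃ q : ℕ, q.Prime ∧ q ∣ Nat.card (commutator G) ∧ q ≠ p := by
    by_contra h
    push Not at h
    apply hcon
    exact ⟨_, Nat.eq_prime_pow_of_unique_prime_dvd Nat.card_pos.ne' (fun {d} hd hdd => h d hd hdd)⟩
  have : Fact q.Prime := ⟨hq⟩
  obtain ⟨Q⟩ : Nonempty (Sylow q (commutator G)) := inferInstance
  have hQn : (Q : Subgroup (commutator G)).Normal :=
    (Group.isNilpotent_of_finite_tfae.out 0 3 rfl rfl).mp hnil q inferInstance Q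
  have hQc : (Q : Subgroup (commutator G)).Characteristic := Q.characteristic_of_normal hQn
  have hN : ((Q : Subgroup (commutator G)).map (commutator G).subtype).Normal := by
    infer_instance
  have hcard : Nat.card ((Q : Subgroup (commutator G)).map (commutator G).subtype) = Nat.card Q :=
    Subgroup.card_map_of_injective (commutator G).subtype_injective
  have h1 : ¬ p ∣ Nat.card ((Q : Subgroup (commutator G)).map (commutator G).subtype) := by
    rw [hcard]
    obtain ⟨n, hn⟩ := IsPGroup.iff_card.mp Q.isPGroup'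
    rw [hn]
    intro h
    exact hqp ((Nat.prime_dvd_prime_iff_eq hp.out hq).mp (hp.out.dvd_of_dvd_pow h)).symm
  have h2 := hO _ hN h1
  have h3 : Nat.card Q = 1 := by rw [← hcard, h2]; simp
  have h4 : q ∣ Nat.card Q := by
    apply Q.dvd_card_of_dvd_card hqd
  rw [h3, Nat.dvd_one] at h4
  exact hq.ne_one h4

/-- A Sylow `p`-subgroup of `G` is normal and contains its centralizer, if `G'` is a `p`-group and
`G` has no nontrivial normal `p'`-subgroup. -/
theorem sylow_facts {p : ℕ} [hp : Fact p.Prime] (hG' : IsPGroup p (commutator G))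
    (hO : ∀ N : Subgroup G, N.Normal → ¬ p ∣ Nat.card N → N = ⊥) (P : Sylow p G) :
    commutator G ≤ (P : Subgroup G) ∧ (P : Subgroup G).Normal ∧
      Subgroup.centralizer ((P : Subgroup G) : Set G) ≤ (P : Subgroup G) := by
  have h1 : commutator G ≤ (P : Subgroup G) := hG'.le_sylow_of_normal P
  have hPn : (P : Subgroup G).Normal := by
    refine ⟨fun x hx g => ?_⟩
    have h2 : ⁅g, x⁆ ∈ (P : Subgroup G) :=
      h1 (Subgroup.commutator_mem_commutator (Subgroup.mem_top _) (Subgroup.mem_top _))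
    have h3 : g * x * g⁻¹ = ⁅g, x⁆ * x := by rw [commutatorElement_def]; group
    rw [h3]; exact mul_mem h2 hx
  refine ⟨h1, hPn, ?_⟩
  set C := Subgroup.centralizer ((P : Subgroup G) : Set G) with hC
  obtain ⟨R⟩ : Nonempty (Sylow p C) := inferInstance
  have hRP : ∀ r : C, r ∈ (R : Subgroup C) → (r : G) ∈ (P : Subgroup G) := by
    intro r hr
    have hu := Sylow.unique_of_normal P hPn
    obtain ⟨S, hS⟩ := (R.isPGroup'.map C.subtype).exists_le_sylow
    have hSP : S = P := (hu.uniq S).trans (hu.uniq P).symm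
    rw [← hSP]
    exact hS ⟨r, hr, rfl⟩
  have hRc : (R : Subgroup C) ⊔ Subgroup.centralizer ((R : Subgroup C) : Set C) = ⊤ := by
    rw [eq_top_iff]
    intro c _
    refine (le_sup_right : _ ≤ (R : Subgroup C) ⊔ _) ?_
    rw [Subgroup.mem_centralizer_iff]
    intro r hr
    have h2 : (c : G) ∈ Subgroup.centralizer ((P : Subgroup G) : Set G) := c.2
    rw [Subgroup.mem_centralizer_iff] at h2
    exact Subtype.ext (h2 _ (hRP r hr))
  obtain ⟨-, N, hN, hNc, -⟩ := ClassSize.normal_and_complement R hRc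
  have hCn : C.Normal := by rw [hC]; infer_instance
  have hidx : N.index = Nat.card R := hNc.symm.index_eq_card
  obtain ⟨n, hn⟩ := IsPGroup.iff_card.mp R.isPGroup'
  rw [hn] at hidx
  have hNcop : (Nat.card N).Coprime p := by
    rw [Nat.coprime_comm, Nat.Prime.coprime_iff_not_dvd hp.out, ← hNc.index_eq_card]
    exact R.not_dvd_index
  have hNn : (N.map C.subtype).Normal := by
    refine ⟨?_⟩
    rintro _ ⟨y, hy, rfl⟩ g
    have hgC : g * C.subtype y * g⁻¹ ∈ C := hCn.conj_mem _ y.2 g
    refine ⟨⟨_, hgC⟩, ?_, rfl⟩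
    apply mem_of_coprime hidx
    rw [Subgroup.orderOf_mk]
    have h4 : orderOf (g * C.subtype y * g⁻¹) = orderOf y := by
      have := orderOf_injective (MulAut.conj g).toMonoidHom (MulAut.conj g).injective (C.subtype y)
      have h5 : (MulAut.conj g).toMonoidHom (C.subtype y) = g * C.subtype y * g⁻¹ := rfl
      rw [h5] at this
      rw [this]
      exact orderOf_injective C.subtype C.subtype_injective y
    rw [h4]
    exact orderOf_coprime hNcop hy
  have hbot := hO _ hNn (by
    rw [Subgroup.card_map_of_injective C.subtype_injective]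
    exact (Nat.Prime.coprime_iff_not_dvd hp.out).mp hNcop.symm)
  have hNbot : N = ⊥ := by
    rwa [Subgroup.map_eq_bot_iff_of_injective _ C.subtype_injective] at hbot
  have hRtop : (R : Subgroup C) = ⊤ := by
    have := hNc.sup_eq_top
    rwa [hNbot, bot_sup_eq] at this
  intro c hc
  exact hRP ⟨c, hc⟩ (by rw [hRtop]; trivial)

/-- The case of `G` without nontrivial normal `p'`-subgroups. -/
theorem card_commutator_dvd_of_core {p : ℕ} [hp : Fact p.Prime] (h : SF G)
    (hnil : Group.IsNilpotent (commutator G))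
    (hO : ∀ N : Subgroup G, N.Normal → ¬ p ∣ Nat.card N → N = ⊥) :
    Nat.card (commutator G) ∣ p := by
  have hG' := isPGroup_commutator hnil hO
  obtain ⟨P⟩ : Nonempty (Sylow p G) := inferInstance
  obtain ⟨hGP, hPn, hCP⟩ := sylow_facts hG' hO P
  have hax : ∀ y : G, (Subgroup.centralizer ({y} : Set G)).relIndex (P : Subgroup G) ∣ p :=
    fun y => h.relIndex_dvd_prime P.isPGroup' y
  have hPp := P.isPGroup'
  have hu := Sylow.unique_of_normal P hPn
  have hpel : ∀ a : G, (∃ k, orderOf a = p ^ k) → a ∈ (P : Subgroup G) := by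
    rintro a ⟨k, hk⟩
    have h1 : IsPGroup p (zpowers a) := IsPGroup.of_card (n := k) (by rw [Nat.card_zpowers, hk])
    obtain ⟨S, hS⟩ := h1.exists_le_sylow
    have hSP : S = P := (hu.uniq S).trans (hu.uniq P).symm
    rw [← hSP]; exact hS (mem_zpowers a)
  by_cases htop : (P : Subgroup G) = ⊤
  · -- `G` is a `p`-group: Knoche
    have hGp : IsPGroup p G := by
      have h1 := P.isPGroup'
      rw [htop] at h1
      exact h1.of_equiv Subgroup.topEquiv
    refine card_commutator_dvd hGp (fun y => ?_)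
    have h1 := hax y
    rwa [htop, Subgroup.relIndex_top_right] at h1
  -- an element `y ≠ 1` of order prime to `p`
  obtain ⟨y, hyP, hyc⟩ : ∃ y : G, y ∉ (P : Subgroup G) ∧ (orderOf y).Coprime p := by
    obtain ⟨x, hx⟩ : ∃ x : G, x ∉ (P : Subgroup G) := by
      by_contra hcon
      push Not at hcon
      exact htop ((Subgroup.eq_top_iff' _).mpr hcon)
    obtain ⟨a, b, hab, -, ha, hb, -, -⟩ := ClassSize.exists_decomp p x
    refine ⟨b, fun hbP => hx ?_, hb⟩
    rw [← hab]; exact mul_mem (hpel a ha) hbP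
  have hycop : (orderOf y).Coprime (Nat.card (P : Subgroup G)) := by
    obtain ⟨n, hn⟩ := IsPGroup.iff_card.mp P.isPGroup'
    rw [hn]; exact Nat.Coprime.pow_right _ hyc
  set B : Subgroup G := (P : Subgroup G) ⊓ Subgroup.centralizer ({y} : Set G) with hB
  have hBcomm : ∀ b ∈ B, Commute y b := by
    intro b hb
    exact (Subgroup.mem_centralizer_singleton_iff.mp hb.2).symm
  obtain ⟨u, huP, huy⟩ : ∃ u ∈ (P : Subgroup G), ¬ Commute u y := by
    by_contra hcon
    push Not at hcon
    apply hyP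
    apply hCP
    rw [Subgroup.mem_centralizer_iff]
    intro a ha
    exact (hcon a ha).eq
  have hBidx : B.relIndex (P : Subgroup G) = p := by
    have h1 := hax y
    have h2 : B.relIndex (P : Subgroup G) =
        (Subgroup.centralizer ({y} : Set G)).relIndex (P : Subgroup G) := by
      rw [hB, Subgroup.inf_relIndex_left]
    rw [h2]
    refine ((Nat.dvd_prime hp.out).mp h1).resolve_left (fun h3 => ?_)
    rw [Subgroup.relIndex_eq_one] at h3
    apply huy
    exact (Subgroup.mem_centralizer_singleton_iff.mp (h3 huP))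
  -- `B` is abelian
  have hBab : ∀ b ∈ B, ∀ c ∈ B, b * c = c * b := by
    intro b hb
    have hbo : ∃ k, orderOf b = p ^ k := by
      obtain ⟨k, hk⟩ := (IsPGroup.iff_orderOf.mp hPp) ⟨b, hb.1⟩
      exact ⟨k, by rwa [Subgroup.orderOf_mk] at hk⟩
    have hcopby : (orderOf y).Coprime (orderOf b) := by
      obtain ⟨k, hk⟩ := hbo
      rw [hk]; exact Nat.Coprime.pow_right _ hyc
    -- `C_P(by) = C_B(b)`
    have hle : (P : Subgroup G) ⊓ Subgroup.centralizer ({b * y} : Set G) ≤
        B ⊓ Subgroup.centralizer ({b} : Set G) := by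
      intro w hw
      have hw2 : Commute w (b * y) := Subgroup.mem_centralizer_singleton_iff.mp hw.2
      have h1 : Commute w b := by
        obtain ⟨m, hm⟩ := exists_pow_eq_self_of_coprime hcopby
        have h1 : Commute w ((b * y) ^ orderOf y) := hw2.pow_right _
        rw [(hBcomm b hb).symm.mul_pow, pow_orderOf_eq_one, mul_one] at h1
        have h2 := h1.pow_right m
        rwa [hm] at h2
      have h2 : Commute w y := by
        have h3 : y = b⁻¹ * (b * y) := by group
        rw [h3]; exact h1.inv_right.mul_right hw2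
      exact ⟨⟨hw.1, Subgroup.mem_centralizer_singleton_iff.mpr h2⟩,
        Subgroup.mem_centralizer_singleton_iff.mpr h1⟩
    have h3 : ((P : Subgroup G) ⊓ Subgroup.centralizer ({b * y} : Set G)).relIndex
        (P : Subgroup G) ∣ p := by
      rw [Subgroup.inf_relIndex_left]; exact hax (b * y)
    have h4 : (B ⊓ Subgroup.centralizer ({b} : Set G)).relIndex (P : Subgroup G) ∣ p :=
      (Subgroup.relIndex_dvd_of_le_left (P : Subgroup G) hle).trans h3
    have h5 := Subgroup.relIndex_mul_relIndex (B ⊓ Subgroup.centralizer ({b} : Set G)) B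
      (P : Subgroup G) inf_le_left inf_le_left
    rw [← h5, hBidx] at h4
    have h6 : (B ⊓ Subgroup.centralizer ({b} : Set G)).relIndex B = 1 := by
      have h7 : (B ⊓ Subgroup.centralizer ({b} : Set G)).relIndex B * p ∣ 1 * p := by
        rwa [one_mul]
      exact Nat.dvd_one.mp (Nat.dvd_of_mul_dvd_mul_right hp.out.pos h7)
    rw [Subgroup.relIndex_eq_one] at h6
    intro c hc
    exact (Subgroup.mem_centralizer_singleton_iff.mp (h6 hc).2).symm
  -- `P` is abelian
  have hBP : B ≤ (P : Subgroup G) := inf_le_left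
  have hBn : ∀ b ∈ B, ∀ n ∈ (P : Subgroup G), n * b * n⁻¹ ∈ B := by
    have h1 : (B.subgroupOf (P : Subgroup G)).Normal := by
      apply Subgroup.normal_of_index_eq_minFac_card
      have h2 : (B.subgroupOf (P : Subgroup G)).index = p := hBidx
      rw [h2]
      obtain ⟨n, hn⟩ := IsPGroup.iff_card.mp hPp
      rw [hn]
      have hn0 : n ≠ 0 := by
        rintro rfl
        have h3 := Subgroup.index_dvd_card (B.subgroupOf (P : Subgroup G))
        rw [h2, hn, pow_zero, Nat.dvd_one] at h3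
        exact hp.out.ne_one h3
      rw [hp.out.pow_minFac hn0]
    intro b hb n hn
    have h2 := h1.conj_mem (⟨b, hBP hb⟩ : (P : Subgroup G)) (Subgroup.mem_subgroupOf.mpr hb) ⟨n, hn⟩
    exact Subgroup.mem_subgroupOf.mp h2
  have hMB : ∀ n ∈ (P : Subgroup G), ∀ b ∈ B, Commute ⁅y, n⁆ b := by
    intro n hn b hb
    have h1 : Commute y (n⁻¹ * b * n) := by
      apply hBcomm
      have := hBn b hb n⁻¹ (inv_mem hn)
      simpa using this
    have h2 : Commute (n * y * n⁻¹) b := by
      have h3 : b = n * (n⁻¹ * b * n) * n⁻¹ := by group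
      rw [h3]
      show n * y * n⁻¹ * (n * (n⁻¹ * b * n) * n⁻¹) = n * (n⁻¹ * b * n) * n⁻¹ * (n * y * n⁻¹)
      calc n * y * n⁻¹ * (n * (n⁻¹ * b * n) * n⁻¹) = n * (y * (n⁻¹ * b * n)) * n⁻¹ := by group
        _ = n * ((n⁻¹ * b * n) * y) * n⁻¹ := by rw [h1.eq]
        _ = _ := by group
    have h4 : ⁅y, n⁆ = y * (n * y * n⁻¹)⁻¹ := by rw [commutatorElement_def]; group
    rw [h4]
    exact (hBcomm b hb).mul_left h2.inv_left
  have hmP : ∀ n ∈ (P : Subgroup G), ⁅y, n⁆ ∈ (P : Subgroup G) := fun n hn =>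
    hGP (Subgroup.commutator_mem_commutator (Subgroup.mem_top _) (Subgroup.mem_top _))
  have hmB : ∀ n ∈ (P : Subgroup G), ⁅y, n⁆ ∈ B → ⁅y, n⁆ = 1 := by
    intro n hn hb
    have h1 : Commute ⁅n, y⁆ y := by
      have h2 : ⁅n, y⁆ = ⁅y, n⁆⁻¹ := (commutatorElement_inv y n).symm
      rw [h2]; exact (hBcomm _ hb).symm.inv_left
    have h3 : ⁅n, y⁆ ∈ (P : Subgroup G) := by
      have h2 : ⁅n, y⁆ = ⁅y, n⁆⁻¹ := (commutatorElement_inv y n).symm
      rw [h2]; exact inv_mem (hmP n hn)
    have h4 := Cfsg.Agent.Lib.CoprimeStab.commute_of_commutator_commute hycop h3 h1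
    rw [commutatorElement_eq_one_iff_mul_comm]; exact h4.symm.eq
  set m := ⁅y, u⁆ with hm
  have hm1 : m ≠ 1 := by
    intro h1
    rw [hm, commutatorElement_eq_one_iff_mul_comm] at h1
    exact huy h1.symm
  have hmnB : m ∉ B := fun h1 => hm1 (hmB u huP h1)
  have hsup : B ⊔ zpowers m = (P : Subgroup G) := by
    have hle : B ⊔ zpowers m ≤ (P : Subgroup G) :=
      sup_le hBP ((zpowers_le).mpr (hmP u huP))
    have h1 := Subgroup.relIndex_mul_relIndex B (B ⊔ zpowers m) (P : Subgroup G) le_sup_left hle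
    rw [hBidx] at h1
    have h2 : B.relIndex (B ⊔ zpowers m) ≠ 1 := by
      intro h3
      rw [Subgroup.relIndex_eq_one] at h3
      exact hmnB (h3 (Subgroup.mem_sup_right (mem_zpowers m)))
    have h3 : B.relIndex (B ⊔ zpowers m) = p :=
      ((Nat.dvd_prime hp.out).mp (Dvd.intro _ h1)).resolve_left h2
    rw [h3] at h1
    have h4 : (B ⊔ zpowers m).relIndex (P : Subgroup G) = 1 := by
      have h5 : p * (B ⊔ zpowers m).relIndex (P : Subgroup G) = p * 1 := by rw [h1, mul_one]
      exact Nat.eq_of_mul_eq_mul_left hp.out.pos h5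
    rw [Subgroup.relIndex_eq_one] at h4
    exact le_antisymm hle h4
  have hPab : ∀ a ∈ (P : Subgroup G), ∀ b ∈ (P : Subgroup G), a * b = b * a := by
    -- the centralizer of `B` and of `m` contains `B ⊔ ⟨m⟩`
    have h1 : (P : Subgroup G) ≤ Subgroup.centralizer (B : Set G) := by
      rw [← hsup]
      refine sup_le ?_ ((zpowers_le).mpr ?_)
      · intro b hb
        rw [Subgroup.mem_centralizer_iff]
        intro c hc
        exact hBab c hc b hb
      · rw [Subgroup.mem_centralizer_iff]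
        intro c hc
        exact (hMB u huP c hc).symm.eq
    have h2 : (P : Subgroup G) ≤ Subgroup.centralizer ({m} : Set G) := by
      rw [← hsup]
      refine sup_le ?_ ((zpowers_le).mpr ?_)
      · intro b hb
        rw [Subgroup.mem_centralizer_singleton_iff]
        exact (hMB u huP b hb).symm.eq
      · rw [Subgroup.mem_centralizer_singleton_iff]
    have h3 : (P : Subgroup G) ≤ Subgroup.centralizer ((P : Subgroup G) : Set G) := by
      nth_rewrite 1 [← hsup]
      refine sup_le ?_ ((zpowers_le).mpr ?_)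
      · intro b hb
        rw [Subgroup.mem_centralizer_iff]
        intro c hc
        exact ((Subgroup.mem_centralizer_iff.mp (h1 hc)) b hb).symm
      · rw [Subgroup.mem_centralizer_iff]
        intro c hc
        exact Subgroup.mem_centralizer_singleton_iff.mp (h2 hc)
    intro a ha b hb
    exact (Subgroup.mem_centralizer_iff.mp (h3 hb)) a ha
  -- the subgroup `M = [P, y]` of order `p`
  have hI : ∀ z : G, Nat.card (I (P : Subgroup G) hPab z) ∣ p := fun z => by
    rw [card_I]; exact hax z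
  set M := I (P : Subgroup G) hPab y with hM
  have hmM : m ∈ M := comm_mem_I hPab y huP
  -- `M` is normal
  have hMn : M.Normal := by
    refine ⟨fun c hc g => ?_⟩
    have h1 := conj_mem_I hc g
    -- `g y g⁻¹ = k y` with `k ∈ P`
    obtain ⟨n, hn, h2⟩ := mem_I.mp h1
    have hk : ⁅g, y⁆ ∈ (P : Subgroup G) :=
      hGP (Subgroup.commutator_mem_commutator (Subgroup.mem_top _) (Subgroup.mem_top _))
    have h3 : ⁅g * y * g⁻¹, n⁆ = ⁅g, y⁆ * ⁅y, n⁆ * ⁅g, y⁆⁻¹ * ⁅⁅g, y⁆, n⁆ := by
      simp only [commutatorElement_def]; group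
    have h4 : ⁅⁅g, y⁆, n⁆ = 1 := by
      rw [commutatorElement_eq_one_iff_mul_comm]; exact hPab _ hk _ hn
    have h5 : ⁅g, y⁆ * ⁅y, n⁆ * ⁅g, y⁆⁻¹ = ⁅y, n⁆ := by
      rw [hPab _ hk _ (hmP n hn)]; group
    rw [← h2, h3, h4, h5, mul_one]
    exact comm_mem_I hPab y hn
  have hMP : M ≤ (P : Subgroup G) := I_le
  -- all commutators `⁅z, n⁆` lie in `M`
  have hall : ∀ z : G, I (P : Subgroup G) hPab z ≤ M := by
    intro z
    by_cases hz : ∃ n ∈ (P : Subgroup G), ⁅z, n⁆ ≠ 1
    · by_cases hzy : ∀ n ∈ (P : Subgroup G), ⁅z, n⁆ = 1 → ⁅y, n⁆ = 1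
      · -- then `C_P(z) = C_P(y) = B`
        have hyz := ker_eq_of_le hp.out hI (y := z) (z := y) ⟨u, huP, hm1⟩ hzy
        rintro _ hc
        obtain ⟨n, hn, rfl⟩ := mem_I.mp hc
        -- the set of `n` with `⁅z, n⁆ ∈ M` is a subgroup containing `B` and `m`
        have h1 : B ⊔ zpowers m ≤ ((M.comap (delta (P : Subgroup G) hPab z)).map
            (P : Subgroup G).subtype) := by
          refine sup_le ?_ ((zpowers_le).mpr ?_)
          · intro b hb
            refine ⟨⟨b, hBP hb⟩, ?_, rfl⟩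
            rw [SetLike.mem_coe, Subgroup.mem_comap, delta_apply]
            have h2 : ⁅z, b⁆ = 1 := by
              apply hyz b (hBP hb)
              rw [commutatorElement_eq_one_iff_mul_comm]; exact (hBcomm b hb).eq
            rw [h2]; exact one_mem _
          · refine ⟨⟨m, hMP hmM⟩, ?_, rfl⟩
            rw [SetLike.mem_coe, Subgroup.mem_comap, delta_apply]
            show ⁅z, m⁆ ∈ M
            rw [commutatorElement_def]
            exact mul_mem (hMn.conj_mem _ hmM z) (inv_mem hmM)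
        obtain ⟨n', hn', h2⟩ := h1 (by rw [hsup]; exact hn)
        rw [SetLike.mem_coe, Subgroup.mem_comap, delta_apply] at hn'
        have h3 : (n' : G) = n := h2
        rwa [h3] at hn'
      · push Not at hzy
        obtain ⟨n, hn, h1, h2⟩ := hzy
        by_cases hyz : ∀ k ∈ (P : Subgroup G), ⁅y, k⁆ = 1 → ⁅z, k⁆ = 1
        · exact absurd (ker_eq_of_le hp.out hI (y := y) (z := z) hz hyz n hn h1) h2
        · push Not at hyz
          obtain ⟨k, hk, h3, h4⟩ := hyz
          rw [hM, two_elem hp.out hI hk hn h3 h4 h1 h2]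
    · push Not at hz
      intro c hcI
      obtain ⟨n, hn, rfl⟩ := mem_I.mp hcI
      rw [hz n hn]; exact Subgroup.one_mem _
  -- `G' ≤ M`
  have hG'M : commutator G ≤ M := by
    rw [_root_.commutator_def, Subgroup.commutator_le]
    intro z _ w _
    obtain ⟨a, b, hab, -, ha, hb, -, -⟩ := ClassSize.exists_decomp p z
    have haP := hpel a ha
    -- modulo `M`
    rw [← QuotientGroup.eq_one_iff]
    have hcenP : ∀ x ∈ (P : Subgroup G), ∀ g : G, (g : G ⧸ M) * (x : G ⧸ M) =
        (x : G ⧸ M) * (g : G ⧸ M) := by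
      intro x hx g
      rw [← QuotientGroup.mk_mul, ← QuotientGroup.mk_mul, QuotientGroup.eq]
      have h1 : ⁅g⁻¹, x⁻¹⁆ ∈ M := hall g⁻¹ (comm_mem_I hPab _ (inv_mem hx))
      have h2 : (g * x)⁻¹ * (x * g) = x⁻¹ * ⁅g⁻¹, x⁆ * x := by
        rw [commutatorElement_def]; group
      have h3 : ⁅g⁻¹, x⁆ ∈ M := hall g⁻¹ (comm_mem_I hPab _ hx)
      rw [h2]
      have := hMn.conj_mem _ h3 x⁻¹
      simpa using this
    have hbw : ((⁅b, w⁆ : G) : G ⧸ M) = 1 := by
      have hbwP : ⁅b, w⁆ ∈ (P : Subgroup G) :=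
        hGP (Subgroup.commutator_mem_commutator (Subgroup.mem_top _) (Subgroup.mem_top _))
      -- `⁅b, w⁆` is central mod `M` and its `orderOf b`-th power is trivial
      have h1 : (w : G ⧸ M) * (b : G ⧸ M) * (w : G ⧸ M)⁻¹ =
          ((⁅b, w⁆ : G) : G ⧸ M)⁻¹ * (b : G ⧸ M) := by
        rw [← QuotientGroup.mk_inv, ← QuotientGroup.mk_mul, ← QuotientGroup.mk_mul,
          ← QuotientGroup.mk_inv, ← QuotientGroup.mk_mul]
        congr 1
        rw [commutatorElement_def]; group
      have hc : Commute ((⁅b, w⁆ : G) : G ⧸ M)⁻¹ (b : G ⧸ M) := by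
        have : Commute ((⁅b, w⁆ : G) : G ⧸ M) (b : G ⧸ M) := (hcenP _ hbwP b).symm
        exact this.inv_left
      have h2 : (((⁅b, w⁆ : G) : G ⧸ M)⁻¹) ^ (orderOf b) = 1 := by
        have h3 : ((w : G ⧸ M) * (b : G ⧸ M) * (w : G ⧸ M)⁻¹) ^ (orderOf b) =
            (((⁅b, w⁆ : G) : G ⧸ M)⁻¹ * (b : G ⧸ M)) ^ (orderOf b) := by rw [h1]
        rw [conj_pow, hc.mul_pow, ← QuotientGroup.mk_pow, pow_orderOf_eq_one, QuotientGroup.mk_one,
          mul_one, mul_one, mul_inv_cancel] at h3
        exact h3.symm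
      rw [inv_pow, inv_eq_one] at h2
      obtain ⟨k, hk⟩ := (IsPGroup.iff_orderOf.mp hPp) ⟨_, hbwP⟩
      rw [Subgroup.orderOf_mk] at hk
      have h3 : orderOf ((⁅b, w⁆ : G) : G ⧸ M) ∣ p ^ k := by
        rw [← hk]; exact orderOf_map_dvd (QuotientGroup.mk' M) _
      have h4 : orderOf ((⁅b, w⁆ : G) : G ⧸ M) ∣ orderOf b := orderOf_dvd_of_pow_eq_one h2
      rw [← orderOf_eq_one_iff]
      exact Nat.eq_one_of_dvd_coprimes (Nat.Coprime.pow_right k hb) h4 h3
    have hbw' : (b : G ⧸ M) * (w : G ⧸ M) = (w : G ⧸ M) * (b : G ⧸ M) := by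
      have h1 : ((⁅b, w⁆ : G) : G ⧸ M) = ⁅(b : G ⧸ M), (w : G ⧸ M)⁆ :=
        map_commutatorElement (QuotientGroup.mk' M) b w
      rw [h1, commutatorElement_eq_one_iff_mul_comm] at hbw
      exact hbw
    have h1 : ((⁅z, w⁆ : G) : G ⧸ M) = ⁅(z : G ⧸ M), (w : G ⧸ M)⁆ :=
      map_commutatorElement (QuotientGroup.mk' M) z w
    rw [h1, commutatorElement_eq_one_iff_mul_comm, ← hab, QuotientGroup.mk_mul]
    calc (a : G ⧸ M) * (b : G ⧸ M) * (w : G ⧸ M) = (a : G ⧸ M) * ((b : G ⧸ M) * (w : G ⧸ M)) := by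
          rw [mul_assoc]
      _ = (a : G ⧸ M) * ((w : G ⧸ M) * (b : G ⧸ M)) := by rw [hbw']
      _ = ((a : G ⧸ M) * (w : G ⧸ M)) * (b : G ⧸ M) := by rw [mul_assoc]
      _ = ((w : G ⧸ M) * (a : G ⧸ M)) * (b : G ⧸ M) := by rw [hcenP a haP w]
      _ = (w : G ⧸ M) * ((a : G ⧸ M) * (b : G ⧸ M)) := by rw [mul_assoc]
  exact (Subgroup.card_dvd_of_le hG'M).trans (hI y)

end Cfsg.Agent.H524.Sqf
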