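import Mathlib
import Cfsg.Agent.H524.ClassSize
import Cfsg.Agent.H524.SqfMain

/-!
# Class sizes of elements of prime power order: reduction to simple groups (S4128)

* `PP p x`: the order of `x` is a power of a prime different from `p`;
* `Cond G p`: `p` divides no class size of such an element;
* `CopMove S`: a nontrivial automorphism of coprime order moves all the conjugates of some element
  of prime power order;
* `comm_of_cond`: the reduction.
-/

set_option autoImplicit false
set_option linter.unusedSectionVars false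

namespace Cfsg.Agent.H524.DirRed

open Subgroup Cfsg.Agent.H524.ClassSize
open scoped Pointwise

universe u

/-- The order of `x` is a power of a prime different from `p`. -/
def PP {G : Type*} [Group G] (p : ℕ) (x : G) : Prop := ∃ (r : ℕ) (k : ℕ), r.Prime ∧ r ≠ p ∧ orderOf x = r ^ k

/-- `p` divides no class size of an element whose order is a power of a prime different from `p`. -/
def Cond (G : Type*) [Group G] (p : ℕ) : Prop :=
  ∀ x : G, PP p x → ¬ p ∣ (centralizer ({x} : Set G)).index

/-- A nontrivial automorphism of coprime order moves all the conjugates of some element of prime power order. -/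
def CopMove (S : Type*) [Group S] : Prop :=
  ∀ α : MulAut S, α ≠ 1 → (orderOf α).Coprime (Nat.card S) →
    ∃ x : S, (∃ (r : ℕ) (k : ℕ), r.Prime ∧ orderOf x = r ^ k) ∧ ∀ g : S, α (g * x * g⁻¹) ≠ g * x * g⁻¹

section Basic

variable {G : Type*} [Group G]

theorem PP.map {H : Type*} [Group H] (f : G →* H) (hf : Function.Injective f) {p : ℕ} {x : G} :
    PP p (f x) ↔ PP p x := by
  unfold PP
  rw [orderOf_injective f hf]

theorem PP.coprime {p : ℕ} (hp : p.Prime) {x : G} (h : PP p x) : (orderOf x).Coprime p := by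
  obtain ⟨r, k, hr, hne, hk⟩ := h
  rw [hk]
  exact Nat.Coprime.pow_left _ ((Nat.coprime_primes hr hp).2 hne)

/-- A subgroup containing all elements of prime power order in `⟨x⟩` contains `x`. -/
theorem mem_of_pp [Finite G] {p : ℕ} (hp : p.Prime) (H : Subgroup G) :
    ∀ (n : ℕ) (x : G), orderOf x = n → n.Coprime p → (∀ a ∈ zpowers x, PP p a → a ∈ H) → x ∈ H := by
  intro n
  induction n using Nat.strong_induction_on with
  | _ n ih =>
    intro x hx hn h
    by_cases h1 : n = 1
    · rw [h1, orderOf_eq_one_iff] at hx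
      rw [hx]
      exact one_mem _
    obtain ⟨r, hr, hrn⟩ := Nat.exists_prime_and_dvd h1
    have : Fact r.Prime := ⟨hr⟩
    obtain ⟨a, b, hab, hc, ⟨k, hk⟩, hb, ha1, hb1⟩ := exists_decomp r x
    have hne : r ≠ p := by
      rintro rfl
      exact hr.one_lt.ne' (Nat.Coprime.eq_one_of_dvd hn.symm hrn)
    have hbn : orderOf b ∣ n := by
      rw [← hx]
      exact orderOf_dvd_of_mem_zpowers hb1
    have hn0 : 0 < n := by rw [← hx]; exact orderOf_pos x
    have hblt : orderOf b < n := by
      refine lt_of_le_of_ne (Nat.le_of_dvd hn0 hbn) ?_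
      intro e
      rw [e] at hb
      exact hr.one_lt.ne' (Nat.Coprime.eq_one_of_dvd hb.symm hrn)
    rw [← hab]
    refine mul_mem (h a ha1 ⟨r, k, hr, hne, hk⟩) (ih _ hblt b rfl (hn.coprime_dvd_left hbn) ?_)
    intro c hc hcp
    exact h c ((zpowers_le.2 hb1) hc) hcp

/-- A `p`-element commutes with all `p'`-elements if it commutes with those of prime power order. -/
theorem commute_of_pp [Finite G] {p : ℕ} (hp : p.Prime) {y : G} (h : ∀ x : G, PP p x → Commute x y) {x : G}
    (hx : (orderOf x).Coprime p) : Commute x y := by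
  have := mem_of_pp hp (centralizer ({y} : Set G)) (orderOf x) x rfl hx (fun a _ ha => by
    rw [mem_centralizer_singleton_iff]
    exact (h a ha).eq)
  rw [mem_centralizer_singleton_iff] at this
  exact this

/-- All elements of prime power order, prime to `p`, commute with all `p`-elements. -/
def Dir (G : Type*) [Group G] (p : ℕ) : Prop :=
  ∀ x y : G, PP p x → (∃ k : ℕ, orderOf y = p ^ k) → Commute x y

theorem Dir.sup_eq [Finite G] {p : ℕ} [hp : Fact p.Prime] (h : Dir G p) (P : Sylow p G) :
    (P : Subgroup G) ⊔ centralizer ((P : Subgroup G) : Set G) = ⊤ := by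
  apply sylow_sup_centralizer
  intro y hy hdvd
  have h1 : (P : Subgroup G) ≤ centralizer ({y} : Set G) := by
    intro z hz
    rw [mem_centralizer_singleton_iff]
    have hz' : ∃ k : ℕ, orderOf z = p ^ k := by
      obtain ⟨k, hk⟩ := P.isPGroup' ⟨z, hz⟩
      have hk' : z ^ p ^ k = 1 := congrArg Subtype.val hk
      obtain ⟨j, -, hj⟩ := (Nat.dvd_prime_pow hp.out).1 (orderOf_dvd_of_pow_eq_one hk')
      exact ⟨j, hj⟩
    exact (commute_of_pp hp.out (fun x hx => h x z hx hz') hy).eq.symm
  have h2 : (centralizer ({y} : Set G)).index ∣ (P : Subgroup G).index := index_dvd_of_le h1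
  exact P.not_dvd_index (hdvd.trans h2)

theorem Dir.normal [Finite G] {p : ℕ} [hp : Fact p.Prime] (h : Dir G p) (P : Sylow p G) :
    (P : Subgroup G).Normal := (normal_and_complement P (h.sup_eq P)).1

/-- Lifting of elements of prime power order to `G`. -/
theorem exists_lift [Finite G] (N : Subgroup G) [N.Normal] {r : ℕ} (hr : r.Prime) {x : G ⧸ N} {k : ℕ}
    (hx : orderOf x = r ^ k) : ∃ a : G, QuotientGroup.mk' N a = x ∧ ∃ j : ℕ, orderOf a = r ^ j := by
  have : Fact r.Prime := ⟨hr⟩
  obtain ⟨y, rfl⟩ := QuotientGroup.mk'_surjective N x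
  obtain ⟨a, b, rfl, hc, ha, hb, ha1, hb1⟩ := exists_decomp r y
  refine ⟨a, ?_, ha⟩
  have h1 : QuotientGroup.mk' N b ∈ zpowers (QuotientGroup.mk' N (a * b)) := by
    obtain ⟨i, hi⟩ := hb1
    refine ⟨i, ?_⟩
    show QuotientGroup.mk' N (a * b) ^ i = _
    rw [← map_zpow]
    exact congrArg _ hi
  have h2 : orderOf (QuotientGroup.mk' N b) ∣ r ^ k := by
    rw [← hx]
    exact orderOf_dvd_of_mem_zpowers h1
  have h3 : orderOf (QuotientGroup.mk' N b) = 1 :=
    Nat.eq_one_of_dvd_coprimes (Nat.Coprime.pow_right k hb) (orderOf_map_dvd _ b) h2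
  rw [orderOf_eq_one_iff] at h3
  rw [map_mul, h3, mul_one]

theorem Cond.quotient [Finite G] {p : ℕ} (h : Cond G p) (N : Subgroup G) [N.Normal] : Cond (G ⧸ N) p := by
  rintro x ⟨r, k, hr, hne, hk⟩ hdvd
  obtain ⟨y, rfl, j, hj⟩ := exists_lift N hr hk
  apply h y ⟨r, j, hr, hne, hj⟩
  have h1 : centralizer ({y} : Set G) ≤
      (centralizer ({QuotientGroup.mk' N y} : Set (G ⧸ N))).comap (QuotientGroup.mk' N) := by
    intro z hz
    rw [mem_centralizer_singleton_iff] at hz
    rw [mem_comap, mem_centralizer_singleton_iff, ← map_mul, hz, map_mul]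
  have h2 := Subgroup.index_dvd_of_le h1
  rw [Subgroup.index_comap_of_surjective _ (QuotientGroup.mk'_surjective N)] at h2
  exact hdvd.trans h2

theorem Cond.normal [Finite G] {p : ℕ} (h : Cond G p) (N : Subgroup G) [N.Normal] : Cond N p := by
  intro x hx hdvd
  apply h (x : G) ((PP.map N.subtype N.subtype_injective).2 hx)
  refine dvd_trans ?_ (Sqf.relIndex_dvd N (centralizer ({(x : G)} : Set G)))
  have h3 : (centralizer ({(x : G)} : Set G)).subgroupOf N = centralizer ({x} : Set N) := by
    ext y
    rw [mem_subgroupOf, mem_centralizer_singleton_iff, mem_centralizer_singleton_iff]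
    exact ⟨fun h => Subtype.ext h, fun h => congrArg Subtype.val h⟩
  rw [Subgroup.relIndex, h3]
  exact hdvd

/-- `x` commutes with a Sylow `p`-subgroup. -/
theorem Cond.exists_sylow [Finite G] {p : ℕ} [hp : Fact p.Prime] (h : Cond G p) {x : G} (hx : PP p x) :
    ∃ P : Sylow p G, (P : Subgroup G) ≤ centralizer ({x} : Set G) := by
  obtain ⟨P, -, hP⟩ := exists_sylow_between (h x hx) (A := ⊥) (IsPGroup.of_bot) bot_le
  exact ⟨P, hP⟩

/-- A nontrivial normal `p`-subgroup. -/
theorem dir_of_normal_p [Finite G] {p : ℕ} [hp : Fact p.Prime] (h : Cond G p) (N : Subgroup G) [N.Normal]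
    (hN : IsPGroup p N) (hd : Dir (G ⧸ N) p) : Dir G p := by
  obtain ⟨P⟩ : Nonempty (Sylow p G) := inferInstance
  have hNP : N ≤ P := by
    obtain ⟨Q, hQ⟩ := hN.exists_le_sylow
    obtain ⟨g, hg⟩ := MulAction.exists_smul_eq G Q P
    intro y hy
    have h1 : g⁻¹ * y * g ∈ N := by
      have := Subgroup.Normal.conj_mem (inferInstance : N.Normal) y hy g⁻¹
      rwa [inv_inv] at this
    have h2 : g⁻¹ * y * g ∈ (Q : Subgroup G) := hQ h1
    rw [← hg]
    change y ∈ MulAut.conj g • (Q : Subgroup G)
    rw [Subgroup.mem_pointwise_smul_iff_inv_smul_mem]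
    simpa [MulAut.smul_def, mul_assoc] using h2
  -- `P` is normal
  have hPn : (P : Subgroup G).Normal := by
    let Q : Sylow p (G ⧸ N) := P.mapSurjective (QuotientGroup.mk'_surjective N)
    have hQ := hd.normal Q
    have h1 : ((Q : Subgroup (G ⧸ N)).comap (QuotientGroup.mk' N)) = P := by
      show ((P : Subgroup G).map (QuotientGroup.mk' N)).comap (QuotientGroup.mk' N) = P
      rw [Subgroup.comap_map_eq_self]
      rw [QuotientGroup.ker_mk']
      exact hNP
    rw [← h1]
    exact Subgroup.normal_comap _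
  intro x y hx hy
  obtain ⟨Q, hQ⟩ := h.exists_sylow hx
  have huniq : ∀ Q : Sylow p G, (Q : Subgroup G) = P := fun Q => by
    have := Sylow.unique_of_normal P hPn
    exact congrArg _ (Subsingleton.elim Q P)
  have hQP : (Q : Subgroup G) = P := huniq Q
  obtain ⟨k, hk⟩ := hy
  have hyP : y ∈ (P : Subgroup G) := by
    have hpy : IsPGroup p (zpowers y) := IsPGroup.of_card (n := k) (by rw [Nat.card_zpowers, hk])
    obtain ⟨R, hR⟩ := hpy.exists_le_sylow
    rw [← huniq R]
    exact hR (mem_zpowers y)
  rw [← hQP] at hyP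
  have := hQ hyP
  rw [mem_centralizer_singleton_iff] at this
  exact this.symm

end Basic

end Cfsg.Agent.H524.DirRed
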