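import Mathlib
import Cfsg.Agent.S0143
import Cfsg.Agent.S0588
import Cfsg.Agent.H524.DirRed
import Cfsg.Agent.H94.PrimeGraph

/-!
# Simple groups with an abelian CC-subgroup: class sizes

`CC T`: `T` is an abelian subgroup, `T ≠ 1`, containing the centralizers of its nonidentity elements. If the simple
nonabelian group `S` has such a subgroup then

* `CC.primB`: for every prime `p` dividing `|S|` some class of elements of prime power order, prime to `p`, has size
  divisible by `p`;
* `CC.regB`: for all primes `p ≠ q`, `q` dividing `|S|`, some class of `p'`-elements has size divisible by `q`.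
-/

set_option autoImplicit false
set_option linter.unusedSectionVars false

namespace Cfsg.Agent.H524.DirRed

open Subgroup Cfsg.Agent.H524.ClassSize
open scoped Pointwise

/-- An abelian subgroup `T ≠ 1` containing the centralizers of its nonidentity elements. -/
structure CC {S : Type*} [Group S] (T : Subgroup S) : Prop where
  ne_bot : T ≠ ⊥
  comm : ∀ a ∈ T, ∀ b ∈ T, Commute a b
  cent : ∀ y ∈ T, y ≠ 1 → centralizer ({y} : Set S) ≤ T

/-- Some `p'`-element has a class of size divisible by `q`. -/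
def RegB (S : Type*) [Group S] (p q : ℕ) : Prop :=
  ∃ x : S, ¬ p ∣ orderOf x ∧ q ∣ (centralizer ({x} : Set S)).index

/-- Some element of prime power order, prime to `p`, has a class of size divisible by `p`. -/
def PrimB (S : Type*) [Group S] (p : ℕ) : Prop :=
  ∃ x : S, PP p x ∧ p ∣ (centralizer ({x} : Set S)).index

section

variable {S : Type*} [Group S] [Finite S]

theorem dvd_index {q : ℕ} (hq : q.Prime) {H : Subgroup S} (h : q ∣ Nat.card S) (h' : ¬ q ∣ Nat.card H) :
    q ∣ H.index := by
  rw [← Subgroup.card_mul_index H] at h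
  exact (hq.dvd_mul.1 h).resolve_left h'

/-- The union of the conjugates of a set invariant under `N`. -/
theorem card_union_le (N : Subgroup S) (D : Set S) (hD : ∀ n ∈ N, ∀ d ∈ D, n * d * n⁻¹ ∈ D) :
    Nat.card {x : S // ∃ g : S, ∃ d ∈ D, x = g * d * g⁻¹} ≤ N.index * Nat.card D := by
  let f : (S ⧸ N) × D → {x : S // ∃ g : S, ∃ d ∈ D, x = g * d * g⁻¹} := fun c =>
    ⟨c.1.out * c.2 * c.1.out⁻¹, c.1.out, c.2, c.2.2, rfl⟩
  have hf : Function.Surjective f := by
    rintro ⟨x, g, d, hd, rfl⟩
    obtain ⟨n, hn⟩ := QuotientGroup.mk_out_eq_mul N g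
    refine ⟨((g : S ⧸ N), ⟨(n : S)⁻¹ * d * n, ?_⟩), ?_⟩
    · have := hD (n : S)⁻¹ (inv_mem n.2) d hd
      rwa [inv_inv] at this
    · apply Subtype.ext
      show (QuotientGroup.mk g : S ⧸ N).out * ((n : S)⁻¹ * d * n) * (QuotientGroup.mk g : S ⧸ N).out⁻¹ = g * d * g⁻¹
      rw [hn]
      group
  have h1 := Nat.card_le_card_of_surjective f hf
  rwa [Nat.card_prod] at h1

/-- Burnside: the Sylow subgroups of a nonabelian simple group are not central in their normalizers. -/
theorem not_normalizer_le [IsSimpleGroup S] (hna : ¬ ∀ a b : S, a * b = b * a) {q : ℕ} [hq : Fact q.Prime]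
    (hd : q ∣ Nat.card S) (Q : Sylow q S) :
    ¬ normalizer ((Q : Subgroup S) : Set S) ≤ centralizer ((Q : Subgroup S) : Set S) := by
  intro h
  have hc := MonoidHom.ker_transferSylow_isComplement' Q h
  have hQne : (Q : Subgroup S) ≠ ⊥ := by
    intro e
    apply Q.not_dvd_index
    rw [e, Subgroup.index_bot]
    exact hd
  rcases (inferInstance : (MonoidHom.transferSylow Q h).ker.Normal).eq_bot_or_eq_top with h1 | h1
  · -- `Q = ⊤` is abelian
    rw [h1] at hc
    have hQ : (Q : Subgroup S) = ⊤ := by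
      have := hc.sup_eq_top
      rwa [bot_sup_eq] at this
    apply hna
    intro a b
    have hb : b ∈ centralizer ((Q : Subgroup S) : Set S) := by
      apply h
      apply Subgroup.le_normalizer
      rw [hQ]
      trivial
    exact (mem_centralizer_iff.1 hb) a (by rw [hQ]; trivial)
  · rw [h1] at hc
    apply hQne
    have := hc.disjoint
    rwa [top_disjoint] at this

namespace CC

variable {T : Subgroup S}

theorem coprime (h : CC T) : (Nat.card T).Coprime T.index := S0588.result T h.cent

theorem ne_top [IsSimpleGroup S] (hna : ¬ ∀ a b : S, a * b = b * a) (h : CC T) : T ≠ ⊤ := by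
  rintro rfl
  exact hna fun a b => (h.comm a trivial b trivial).eq

/-- An element outside all conjugates of `T` commutes with no element of prime order dividing the order of `T`. -/
theorem not_dvd_card (h : CC T) {y : S} {s : ℕ} (hs : s.Prime) (hy : orderOf y = s) (hsT : ¬ s ∣ Nat.card T) {p : ℕ}
    (hp : p.Prime) (hpT : p ∣ Nat.card T) : ¬ p ∣ Nat.card (centralizer ({y} : Set S)) := by
  intro hd
  have hpf : Fact p.Prime := ⟨hp⟩
  obtain ⟨z, hz⟩ := exists_prime_orderOf_dvd_card' p hd
  have hz' : orderOf (z : S) = p := by rw [Subgroup.orderOf_coe]; exact hz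
  obtain ⟨g, hg⟩ := H94.PG.exists_conj_mem h.cent hp hpT (u := (z : S)) (k := 1) (by rw [pow_one]; exact hz')
  have hz1 : g * (z : S) * g⁻¹ ≠ 1 := by
    intro e
    have : (z : S) = 1 := by
      have : (z : S) = g⁻¹ * (g * (z : S) * g⁻¹) * g := by group
      rw [this, e]; group
    rw [this, orderOf_one] at hz'
    exact hp.one_lt.ne hz'
  have hzy := z.2
  rw [mem_centralizer_singleton_iff] at hzy
  have h1 : g * y * g⁻¹ ∈ T := by
    apply h.cent _ hg hz1
    rw [mem_centralizer_singleton_iff]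
    calc g * y * g⁻¹ * (g * (z : S) * g⁻¹) = g * (y * z) * g⁻¹ := by group
      _ = g * (z * y) * g⁻¹ := by rw [hzy]
      _ = g * (z : S) * g⁻¹ * (g * y * g⁻¹) := by group
  apply hsT
  have h2 : orderOf (g * y * g⁻¹) = s := by
    rw [← hy]
    exact MulEquiv.orderOf_eq (MulAut.conj g) y
  rw [← h2]
  have := orderOf_dvd_natCard (⟨g * y * g⁻¹, h1⟩ : T)
  rwa [Subgroup.orderOf_mk] at this

theorem primB [IsSimpleGroup S] (hna : ¬ ∀ a b : S, a * b = b * a) (h : CC T) {p : ℕ} (hp : p.Prime)
    (hd : p ∣ Nat.card S) : PrimB S p := by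
  by_cases hpT : p ∣ Nat.card T
  · obtain ⟨s, hs, hsd⟩ : ∃ s : ℕ, s.Prime ∧ s ∣ T.index :=
      Nat.exists_prime_and_dvd fun e => h.ne_top hna (index_eq_one.1 e)
    have hsT : ¬ s ∣ Nat.card T := fun e => hs.one_lt.ne' (Nat.dvd_one.1 (h.coprime ▸ Nat.dvd_gcd e hsd))
    have hsf : Fact s.Prime := ⟨hs⟩
    obtain ⟨y, hy⟩ := exists_prime_orderOf_dvd_card' s (hsd.trans T.index_dvd_card)
    refine ⟨y, ⟨s, 1, hs, ?_, by rw [pow_one, hy]⟩, dvd_index hp hd (h.not_dvd_card hs hy hsT hp hpT)⟩
    rintro rfl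
    exact hsT hpT
  · obtain ⟨r, hr, hrd⟩ : ∃ r : ℕ, r.Prime ∧ r ∣ Nat.card T :=
      Nat.exists_prime_and_dvd fun e => h.ne_bot (card_eq_one.1 e)
    have hrf : Fact r.Prime := ⟨hr⟩
    obtain ⟨x, hx⟩ := exists_prime_orderOf_dvd_card' r hrd
    have hx' : orderOf (x : S) = r := by rw [Subgroup.orderOf_coe]; exact hx
    have hx1 : (x : S) ≠ 1 := by
      intro e
      rw [e, orderOf_one] at hx'
      exact hr.one_lt.ne hx'
    refine ⟨x, ⟨r, 1, hr, ?_, by rw [pow_one, hx']⟩, ?_⟩
    · rintro rfl
      exact hpT hrd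
    · exact (dvd_index hp hd hpT).trans (index_dvd_of_le (h.cent x x.2 hx1))

/-- `T` is not a Sylow subgroup with `|N(T)| = |T|`. -/
theorem two_mul_le_normalizer [IsSimpleGroup S] (hna : ¬ ∀ a b : S, a * b = b * a) (h : CC T) {p : ℕ}
    [hp : Fact p.Prime] (hT : IsPGroup p T) : 2 * Nat.card T ≤ Nat.card (normalizer (T : Set S)) := by
  have hidx : ¬ p ∣ T.index := by
    intro e
    obtain ⟨k, hk⟩ := IsPGroup.iff_card.1 hT
    have hk0 : k ≠ 0 := by
      rintro rfl
      exact h.ne_bot (card_eq_one.1 (by rw [hk, pow_zero]))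
    have h1 : p ∣ Nat.card T := by rw [hk]; exact dvd_pow_self p hk0
    exact hp.out.one_lt.ne' (Nat.dvd_one.1 (h.coprime ▸ Nat.dvd_gcd h1 e))
  let P : Sylow p S := hT.toSylow hidx
  have hpS : p ∣ Nat.card S := by
    obtain ⟨k, hk⟩ := IsPGroup.iff_card.1 hT
    have hk0 : k ≠ 0 := by
      rintro rfl
      exact h.ne_bot (card_eq_one.1 (by rw [hk, pow_zero]))
    have h1 : p ∣ Nat.card T := by rw [hk]; exact dvd_pow_self p hk0
    exact h1.trans T.card_subgroup_dvd_card
  have hne : T ≠ normalizer (T : Set S) := by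
    intro e
    apply not_normalizer_le hna hpS P
    show normalizer (T : Set S) ≤ centralizer (T : Set S)
    rw [← e]
    intro a ha
    rw [mem_centralizer_iff]
    intro b hb
    exact (h.comm b hb a ha).eq
  have hle : T ≤ normalizer (T : Set S) := Subgroup.le_normalizer
  have hd : Nat.card T ∣ Nat.card (normalizer (T : Set S)) := Subgroup.card_dvd_of_le hle
  obtain ⟨c, hc⟩ := hd
  have hpos : 0 < Nat.card (normalizer (T : Set S)) := Nat.card_pos
  have hc1 : c ≠ 1 := by
    rintro rfl
    rw [mul_one] at hc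
    exact hne (Subgroup.eq_of_le_of_card_ge hle hc.le)
  have hc0 : c ≠ 0 := by
    rintro rfl
    omega
  rw [hc, mul_comm]
  exact Nat.mul_le_mul_left _ (by omega)

end CC

/-- **Counting.** If all `p'`-elements commute with a conjugate of the Sylow `q`-subgroup and `T` is a Sylow
`p`-subgroup, a CC-subgroup, then `S` is not simple. -/
theorem CC.false_of_count [IsSimpleGroup S] (hna : ¬ ∀ a b : S, a * b = b * a) {T : Subgroup S} (h : CC T) {p q : ℕ}
    [hp : Fact p.Prime] [hq : Fact q.Prime] (hT : IsPGroup p T) (hd : q ∣ Nat.card S) :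
    RegB S p q := by
  classical
  by_contra hcon
  have hreg : ∀ x : S, ¬ p ∣ orderOf x → ¬ q ∣ (centralizer ({x} : Set S)).index := fun x hx hq => hcon ⟨x, hx, hq⟩
  obtain ⟨Q⟩ : Nonempty (Sylow q S) := inferInstance
  have hpT : p ∣ Nat.card T := by
    obtain ⟨k, hk⟩ := IsPGroup.iff_card.1 hT
    have hk0 : k ≠ 0 := by
      rintro rfl
      exact h.ne_bot (card_eq_one.1 (by rw [hk, pow_zero]))
    rw [hk]
    exact dvd_pow_self p hk0
  set C := centralizer ((Q : Subgroup S) : Set S) with hC
  set NQ := normalizer ((Q : Subgroup S) : Set S) with hNQ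
  set NT := normalizer (T : Set S) with hNT
  -- the two unions
  let A := {x : S // ∃ g : S, ∃ d ∈ ((T : Set S) \ {1}), x = g * d * g⁻¹}
  let B := {x : S // ∃ g : S, ∃ d ∈ (C : Set S), x = g * d * g⁻¹}
  have hA : Nat.card A ≤ NT.index * Nat.card ((T : Set S) \ {1} : Set S) := by
    apply card_union_le
    rintro n hn d ⟨hd1, hd2⟩
    refine ⟨(mem_normalizer_iff.1 hn d).1 hd1, ?_⟩
    intro e
    apply hd2
    rw [Set.mem_singleton_iff] at e ⊢
    have : d = n⁻¹ * (n * d * n⁻¹) * n := by group
    rw [this, e]; group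
  have hB : Nat.card B ≤ NQ.index * Nat.card C := by
    apply card_union_le
    intro n hn d hd
    have hd' : d ∈ C := hd
    show n * d * n⁻¹ ∈ C
    rw [hC, mem_centralizer_iff] at hd' ⊢
    intro z hz
    have hz' : n⁻¹ * z * n ∈ ((Q : Subgroup S) : Set S) := by
      have := (mem_normalizer_iff.1 (inv_mem hn) z).1 hz
      rwa [inv_inv] at this
    have := hd' _ hz'
    calc z * (n * d * n⁻¹) = n * ((n⁻¹ * z * n) * d) * n⁻¹ := by group
      _ = n * (d * (n⁻¹ * z * n)) * n⁻¹ := by rw [this]
      _ = n * d * n⁻¹ * z := by group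
  have hcov : ∀ x : S, (∃ g : S, ∃ d ∈ ((T : Set S) \ {1}), x = g * d * g⁻¹) ∨
      (∃ g : S, ∃ d ∈ (C : Set S), x = g * d * g⁻¹) := by
    intro x
    by_cases hx : p ∣ orderOf x
    · left
      -- a power of order `p`
      obtain ⟨m, hm⟩ := hx
      have hm0 : m ≠ 0 := by
        rintro rfl
        exact (orderOf_pos x).ne' (by simpa using hm)
      have ho : orderOf (x ^ m) = p := by
        rw [orderOf_pow_of_dvd hm0 ⟨p, by rw [hm, mul_comm]⟩, hm, Nat.mul_div_cancel _ (Nat.pos_of_ne_zero hm0)]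
      obtain ⟨g, hg⟩ := H94.PG.exists_conj_mem h.cent hp.out hpT (u := x ^ m) (k := 1) (by rw [pow_one]; exact ho)
      have hne : g * x ^ m * g⁻¹ ≠ 1 := by
        intro e
        have h1 : x ^ m = 1 := by
          have : x ^ m = g⁻¹ * (g * x ^ m * g⁻¹) * g := by group
          rw [this, e]; group
        rw [h1, orderOf_one] at ho
        exact hp.out.one_lt.ne ho
      have h1 : g * x * g⁻¹ ∈ T := by
        apply h.cent _ hg hne
        rw [mem_centralizer_singleton_iff]
        have hc : x * x ^ m = x ^ m * x := (Commute.self_pow x m).eq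
        calc g * x * g⁻¹ * (g * x ^ m * g⁻¹) = g * (x * x ^ m) * g⁻¹ := by group
          _ = g * (x ^ m * x) * g⁻¹ := by rw [hc]
          _ = g * x ^ m * g⁻¹ * (g * x * g⁻¹) := by group
      refine ⟨g⁻¹, g * x * g⁻¹, ⟨h1, ?_⟩, by group⟩
      intro e
      rw [Set.mem_singleton_iff] at e
      have h2 : x = 1 := by
        have : x = g⁻¹ * (g * x * g⁻¹) * g := by group
        rw [this, e]; group
      rw [h2, one_pow, orderOf_one] at ho
      exact hp.out.one_lt.ne ho
    · right
      obtain ⟨g, hg⟩ := H531.TwoPrimes.conj_mem_centralizer Q (hreg x hx)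
      exact ⟨g⁻¹, g * x * g⁻¹, hg, by group⟩
  have hcard : Nat.card S ≤ Nat.card A + Nat.card B := by
    rw [← Nat.card_sum]
    refine Nat.card_le_card_of_surjective (Sum.elim (fun a : A => (a : S)) (fun b : B => (b : S))) ?_
    intro x
    rcases hcov x with hx | hx
    · exact ⟨Sum.inl ⟨x, hx⟩, rfl⟩
    · exact ⟨Sum.inr ⟨x, hx⟩, rfl⟩
  -- estimates
  have h1 : 2 * Nat.card T ≤ Nat.card NT := h.two_mul_le_normalizer hna hT
  have h2 : 2 * Nat.card C ≤ Nat.card NQ := by
    have hle : C ≤ NQ := by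
      intro c hc
      rw [hC, mem_centralizer_iff] at hc
      rw [hNQ, mem_normalizer_iff]
      intro z
      constructor
      · intro hz
        have := hc z hz
        rwa [← this, mul_inv_cancel_right]
      · intro hz
        have := hc _ hz
        have h3 : c * z * c⁻¹ * c = c * (c * z * c⁻¹) := this
        have h4 : z = c⁻¹ * (c * z * c⁻¹) * c := by group
        rw [h4, mul_assoc, h3, inv_mul_cancel_left]
        exact hz
    have hne : C ≠ NQ := by
      intro e
      exact not_normalizer_le hna hd Q e.symm.le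
    obtain ⟨c, hc⟩ : Nat.card C ∣ Nat.card NQ := Subgroup.card_dvd_of_le hle
    have hpos : 0 < Nat.card NQ := Nat.card_pos
    have hc1 : c ≠ 1 := by
      rintro rfl
      rw [mul_one] at hc
      exact hne (Subgroup.eq_of_le_of_card_ge hle hc.le)
    have hc0 : c ≠ 0 := by
      rintro rfl
      omega
    rw [hc, mul_comm]
    exact Nat.mul_le_mul_left _ (by omega)
  have hT1 : Nat.card ((T : Set S) \ {1} : Set S) + 1 = Nat.card T := by
    rw [Nat.card_coe_set_eq, Set.ncard_sdiff_singleton_of_mem (one_mem T)]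
    have : 0 < (T : Set S).ncard := by
      rw [Set.ncard_pos]
      exact ⟨1, one_mem T⟩
    have h3 : (T : Set S).ncard = Nat.card T := rfl
    omega
  have h3 := Subgroup.card_mul_index NT
  have h4 := Subgroup.card_mul_index NQ
  have h5 : 0 < NT.index := Nat.pos_of_ne_zero NT.index_ne_zero_of_finite
  have e1 : 2 * (NT.index * Nat.card ((T : Set S) \ {1} : Set S)) + 2 * NT.index ≤ Nat.card S := by
    calc 2 * (NT.index * Nat.card ((T : Set S) \ {1} : Set S)) + 2 * NT.index
        = NT.index * (2 * (Nat.card ((T : Set S) \ {1} : Set S) + 1)) := by ring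
      _ = NT.index * (2 * Nat.card T) := by rw [hT1]
      _ ≤ NT.index * Nat.card NT := Nat.mul_le_mul_left _ h1
      _ = Nat.card S := by rw [← h3]; ring
  have e2 : 2 * (NQ.index * Nat.card C) ≤ Nat.card S := by
    calc 2 * (NQ.index * Nat.card C) = NQ.index * (2 * Nat.card C) := by ring
      _ ≤ NQ.index * Nat.card NQ := Nat.mul_le_mul_left _ h2
      _ = Nat.card S := by rw [← h4]; ring
  omega

/-- **Main lemma for `p'`-elements.** -/
theorem CC.regB [IsSimpleGroup S] (hna : ¬ ∀ a b : S, a * b = b * a) {T : Subgroup S} (h : CC T) {p q : ℕ}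
    (hp : p.Prime) (hq : q.Prime) (hd : q ∣ Nat.card S) : RegB S p q := by
  have hpf : Fact p.Prime := ⟨hp⟩
  have hqf : Fact q.Prime := ⟨hq⟩
  obtain ⟨r, hr, hrd⟩ : ∃ r : ℕ, r.Prime ∧ r ∣ Nat.card T :=
    Nat.exists_prime_and_dvd fun e => h.ne_bot (card_eq_one.1 e)
  by_cases hqT : q ∣ Nat.card T
  · -- a prime `s ≠ p` dividing the index of `T`
    obtain ⟨s, hs, hsd, hsp⟩ : ∃ s : ℕ, s.Prime ∧ s ∣ T.index ∧ s ≠ p := by
      by_contra hcon
      push Not at hcon
      have hpow : T.index = p ^ T.index.factorization p := by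
        have := Nat.eq_prime_pow_of_unique_prime_dvd T.index_ne_zero_of_finite
          (fun {d} hd hdd => hcon d hd hdd)
        rw [this, hp.factorization_pow, Finsupp.single_eq_same]
      have hrf : Fact r.Prime := ⟨hr⟩
      obtain ⟨x, hx⟩ := exists_prime_orderOf_dvd_card' r hrd
      have hx' : orderOf (x : S) = r := by rw [Subgroup.orderOf_coe]; exact hx
      have hx1 : (x : S) ≠ 1 := by
        intro e
        rw [e, orderOf_one] at hx'
        exact hr.one_lt.ne hx'
      have hcx : centralizer ({(x : S)} : Set S) = T := by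
        apply le_antisymm (h.cent x x.2 hx1)
        intro a ha
        rw [mem_centralizer_singleton_iff]
        exact (h.comm a ha x x.2).eq
      have hprime := S0143.result p _ hp (x : S) hx1 (by rw [hcx]; exact hpow)
      have hcyc : IsCyclic S := isCyclic_of_prime_card (hp := ⟨hprime⟩) rfl
      apply hna
      intro a b
      exact (IsCyclic.commGroup (α := S)).mul_comm a b
    have hsT : ¬ s ∣ Nat.card T := fun e => hs.one_lt.ne' (Nat.dvd_one.1 (h.coprime ▸ Nat.dvd_gcd e hsd))
    have hsf : Fact s.Prime := ⟨hs⟩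
    obtain ⟨y, hy⟩ := exists_prime_orderOf_dvd_card' s (hsd.trans T.index_dvd_card)
    refine ⟨y, ?_, dvd_index hq hd (h.not_dvd_card hs hy hsT hq hqT)⟩
    rw [hy]
    intro e
    exact hsp ((Nat.prime_dvd_prime_iff_eq hp hs).1 e).symm
  · by_cases hex : ∃ r : ℕ, r.Prime ∧ r ∣ Nat.card T ∧ r ≠ p
    · obtain ⟨r, hr, hrd, hrp⟩ := hex
      have hrf : Fact r.Prime := ⟨hr⟩
      obtain ⟨x, hx⟩ := exists_prime_orderOf_dvd_card' r hrd
      have hx' : orderOf (x : S) = r := by rw [Subgroup.orderOf_coe]; exact hx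
      have hx1 : (x : S) ≠ 1 := by
        intro e
        rw [e, orderOf_one] at hx'
        exact hr.one_lt.ne hx'
      refine ⟨x, ?_, (dvd_index hq hd hqT).trans (index_dvd_of_le (h.cent x x.2 hx1))⟩
      rw [hx']
      intro e
      exact hrp ((Nat.prime_dvd_prime_iff_eq hp hr).1 e).symm
    · push Not at hex
      have hT : IsPGroup p T := by
        rw [IsPGroup.iff_card]
        exact ⟨_, Nat.eq_prime_pow_of_unique_prime_dvd Nat.card_pos.ne' (fun {d} hd hdd => hex d hd hdd)⟩
      exact h.false_of_count hna hT hd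

end

end Cfsg.Agent.H524.DirRed
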