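import Mathlib
import Cfsg.Agent.S0144
import Cfsg.Agent.H524.CCSub
import Cfsg.Agent.H463.LieReg

/-!
# Class sizes in the groups of Lie type

* `primB_of_regular`, `regB_of_regular`: groups having an `l`-element whose centralizer is an `l`-group;
* `primB_lie`, `regB_lie`: groups of Lie type in characteristic `l` (`regB_lie` for `p ≠ l`);
* `exists_third_prime`: three primes divide the order of a nonabelian simple group.
-/

set_option autoImplicit false
set_option linter.unusedSectionVars false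

namespace Cfsg.Agent.H524.LieRow

open Subgroup Cfsg.Agent.H524.DirRed Cfsg.Agent.H524.ClassSize

universe u

/-- The order of a nonabelian simple group has a prime divisor different from two given primes. -/
theorem exists_third_prime {S : Type*} [Group S] [Finite S] [IsSimpleGroup S] (hna : ¬ ∀ a b : S, a * b = b * a)
    {p l : ℕ} (hp : p.Prime) (hl : l.Prime) : ∃ r, r.Prime ∧ r ≠ p ∧ r ≠ l ∧ r ∣ Nat.card S := by
  by_contra hcon
  push Not at hcon
  have h1 : Nat.card S ≠ 0 := Nat.card_pos.ne'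
  have h2 : ∃ b, Nat.card S / p ^ (Nat.card S).factorization p = l ^ b := by
    refine ⟨_, Nat.eq_prime_pow_of_unique_prime_dvd (Nat.ordCompl_pos p h1).ne' ?_⟩
    intro d hd hdd
    by_contra hdl
    refine hcon d hd ?_ hdl (hdd.trans (Nat.ordCompl_dvd _ _))
    rintro rfl
    exact Nat.not_dvd_ordCompl hd h1 hdd
  obtain ⟨b, hb⟩ := h2
  have h3 : Nat.card S = p ^ (Nat.card S).factorization p * l ^ b := by
    rw [← hb, Nat.ordProj_mul_ordCompl_eq_self]
  have h4 := S0144.result (G := S) p l _ b hp hl h3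
  exact hna (fun a b => (IsSimpleGroup.comm_iff_isSolvable.2 h4) a b)

section

variable {S : Type*} [Group S] [Finite S] {l : ℕ}

/-- An element of prime order `r ≠ l` has class size divisible by `l`. -/
theorem dvd_index_of_regular (hl : l.Prime) {z : S} (hz : ∃ k, orderOf z = l ^ k)
    (hC : IsPGroup l (centralizer ({z} : Set S))) {r : ℕ} (hr : r.Prime) (hrl : r ≠ l) {x : S}
    (hx : orderOf x = r) : l ∣ (centralizer ({x} : Set S)).index := by
  have : Fact l.Prime := ⟨hl⟩
  by_contra hcon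
  obtain ⟨P, -, hP⟩ := exists_sylow_between hcon (A := ⊥) (IsPGroup.of_bot) bot_le
  have hz1 : IsPGroup l (zpowers z) := by
    obtain ⟨k, hk⟩ := hz
    apply IsPGroup.of_card (n := k)
    rw [Nat.card_zpowers, hk]
  obtain ⟨Q, hQ⟩ := hz1.exists_le_sylow
  obtain ⟨g, hg⟩ := MulAction.exists_smul_eq S Q P
  have h1 : g * z * g⁻¹ ∈ (P : Subgroup S) := by
    rw [← hg]
    exact Subgroup.smul_mem_pointwise_smul_iff.2 (hQ (mem_zpowers z))
  have h2 := hP h1
  rw [mem_centralizer_singleton_iff] at h2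
  have h3 : g⁻¹ * x * g ∈ centralizer ({z} : Set S) := by
    rw [mem_centralizer_singleton_iff]
    have e : g⁻¹ * (x * (g * z * g⁻¹)) * g = g⁻¹ * x * g * z := by group
    have e' : g⁻¹ * ((g * z * g⁻¹) * x) * g = z * (g⁻¹ * x * g) := by group
    rw [← e, ← e', h2]
  obtain ⟨j, hj⟩ := hC ⟨_, h3⟩
  have h4 : (g⁻¹ * x * g) ^ l ^ j = 1 := congrArg Subtype.val hj
  have h5 : orderOf (g⁻¹ * x * g) = r := by
    rw [← hx]
    have := MulEquiv.orderOf_eq (MulAut.conj g⁻¹) x
    simpa [MulAut.conj_apply] using this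
  have h6 := orderOf_dvd_of_pow_eq_one h4
  rw [h5] at h6
  exact hrl ((Nat.prime_dvd_prime_iff_eq hr hl).1 (hr.dvd_of_dvd_pow h6))

/-- The class of `z` has size divisible by every prime `q ≠ l` dividing the group order. -/
theorem dvd_index_regular {z : S} (hl : l.Prime) (hC : IsPGroup l (centralizer ({z} : Set S))) {q : ℕ} (hq : q.Prime)
    (hql : q ≠ l) (hd : q ∣ Nat.card S) : q ∣ (centralizer ({z} : Set S)).index := by
  have : Fact l.Prime := ⟨hl⟩
  refine dvd_index hq hd fun h => ?_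
  obtain ⟨n, hn⟩ := IsPGroup.iff_card.1 hC
  rw [hn] at h
  exact hql ((Nat.prime_dvd_prime_iff_eq hq hl).1 (hq.dvd_of_dvd_pow h))

theorem primB_of_regular [IsSimpleGroup S] (hna : ¬ ∀ a b : S, a * b = b * a) (hl : l.Prime) {z : S}
    (hz : ∃ k, orderOf z = l ^ k) (hC : IsPGroup l (centralizer ({z} : Set S))) {p : ℕ} (hp : p.Prime)
    (hd : p ∣ Nat.card S) : PrimB S p := by
  by_cases hpl : p = l
  · subst hpl
    obtain ⟨r, hr, hrp, -, hrS⟩ := exists_third_prime hna hp hp
    have : Fact r.Prime := ⟨hr⟩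
    obtain ⟨x, hx⟩ := exists_prime_orderOf_dvd_card' r hrS
    exact ⟨x, ⟨r, 1, hr, hrp, by rw [hx, pow_one]⟩, dvd_index_of_regular hp hz hC hr hrp hx⟩
  · obtain ⟨k, hk⟩ := hz
    exact ⟨z, ⟨l, k, hl, Ne.symm hpl, hk⟩, dvd_index_regular hl hC hp hpl hd⟩

theorem regB_of_regular [IsSimpleGroup S] (hna : ¬ ∀ a b : S, a * b = b * a) (hl : l.Prime) {z : S}
    (hz : ∃ k, orderOf z = l ^ k) (hC : IsPGroup l (centralizer ({z} : Set S))) {p q : ℕ} (hp : p.Prime)
    (hq : q.Prime) (hpl : p ≠ l) (hd : q ∣ Nat.card S) : RegB S p q := by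
  by_cases hql : q = l
  · subst hql
    obtain ⟨r, hr, hrp, hrq, hrS⟩ := exists_third_prime hna hp hq
    have : Fact r.Prime := ⟨hr⟩
    obtain ⟨x, hx⟩ := exists_prime_orderOf_dvd_card' r hrS
    refine ⟨x, ?_, dvd_index_of_regular hq hz hC hr hrq hx⟩
    rw [hx]
    exact fun h => hrp ((Nat.prime_dvd_prime_iff_eq hp hr).1 h).symm
  · refine ⟨z, ?_, dvd_index_regular hl hC hq hql hd⟩
    obtain ⟨k, hk⟩ := hz
    rw [hk]
    exact fun h => hpl ((Nat.prime_dvd_prime_iff_eq hp hl).1 (hp.dvd_of_dvd_pow h))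

end

/-- **Groups of Lie type.** -/
theorem primB_lie {S : Type u} [Group S] [Finite S] [hs : IsSimpleGroup S] (hna : ¬ ∀ a b : S, a * b = b * a) {l : ℕ}
    (h : Cfsg.IsLieTypeChar l S) {p : ℕ} (hp : p.Prime) (hd : p ∣ Nat.card S) : PrimB S p := by
  obtain ⟨z, -, hz, hC⟩ := H463.LieReg.exists_regular_isPGroup hs h
  exact primB_of_regular hna (H463.LieReg.prime h) hz hC hp hd

/-- **Groups of Lie type**, `p ≠ l`. -/
theorem regB_lie {S : Type u} [Group S] [Finite S] [hs : IsSimpleGroup S] (hna : ¬ ∀ a b : S, a * b = b * a) {l : ℕ}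
    (h : Cfsg.IsLieTypeChar l S) {p q : ℕ} (hp : p.Prime) (hq : q.Prime) (hpl : p ≠ l) (hd : q ∣ Nat.card S) :
    RegB S p q := by
  obtain ⟨z, -, hz, hC⟩ := H463.LieReg.exists_regular_isPGroup hs h
  exact regB_of_regular hna (H463.LieReg.prime h) hz hC hp hq hpl hd

end Cfsg.Agent.H524.LieRow
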