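import Mathlib
import Cfsg.Agent.H524.CCSub
import Cfsg.Agent.H393.Iso.Base

/-!
# Sporadic groups: tools for `PrimB`, `RegB`

* `PrimB.of_not_dvd`: an element of order `r ^ k` whose centralizer has not the full `p`-part;
* `primB_two`, `primB_self`: from `NA r`;
* `CC.of_card`: an element of prime order `r` with centralizer of order `r`.
-/

set_option autoImplicit false
set_option linter.unusedSectionVars false

namespace Cfsg.Agent.H524.SporTool

open Subgroup Cfsg.Agent.H524.DirRed Cfsg.Agent.H524.ClassSize Cfsg.Agent.H393.Iso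

variable {S : Type*} [Group S]

theorem card_centralizer_map {T : Type*} [Group T] (e : S ≃* T) (x : S) :
    (centralizer ({e x} : Set T)) = (centralizer ({x} : Set S)).map e.toMonoidHom := by
  ext y
  rw [mem_map_equiv, mem_centralizer_singleton_iff, mem_centralizer_singleton_iff]
  constructor
  · intro h
    apply e.injective
    rw [map_mul, map_mul, e.apply_symm_apply, h]
  · intro h
    have := congrArg e h
    rwa [map_mul, map_mul, e.apply_symm_apply] at this

theorem card_centralizer_equiv {T : Type*} [Group T] (e : S ≃* T) (x : S) :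
    Nat.card (centralizer ({e x} : Set T)) = Nat.card (centralizer ({x} : Set S)) := by
  rw [card_centralizer_map]
  exact Subgroup.card_map_of_injective e.injective

theorem index_centralizer_map {T : Type*} [Group T] (e : S ≃* T) (x : S) :
    (centralizer ({e x} : Set T)).index = (centralizer ({x} : Set S)).index := by
  rw [card_centralizer_map]
  exact Subgroup.index_map_equiv _ e

theorem _root_.Cfsg.Agent.H524.DirRed.PrimB.congr {T : Type*} [Group T] (e : S ≃* T) {p : ℕ} (h : PrimB S p) :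
    PrimB T p := by
  obtain ⟨x, ⟨r, k, hr, hrp, hk⟩, hd⟩ := h
  exact ⟨e x, ⟨r, k, hr, hrp, by rwa [MulEquiv.orderOf_eq]⟩, by rwa [index_centralizer_map]⟩

theorem _root_.Cfsg.Agent.H524.DirRed.RegB.congr {T : Type*} [Group T] (e : S ≃* T) {p q : ℕ} (h : RegB S p q) :
    RegB T p q := by
  obtain ⟨x, hp, hd⟩ := h
  exact ⟨e x, by rwa [MulEquiv.orderOf_eq], by rwa [index_centralizer_map]⟩

variable [Finite S]

/-- If the centralizer of `x` has not the full `p`-part, `p` divides the class size. -/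
theorem dvd_index_of_pow {x : S} {p a : ℕ} (hp : p.Prime) (ha : p ^ a ∣ Nat.card S)
    (hx : ¬ p ^ a ∣ Nat.card (centralizer ({x} : Set S))) : p ∣ (centralizer ({x} : Set S)).index := by
  by_contra hcon
  apply hx
  rw [← Subgroup.card_mul_index (centralizer ({x} : Set S))] at ha
  exact Nat.Coprime.dvd_of_dvd_mul_right (Nat.Coprime.pow_left _ ((Nat.Prime.coprime_iff_not_dvd hp).2 hcon)) ha

theorem PrimB.of_pow {x : S} {p a r k : ℕ} (hp : p.Prime) (hr : r.Prime) (hrp : r ≠ p) (hx : orderOf x = r ^ k)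
    (ha : p ^ a ∣ Nat.card S) (h : ¬ p ^ a ∣ Nat.card (centralizer ({x} : Set S))) : PrimB S p :=
  ⟨x, ⟨r, k, hr, hrp, hx⟩, dvd_index_of_pow hp ha h⟩

/-- `p` odd, an involution. -/
theorem primB_of_two {t : S} {p a N : ℕ} (hp : p.Prime) (hp2 : p ≠ 2) (ht : orderOf t = 2)
    (hN : Nat.card (centralizer ({t} : Set S)) ∣ N) (ha : p ^ a ∣ Nat.card S) (h : ¬ p ^ a ∣ N) : PrimB S p :=
  PrimB.of_pow hp Nat.prime_two (Ne.symm hp2) (by rw [ht, pow_one]) ha (fun hc => h (hc.trans hN))

/-- An element of order `r`, `NA r`. -/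
theorem primB_two {r : ℕ} (h : NA r S) (hr : r.Prime) (hr2 : r ≠ 2) (hd : r ∣ Nat.card S) (h2 : 2 ∣ Nat.card S) :
    PrimB S 2 := by
  have : Fact r.Prime := ⟨hr⟩
  have : Fact (Nat.Prime 2) := ⟨Nat.prime_two⟩
  obtain ⟨x, hx⟩ := exists_prime_orderOf_dvd_card' r hd
  refine ⟨x, ⟨r, 1, hr, hr2, by rw [hx, pow_one]⟩, dvd_index Nat.prime_two h2 fun hc => ?_⟩
  obtain ⟨t, ht⟩ := exists_prime_orderOf_dvd_card' 2 hc
  refine h x t hx (by rw [Subgroup.orderOf_coe, ht]) ?_
  exact (mem_centralizer_singleton_iff.1 t.2).symm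

/-- Involutions, `NA r`. -/
theorem primB_self {r : ℕ} (h : NA r S) (hr : r.Prime) (hr2 : r ≠ 2) (hd : r ∣ Nat.card S) (h2 : 2 ∣ Nat.card S) :
    PrimB S r := by
  have : Fact r.Prime := ⟨hr⟩
  have : Fact (Nat.Prime 2) := ⟨Nat.prime_two⟩
  obtain ⟨t, ht⟩ := exists_prime_orderOf_dvd_card' 2 h2
  refine ⟨t, ⟨2, 1, Nat.prime_two, Ne.symm hr2, by rw [ht, pow_one]⟩, dvd_index hr hd fun hc => ?_⟩
  obtain ⟨x, hx⟩ := exists_prime_orderOf_dvd_card' r hc
  refine h x t (by rw [Subgroup.orderOf_coe, hx]) ht ?_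
  exact mem_centralizer_singleton_iff.1 x.2

/-- An element of prime order `r` with centralizer of order `r`. -/
theorem _root_.Cfsg.Agent.H524.DirRed.CC.of_card {x : S} {r : ℕ} (hr : r.Prime) (hx : orderOf x = r)
    (hC : Nat.card (centralizer ({x} : Set S)) = r) : CC (zpowers x) := by
  have : Fact r.Prime := ⟨hr⟩
  have hCx : centralizer ({x} : Set S) = zpowers x := by
    symm
    apply eq_of_le_of_card_ge
    · rw [zpowers_le]
      exact mem_centralizer_singleton_iff.2 rfl
    · rw [hC, Nat.card_zpowers, hx]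
  refine ⟨?_, ?_, ?_⟩
  · intro h
    have : x ∈ zpowers x := mem_zpowers x
    rw [h, mem_bot] at this
    rw [this, orderOf_one] at hx
    exact hr.one_lt.ne hx
  · rintro a ⟨i, rfl⟩ b ⟨j, rfl⟩
    exact (Commute.refl x).zpow_zpow i j
  · rintro y hy hy1 z hz
    rw [← hCx, mem_centralizer_singleton_iff]
    rw [mem_centralizer_singleton_iff] at hz
    have h1 : orderOf y = r := by
      have h2 : orderOf y ∣ r := by
        rw [← hx]
        exact orderOf_dvd_of_mem_zpowers hy
      rcases (Nat.dvd_prime hr).1 h2 with h3 | h3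
      · rw [orderOf_eq_one_iff] at h3
        exact absurd h3 hy1
      · exact h3
    have h3 : zpowers y = zpowers x := by
      apply eq_of_le_of_card_ge
      · rw [zpowers_le]; exact hy
      · rw [Nat.card_zpowers, Nat.card_zpowers, h1, hx]
    have h4 : x ∈ zpowers y := by rw [h3]; exact mem_zpowers x
    obtain ⟨i, hi⟩ := h4
    rw [← hi]
    exact (show Commute z y from hz).zpow_right i

/-- From the centralizer of a Sylow subgroup of order `r`. -/
theorem _root_.Cfsg.Agent.H524.DirRed.CC.of_sylow {r : ℕ} [hr : Fact r.Prime] (hd : r ∣ Nat.card S) (hr2 : ¬ r ^ 2 ∣ Nat.card S)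
    (h : ∀ P : Sylow r S, centralizer (P : Set S) = (P : Subgroup S)) : ∃ T : Subgroup S, CC T := by
  obtain ⟨x, hx⟩ := exists_prime_orderOf_dvd_card' r hd
  have hZ : IsPGroup r (zpowers x) := by
    rw [IsPGroup.iff_card]
    exact ⟨1, by rw [Nat.card_zpowers, hx, pow_one]⟩
  obtain ⟨P, hP⟩ := hZ.exists_le_sylow
  have hPc : (P : Subgroup S) = zpowers x := by
    obtain ⟨k, hk⟩ := IsPGroup.iff_card.1 P.2
    have h2 : k < 2 := by
      by_contra hc
      push Not at hc
      exact hr2 ((pow_dvd_pow r hc).trans (hk ▸ card_subgroup_dvd_card _))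
    symm
    apply eq_of_le_of_card_ge hP
    rw [hk, Nat.card_zpowers, hx]
    calc r ^ k ≤ r ^ 1 := Nat.pow_le_pow_right hr.out.pos (by omega)
      _ = r := pow_one r
  have h1 : centralizer ({x} : Set S) = zpowers x := by
    have h2 : centralizer (((P : Subgroup S)) : Set S) = (P : Subgroup S) := h P
    rw [hPc] at h2
    have h3 : centralizer ((zpowers x : Subgroup S) : Set S) = centralizer ({x} : Set S) := by
      rw [zpowers_eq_closure, centralizer_closure]
    rwa [h3] at h2
  exact ⟨zpowers x, CC.of_card hr.out hx (by rw [h1, Nat.card_zpowers, hx])⟩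

/-- Both properties. -/
def Both (S : Type*) [Group S] : Prop :=
  (∀ p : ℕ, p.Prime → p ∣ Nat.card S → PrimB S p) ∧
    ∀ p q : ℕ, p.Prime → q.Prime → p ≠ q → q ∣ Nat.card S → RegB S p q

end Cfsg.Agent.H524.SporTool
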