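import Mathlib
import Cfsg.Agent.H524.SporTool
import Cfsg.Agent.H729.PairTable
import Cfsg.Agent.H604.Cop.Conway

/-!
# Self-centralizing elements of prime order: `J₂`, `Ru`, `Suz`, `Co₁`, `Co₂`, `Co₃`

`SC S` : some element of prime order `r` has a centralizer of order `r`.
-/

set_option autoImplicit false

namespace Cfsg.Agent.H524.SporTool

open Subgroup Cfsg Cfsg.Agent.H524.DirRed

/-- an element of prime order with a centralizer of the same order -/
def SC (S : Type*) [Group S] : Prop :=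
  ∃ x : S, (orderOf x).Prime ∧ Nat.card (centralizer ({x} : Set S)) = orderOf x

theorem SC.congr {S T : Type*} [Group S] [Group T] (e : S ≃* T) (h : SC S) : SC T := by
  obtain ⟨x, h1, h2⟩ := h
  exact ⟨e x, by rwa [MulEquiv.orderOf_eq], by rw [card_centralizer_equiv, MulEquiv.orderOf_eq, h2]⟩

theorem SC.exists_cc {S : Type*} [Group S] [Finite S] (h : SC S) : ∃ T : Subgroup S, CC T := by
  obtain ⟨x, h1, h2⟩ := h
  exact ⟨_, CC.of_card h1 rfl h2⟩

theorem SC.of_cent {S : Type*} [Group S] {x : S} {r : ℕ} (hr : r.Prime) (hx : orderOf x = r)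
    (h : ∀ c : S, c * x = x * c → ∃ i : ℕ, c = x ^ i) : SC S := by
  refine ⟨x, by rwa [hx], ?_⟩
  have h1 : centralizer ({x} : Set S) = zpowers x := by
    apply le_antisymm
    · intro c hc
      obtain ⟨i, rfl⟩ := h c (mem_centralizer_singleton_iff.1 hc)
      exact pow_mem (mem_zpowers x) i
    · rw [zpowers_le]
      exact mem_centralizer_singleton_iff.2 rfl
  rw [h1, Nat.card_zpowers]

theorem SC.of_card {S : Type*} [Group S] [Finite S] {r : ℕ} (hr : r.Prime) (hd : r ∣ Nat.card S)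
    (h : ∀ x : S, orderOf x = r → Nat.card (centralizer ({x} : Set S)) = r) : SC S := by
  have : Fact r.Prime := ⟨hr⟩
  obtain ⟨x, hx⟩ := exists_prime_orderOf_dvd_card' r hd
  exact ⟨x, by rwa [hx], by rw [hx, h x hx]⟩

/-- from a subgroup of prime order -/
theorem SC.of_zpowers {S : Type*} [Group S] [Finite S] {r : ℕ} (hr : r.Prime) (hd : r ∣ Nat.card S)
    (h : ∀ P : Subgroup S, Nat.card P = r → Nat.card (centralizer (P : Set S)) = r) : SC S := by
  refine SC.of_card hr hd fun x hx => ?_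
  have h1 := h (zpowers x) (by rw [Nat.card_zpowers, hx])
  have h3 : centralizer ((zpowers x : Subgroup S) : Set S) = centralizer ({x} : Set S) := by
    rw [zpowers_eq_closure, centralizer_closure]
  rwa [h3] at h1

theorem sc_j2 {G : Type*} [Group G] (h : Spor.IsoJ2 G) : SC G := by
  obtain ⟨e⟩ := h
  obtain ⟨f⟩ := Cfsg.Agent.J2.HundredGens.J2_iso Cfsg.Agent.S1619.result.2.2.2
  refine SC.congr (e.trans f).symm (SC.of_cent (r := 7) (by norm_num)
    (x := (⟨OddHalf.Table.OutJ2.x, OddHalf.Table.OutJ2.x_mem⟩ : SporadicA.J2Hundred.G))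
    (by rw [Subgroup.orderOf_mk]; exact OddHalf.Table.OutJ2.order_x) ?_)
  rintro ⟨c, hc⟩ h
  obtain ⟨i, hi⟩ := OddHalf.Table.OutJ2.cent_x hc (congrArg Subtype.val h)
  exact ⟨i, Subtype.ext hi⟩

open OddHalf.Table.OutRu in
theorem sc_ru {G : Type*} [Group G] (h : Spor.IsoRu G) : SC G := by
  obtain ⟨e⟩ := h
  exact SC.congr (e.trans RuLat.Main.equiv).symm (SC.of_cent (r := 29) (by norm_num) orderOf_x cent_x')

open OddHalf.Table.OutSuz OddHalf.Table.SuzRep in
theorem sc_suz {G : Type*} [Group G] (h : Spor.IsoSuz G) : SC G := by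
  obtain ⟨e⟩ := h
  exact SC.congr e.symm (SC.of_cent (r := 11) (by norm_num) order_x cent_x)

open Cfsg Cfsg.Spor Cfsg.Agent.LeechMat.Core Cfsg.Agent.SporadicA.GolayBase Cfsg.Agent.SporadicStructure.TabPerm
  Cfsg.Agent.CpAutBig.FixCount Cfsg.Agent.CpAutBig.Tab Cfsg.Agent.MonsterU.Lam2 Cfsg.Agent.CoOneType.ClosingFacts
  Cfsg.Agent.CpAutBig in
open Cfsg.Agent.SporadicA.Co0Mono (signCo0 permCo0 permCo0_smul permMap_apply) in
open Cfsg.Agent.SporadicA.Co1Simple (allOne) in
open Cfsg.Agent.H604.Cop.Conway in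
theorem sc_of_inc {K : Type*} [Group K] [Finite K]
    (i : K →* Co0) (hi : Function.Injective i) (hc : 23 ∣ Nat.card K) (hZ : ∀ g : K, i g ≠ signCo0 allOne) :
    SC K := by
  have hfin := CoZero.finite_co0
  have h23 : Fact (Nat.Prime 23) := ⟨by norm_num⟩
  obtain ⟨z, hz⟩ := exists_prime_orderOf_dvd_card' 23 hc
  have hz' : orderOf (i z) = 23 := by rw [orderOf_injective i hi, hz]
  refine ⟨z, by rw [hz]; norm_num, card_eq hz ?_⟩
  have h1 := card_cent_co0 hz'
  classical
  let f : ↥(centralizer ({z} : Set K)) × Bool → ↥(centralizer ({i z} : Set Co0)) := fun a =>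
    ⟨i a.1 * (if a.2 then signCo0 allOne else 1), by
      have h2 := mem_centralizer_singleton_iff.1 a.1.2
      rw [mem_centralizer_singleton_iff]
      have h3 : i a.1 * i z = i z * i a.1 := by rw [← map_mul, h2, map_mul]
      by_cases hb : a.2
      · rw [if_pos hb, mul_assoc, LThreeBX.NoSeven.n_comm, ← mul_assoc, h3, mul_assoc]
      · rw [if_neg hb, mul_one, h3]⟩
  have hf : Function.Injective f := by
    rintro ⟨a, s⟩ ⟨b, t⟩ h
    have h2 : i a * (if s then signCo0 allOne else 1) = i b * (if t then signCo0 allOne else 1) :=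
      congrArg Subtype.val h
    have key : ∀ a b : K, i a * signCo0 allOne = i b → False := by
      intro a b hab
      apply hZ (a⁻¹ * b)
      rw [map_mul, map_inv, ← hab, inv_mul_cancel_left]
    cases s <;> cases t
    · replace h2 : i a * 1 = i b * 1 := h2
      rw [Prod.mk.injEq]
      exact ⟨Subtype.ext (hi (mul_right_cancel h2)), rfl⟩
    · replace h2 : i a * 1 = i b * signCo0 allOne := h2
      rw [mul_one] at h2
      exact (key _ _ h2.symm).elim
    · replace h2 : i a * signCo0 allOne = i b * 1 := h2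
      rw [mul_one] at h2
      exact (key _ _ h2).elim
    · replace h2 : i a * signCo0 allOne = i b * signCo0 allOne := h2
      rw [Prod.mk.injEq]
      exact ⟨Subtype.ext (hi (mul_right_cancel h2)), rfl⟩
  have h2 := Nat.card_le_card_of_injective f hf
  rw [Nat.card_prod, Nat.card_eq_fintype_card (α := Bool), Fintype.card_bool] at h2
  omega

open Cfsg Cfsg.Spor Cfsg.Agent.LeechMat.Core Cfsg.Agent.SporadicA.GolayBase Cfsg.Agent.SporadicStructure.TabPerm
  Cfsg.Agent.CpAutBig.FixCount Cfsg.Agent.CpAutBig.Tab Cfsg.Agent.MonsterU.Lam2 Cfsg.Agent.CoOneType.ClosingFacts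
  Cfsg.Agent.CpAutBig in
open Cfsg.Agent.SporadicA.Co0Mono (signCo0 permCo0 permCo0_smul permMap_apply) in
open Cfsg.Agent.SporadicA.Co1Simple (allOne) in
theorem sc_co2 {G : Type*} [Group G] (h : Spor.IsoCo2 G) : SC G := by
  obtain ⟨e⟩ := h
  have hf := H49.CoStab.finite_co2
  refine SC.congr e.symm ?_
  let i : Spor.Co2 →* Co0 :=
    { toFun := fun g => ⟨g.1, g.2.1⟩, map_one' := rfl, map_mul' := fun _ _ => rfl }
  refine sc_of_inc i
    (fun a b hab => Subtype.ext (congrArg (fun z : Co0 => (z : Equiv.Perm leechLattice)) hab))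
    (by rw [H49.CoStab.card_co2]; norm_num) ?_
  intro g hg
  have h1 : i g • Spor.leechU = Spor.leechU := g.2.2
  rw [hg] at h1
  have h2 := congrArg (fun u : leechLattice => (u : GolayPt → ℤ) none) h1
  rw [show ((signCo0 allOne : Co0) • Spor.leechU) = -Spor.leechU from Cfsg.Agent.SporadicA.Co1Simple.allOne_smul _] at h2
  have h3 : -((4 : ℤ)) = 4 := h2
  omega

open Cfsg Cfsg.Spor Cfsg.Agent.LeechMat.Core Cfsg.Agent.SporadicA.GolayBase Cfsg.Agent.SporadicStructure.TabPerm
  Cfsg.Agent.CpAutBig.FixCount Cfsg.Agent.CpAutBig.Tab Cfsg.Agent.MonsterU.Lam2 Cfsg.Agent.CoOneType.ClosingFacts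
  Cfsg.Agent.CpAutBig in
open Cfsg.Agent.SporadicA.Co0Mono (signCo0 permCo0 permCo0_smul permMap_apply) in
open Cfsg.Agent.SporadicA.Co1Simple (allOne) in
theorem sc_co3 {G : Type*} [Group G] (h : Spor.IsoCo3 G) : SC G := by
  obtain ⟨e⟩ := h
  have hf := H49.CoStab.finite_co3
  refine SC.congr e.symm ?_
  let i : Spor.Co3 →* Co0 :=
    { toFun := fun g => ⟨g.1, g.2.1⟩, map_one' := rfl, map_mul' := fun _ _ => rfl }
  refine sc_of_inc i
    (fun a b hab => Subtype.ext (congrArg (fun z : Co0 => (z : Equiv.Perm leechLattice)) hab))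
    (by rw [H49.CoStab.card_co3]; norm_num) ?_
  intro g hg
  have h1 : i g • Spor.leechV = Spor.leechV := g.2.2
  rw [hg] at h1
  have h2 := congrArg (fun u : leechLattice => (u : GolayPt → ℤ) none) h1
  rw [show ((signCo0 allOne : Co0) • Spor.leechV) = -Spor.leechV from Cfsg.Agent.SporadicA.Co1Simple.allOne_smul _] at h2
  have h3 : -((-5 : ℤ)) = -5 := h2
  omega

open Cfsg.Agent.H604.Cop.Conway in
theorem sc_co1 {G : Type*} [Group G] (h : Spor.IsoCo1 G) : SC G := by
  obtain ⟨e⟩ := h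
  have hf := BpSpor.MBigCo.finite_co1
  exact SC.congr e.symm ⟨s23, by rw [orderOf_s23]; norm_num, card_eq orderOf_s23 card_cent_s23⟩

end Cfsg.Agent.H524.SporTool
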