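import Mathlib
import Cfsg.Agent.H524.SporTool
import Cfsg.Agent.H393.Iso.Mathieu

/-!
# The Mathieu groups: `PrimB`, `RegB`
-/

set_option autoImplicit false

namespace Cfsg.Agent.H524.SporTool

open Subgroup Cfsg Cfsg.Agent.H524.DirRed

variable {G : Type*} [Group G] [Finite G] [IsSimpleGroup G]

theorem both_of_cc (hna : ¬ ∀ a b : G, a * b = b * a) (h : ∃ T : Subgroup G, CC T) : Both G := by
  obtain ⟨T, hT⟩ := h
  exact ⟨fun p hp hd => hT.primB hna hp hd, fun p q hp hq _ hd => hT.regB hna hp hq hd⟩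

theorem cc_m11 (h : Spor.IsoM11 G) : ∃ T : Subgroup G, CC T := by
  have hc := NotCT.Orders.m11 h
  have : Fact (Nat.Prime 11) := ⟨by norm_num⟩
  obtain ⟨x, hx⟩ := exists_prime_orderOf_dvd_card' (G := G) 11 (by rw [hc]; norm_num)
  exact ⟨_, CC.of_card (by norm_num) hx
    (SporadicA.M11Sylow.card_centralizer_eleven (⟨inferInstance, hc⟩ : IsM11 G) hx)⟩

theorem cc_m12 (h : Spor.IsoM12 G) : ∃ T : Subgroup G, CC T := by
  have hc := NotCT.Orders.m12 h
  have : Fact (Nat.Prime 11) := ⟨by norm_num⟩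
  exact CC.of_sylow (r := 11) (by rw [hc]; norm_num) (by rw [hc]; norm_num)
    (fun P => MTwelve.SylowEleven.centralizer_sylow11 hc P)

theorem cc_m22 (h : Spor.IsoM22 G) : ∃ T : Subgroup G, CC T := by
  have hc := NotCT.Orders.m22 h
  have : Fact (Nat.Prime 11) := ⟨by norm_num⟩
  exact CC.of_sylow (r := 11) (by rw [hc]; norm_num) (by rw [hc]; norm_num)
    (fun P => (M22.Sylow11.sylow_eleven hc P).1)

theorem cc_m23 (h : Spor.IsoM23 G) : ∃ T : Subgroup G, CC T := by
  have hc := NotCT.Orders.m23 h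
  have : Fact (Nat.Prime 23) := ⟨by norm_num⟩
  exact CC.of_sylow (r := 23) (by rw [hc]; norm_num) (by rw [hc]; norm_num)
    (fun P => M23.Sylow23.centralizer_eq hc P)

theorem cc_m24 (h : Spor.IsoM24 G) : ∃ T : Subgroup G, CC T := by
  have hc := NotCT.Orders.m24 h
  have : Fact (Nat.Prime 23) := ⟨by norm_num⟩
  exact CC.of_sylow (r := 23) (by rw [hc]; norm_num) (by rw [hc]; norm_num)
    (fun P => SporadicA.M24.Sylow23.centralizer_eq hc P)

end Cfsg.Agent.H524.SporTool
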