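import Mathlib
import Cfsg.Agent.H524.SporSC
import Cfsg.Agent.H898.J3Cent
import Cfsg.Agent.H836.Main
import Cfsg.Agent.H839.SeventeenMain
import Cfsg.Agent.NotCT.Orders

/-!
# Self-centralizing elements of prime order: `J₃`, `Fi₂₂`, `Fi₂₃`
-/

set_option autoImplicit false

namespace Cfsg.Agent.H524.SporTool

open Subgroup Cfsg Cfsg.Agent.H524.DirRed

theorem sc_j3 {G : Type*} [Group G] (h : Spor.IsoJ3 G) : SC G := by
  obtain ⟨-, hc, -⟩ := H898.J3Cent.base h
  have : Finite G := Nat.finite_of_card_ne_zero (by rw [hc]; norm_num)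
  exact SC.of_card (r := 19) (by norm_num) (by rw [hc]; norm_num) fun x hx => H898.J3Cent.card_nineteen h hx

theorem sc_fi22 {G : Type*} [Group G] (h : Spor.IsoFi22 G) : SC G := by
  obtain ⟨e⟩ := h
  have I := H836.inv_of_iso e
  have hfin : Finite G := I.ctx.finite
  have hc := I.ctx.card
  refine SC.of_zpowers (r := 13) (by norm_num) (by rw [hc]; norm_num) fun P hP => ?_
  obtain ⟨-, h2⟩ := (H836.Main.thirteen_concl e).2 P hP
  rw [h2, hP]

theorem sc_fi23 {G : Type*} [Group G] [Finite G] (h : Spor.IsoFi23 G) : SC G := by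
  have hc := NotCT.Orders.fi23 h
  obtain ⟨e⟩ := h
  refine SC.of_zpowers (r := 23) (by norm_num) (by rw [hc]; norm_num) fun P hP => ?_
  obtain ⟨-, h2⟩ := H839.Fi23.SC.map_all e.symm H839.Fi23.twentythree_main P hP
  rw [h2, hP]

end Cfsg.Agent.H524.SporTool
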