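import Mathlib
import Cfsg.Agent.H524.SporTool
import Cfsg.Agent.H94.PrimeGraph

/-!
# Tools for `RegB`

`RegB S p q` : some `p'`-element has class size divisible by `q`.

* `RegAll S`: for all primes `p ≠ q`, `q` dividing `|S|`;
* `RegB.of_pow`: `q ^ a ∣ |S|`, `q ^ a` does not divide `|C(x)|`, `p` does not divide the order of `x`;
* `RegB.of_dvd`: an `x` with `|C(x)| ∣ N`;
* `RegB.of_not_adj`: `¬ Adj S r q`, `r ≠ p` a prime divisor of `|S|`;
* `RegB.of_two`: from `NA`;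
* `exists_conj_comm`: if `q` does not divide `|S : C(x)|`, each `q`-element has a conjugate commuting with `x`.
-/

set_option autoImplicit false
set_option linter.unusedSectionVars false

namespace Cfsg.Agent.H524.RegTool

open Subgroup Cfsg.Agent.H524.DirRed Cfsg.Agent.H524.ClassSize Cfsg.Agent.H524.SporTool Cfsg.Agent.H393.Iso

/-- The second half of `Both`. -/
def RegAll (S : Type*) [Group S] : Prop :=
  ∀ p q : ℕ, p.Prime → q.Prime → p ≠ q → q ∣ Nat.card S → RegB S p q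

theorem RegAll.congr {S T : Type*} [Group S] [Group T] (e : S ≃* T) (h : RegAll S) : RegAll T := fun p q hp hq hpq hd =>
  (h p q hp hq hpq (by rwa [Nat.card_congr e.toEquiv])).congr e

variable {S : Type*} [Group S] [Finite S] {p q : ℕ}

theorem _root_.Cfsg.Agent.H524.DirRed.RegB.of_pow {x : S} {a : ℕ} (hq : q.Prime) (hx : ¬ p ∣ orderOf x)
    (ha : q ^ a ∣ Nat.card S) (h : ¬ q ^ a ∣ Nat.card (centralizer ({x} : Set S))) : RegB S p q :=
  ⟨x, hx, dvd_index_of_pow hq ha h⟩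

/-- An element whose centralizer has order dividing `N`. -/
theorem _root_.Cfsg.Agent.H524.DirRed.RegB.of_dvd {x : S} {a N : ℕ} (hq : q.Prime) (hx : ¬ p ∣ orderOf x)
    (hN : Nat.card (centralizer ({x} : Set S)) ∣ N) (ha : q ^ a ∣ Nat.card S) (h : ¬ q ^ a ∣ N) : RegB S p q :=
  RegB.of_pow hq hx ha (fun hc => h (hc.trans hN))

/-- an element of prime order `r ≠ p` with centralizer order not divisible by `q` -/
theorem _root_.Cfsg.Agent.H524.DirRed.RegB.of_prime {x : S} {r : ℕ} (hp : p.Prime) (hq : q.Prime) (hr : r.Prime)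
    (hrp : r ≠ p) (hx : orderOf x = r) (hd : q ∣ Nat.card S) (h : ¬ q ∣ Nat.card (centralizer ({x} : Set S))) :
    RegB S p q := by
  refine RegB.of_pow (a := 1) hq ?_ (by rwa [pow_one]) (by rwa [pow_one])
  rw [hx]
  exact fun hc => hrp ((Nat.prime_dvd_prime_iff_eq hp hr).1 hc).symm

/-- from non-adjacency in the prime graph -/
theorem _root_.Cfsg.Agent.H524.DirRed.RegB.of_not_adj {r : ℕ} (hp : p.Prime) (hq : q.Prime) (hr : r.Prime)
    (hrp : r ≠ p) (hrq : r ≠ q) (hrd : r ∣ Nat.card S) (hd : q ∣ Nat.card S) (h : ¬ Cfsg.Agent.H94.PG.Adj S r q) : RegB S p q := by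
  have : Fact r.Prime := ⟨hr⟩
  have : Fact q.Prime := ⟨hq⟩
  obtain ⟨x, hx⟩ := exists_prime_orderOf_dvd_card' r hrd
  refine RegB.of_prime hp hq hr hrp hx hd fun hc => ?_
  obtain ⟨y, hy⟩ := exists_prime_orderOf_dvd_card' q hc
  refine h ⟨hr, hq, hrq, x, y, hx, by rw [Subgroup.orderOf_coe, hy], ?_⟩
  exact (show Commute (y : S) x from mem_centralizer_singleton_iff.1 y.2).symm

/-- `q = 2`, from `NA r`, `r ≠ p`. -/
theorem _root_.Cfsg.Agent.H524.DirRed.RegB.two_of_na {r : ℕ} (hp : p.Prime) (hr : r.Prime) (hrp : r ≠ p)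
    (hr2 : r ≠ 2) (hrd : r ∣ Nat.card S) (hd : 2 ∣ Nat.card S) (h : NA r S) : RegB S p 2 := by
  refine RegB.of_not_adj hp Nat.prime_two hr hrp hr2 hrd hd ?_
  rintro ⟨-, -, -, x, t, hx, ht, hc⟩
  exact h x t hx ht hc

/-- `q = r`, `p ≠ 2`, from `NA r`. -/
theorem _root_.Cfsg.Agent.H524.DirRed.RegB.self_of_na {r : ℕ} (hp : p.Prime) (hr : r.Prime) (hp2 : p ≠ 2)
    (hr2 : r ≠ 2) (hrd : r ∣ Nat.card S) (hd : 2 ∣ Nat.card S) (h : NA r S) : RegB S p r := by
  refine RegB.of_not_adj hp hr Nat.prime_two (Ne.symm hp2) (Ne.symm hr2) hd hrd ?_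
  rintro ⟨-, -, -, t, x, ht, hx, hc⟩
  exact h x t hx ht hc.symm

/-- If `q` does not divide `|S : C(x)|` then every `q`-element has a conjugate commuting with `x`. -/
theorem exists_conj_comm (hq : q.Prime) {x : S} (h : ¬ q ∣ (centralizer ({x} : Set S)).index) {y : S} {k : ℕ}
    (hy : orderOf y = q ^ k) : ∃ g : S, Commute x (g * y * g⁻¹) := by
  have : Fact q.Prime := ⟨hq⟩
  obtain ⟨P, -, hP⟩ := exists_sylow_between h (A := ⊥) (IsPGroup.of_bot) bot_le
  have hz1 : IsPGroup q (zpowers y) := by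
    apply IsPGroup.of_card (n := k)
    rw [Nat.card_zpowers, hy]
  obtain ⟨Q, hQ⟩ := hz1.exists_le_sylow
  obtain ⟨g, hg⟩ := MulAction.exists_smul_eq S Q P
  have h1 : g * y * g⁻¹ ∈ (P : Subgroup S) := by
    rw [← hg]
    exact Subgroup.smul_mem_pointwise_smul_iff.2 (hQ (mem_zpowers y))
  have h2 := hP h1
  rw [mem_centralizer_singleton_iff] at h2
  exact ⟨g, (show Commute (g * y * g⁻¹) x from h2).symm⟩

/-- If `RegB S p q` fails, every `q`-element has a conjugate commuting with the given `p'`-element. -/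
theorem exists_conj_comm_of_not (hq : q.Prime) (h : ¬ RegB S p q) {x : S} (hx : ¬ p ∣ orderOf x) {y : S} {k : ℕ}
    (hy : orderOf y = q ^ k) : ∃ g : S, Commute x (g * y * g⁻¹) :=
  exists_conj_comm hq (fun hc => h ⟨x, hx, hc⟩) hy

end Cfsg.Agent.H524.RegTool
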