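import Mathlib
import Cfsg.Agent.H524.CCSub

/-!
# Sylow arithmetic for Sylow subgroups of prime order

* `syl_arith`: in a nonabelian simple group with Sylow `r`-subgroups of order `r`,
  `|S| = |C(x)| e n` with `e ∣ r - 1`, `e ≠ 1`, `n ≡ 1 (mod r)`;
* `exists_dvd_check`: enumeration.
-/

set_option autoImplicit false
set_option linter.unusedSectionVars false

namespace Cfsg.Agent.H524.SylArith

open Subgroup Cfsg.Agent.H524.DirRed

variable {S : Type*} [Group S] [Finite S]

theorem exists_sylow_eq {r : ℕ} [hr : Fact r.Prime] (hr2 : ¬ r ^ 2 ∣ Nat.card S) {x : S} (hx : orderOf x = r) :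
    ∃ P : Sylow r S, (P : Subgroup S) = zpowers x := by
  have hZ : IsPGroup r (zpowers x) := by
    rw [IsPGroup.iff_card]
    exact ⟨1, by rw [Nat.card_zpowers, hx, pow_one]⟩
  obtain ⟨P, hP⟩ := hZ.exists_le_sylow
  refine ⟨P, ?_⟩
  obtain ⟨k, hk⟩ := IsPGroup.iff_card.1 P.2
  have h2 : k < 2 := by
    by_contra hc
    push Not at hc
    exact hr2 ((pow_dvd_pow r hc).trans (hk ▸ card_subgroup_dvd_card _))
  symm
  apply eq_of_le_of_card_ge hP
  rw [hk, Nat.card_zpowers, hx]
  calc r ^ k ≤ r ^ 1 := Nat.pow_le_pow_right hr.out.pos (by omega)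
    _ = r := pow_one r

/-- **Sylow and Burnside.** -/
theorem syl_arith [IsSimpleGroup S] (hna : ¬ ∀ a b : S, a * b = b * a) {r : ℕ} [hr : Fact r.Prime]
    (hd : r ∣ Nat.card S) (hr2 : ¬ r ^ 2 ∣ Nat.card S) {x : S} (hx : orderOf x = r) :
    ∃ e n : ℕ, e ∣ r - 1 ∧ e ≠ 1 ∧ n % r = 1 ∧ Nat.card S = Nat.card (centralizer ({x} : Set S)) * e * n := by
  obtain ⟨P, hP⟩ := exists_sylow_eq hr2 hx
  set N : Subgroup S := normalizer (((P : Subgroup S)) : Set S) with hN
  set C : Subgroup S := centralizer (((P : Subgroup S)) : Set S) with hC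
  have hCx : C = centralizer ({x} : Set S) := by
    rw [hC, hP, zpowers_eq_closure, centralizer_closure]
  have hCN : C ≤ N := centralizer_le_normalizer _
  have hPc : Nat.card (P : Subgroup S) = r := by rw [hP, Nat.card_zpowers, hx]
  refine ⟨C.relIndex N, Nat.card (Sylow r S), ?_, ?_, ?_, ?_⟩
  · have h1 : C.relIndex N = (P : Subgroup S).normalizerMonoidHom.ker.index := by
      rw [normalizerMonoidHom_ker]
      rfl
    rw [h1, Subgroup.index_ker]
    have hcyc : IsCyclic (P : Subgroup S) := isCyclic_of_prime_card hPc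
    have h2 : Nat.card (MulAut (P : Subgroup S)) = r - 1 := by
      rw [IsCyclic.card_mulAut, hPc, Nat.totient_prime hr.out]
    rw [← h2]
    exact card_subgroup_dvd_card _
  · intro h
    rw [relIndex_eq_one] at h
    exact not_normalizer_le hna hd P h
  · have h1 := card_sylow_modEq_one r S
    rw [Nat.ModEq, Nat.mod_eq_of_lt hr.out.one_lt] at h1
    exact h1
  · have h1 : Nat.card (Sylow r S) = N.index := P.card_eq_index_normalizer
    rw [h1, ← hCx, Subgroup.relIndex]
    have h2 : Nat.card C * (C.subgroupOf N).index = Nat.card N := by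
      rw [← Subgroup.card_mul_index (C.subgroupOf N), Nat.card_congr (Subgroup.subgroupOfEquivOfLe hCN).toEquiv]
    rw [h2, Subgroup.card_mul_index]

/-- The order of the centralizer is `r m`, where `m` is not divisible by `r`. -/
theorem exists_m {r : ℕ} [hr : Fact r.Prime] (hr2 : ¬ r ^ 2 ∣ Nat.card S) {x : S} (hx : orderOf x = r) :
    ∃ m : ℕ, Nat.card (centralizer ({x} : Set S)) = r * m ∧ ¬ r ∣ m := by
  have h1 : r ∣ Nat.card (centralizer ({x} : Set S)) := by
    have h2 : zpowers x ≤ centralizer ({x} : Set S) := by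
      rw [zpowers_le]
      exact mem_centralizer_singleton_iff.2 rfl
    rw [← hx, ← Nat.card_zpowers]
    exact card_dvd_of_le h2
  obtain ⟨m, hm⟩ := h1
  refine ⟨m, hm, fun hd => hr2 ?_⟩
  rw [pow_two]
  exact (Nat.mul_dvd_mul_left r hd).trans (hm ▸ card_subgroup_dvd_card _)

/-- a prime divisor `s` of `|C(x)|`: an element of order `s` commuting with `x` -/
theorem exists_comm {x : S} {s : ℕ} (hs : s.Prime) (hd : s ∣ Nat.card (centralizer ({x} : Set S))) :
    ∃ y : S, orderOf y = s ∧ x * y = y * x := by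
  have : Fact s.Prime := ⟨hs⟩
  obtain ⟨y, hy⟩ := exists_prime_orderOf_dvd_card' s hd
  exact ⟨y, by rw [Subgroup.orderOf_coe, hy], (mem_centralizer_singleton_iff.1 y.2).symm⟩

/-- `s` does not divide `|C(x)|` if the centralizers of the elements of order `s` have order prime to `r`. -/
theorem not_dvd_of {x : S} {r s : ℕ} (hx : orderOf x = r) (hs : s.Prime)
    (h : ∀ y : S, orderOf y = s → ¬ r ∣ Nat.card (centralizer ({y} : Set S))) :
    ¬ s ∣ Nat.card (centralizer ({x} : Set S)) := by
  intro hd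
  obtain ⟨y, hy, hxy⟩ := exists_comm hs hd
  apply h y hy
  rw [← hx]
  have h1 : x ∈ centralizer ({y} : Set S) := mem_centralizer_singleton_iff.2 hxy
  have h2 : orderOf (⟨x, h1⟩ : centralizer ({y} : Set S)) = orderOf x := Subgroup.orderOf_mk _ _
  rw [← h2]
  exact orderOf_dvd_natCard _

end Cfsg.Agent.H524.SylArith
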