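import Mathlib
import Cfsg.Agent.H524.SporTool
import Cfsg.Agent.H524.SylArith
import Cfsg.Agent.H413.JOneLocal
import Cfsg.Agent.SporRec.J1.EqTopC
import Cfsg.Agent.NotCT.Orders

/-!
# The first Janko group: elements of order 7 have centralizers of order 7
-/

set_option autoImplicit false

namespace Cfsg.Agent.H524.SporTool

open Subgroup Cfsg Cfsg.Agent.H524.DirRed Cfsg.Agent.H524.SylArith

theorem dvd_of_coprime {m r A B N : ℕ} (hr : 0 < r) (h : r * m ∣ N) (hAB : N = r * (A * B)) (hcop : m.Coprime A) :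
    m ∣ B := by
  rw [hAB] at h
  exact hcop.dvd_of_dvd_mul_left (Nat.dvd_of_mul_dvd_mul_left hr h)

theorem coprime_of_not_dvd {m s k : ℕ} (hs : s.Prime) (h : ¬ s ∣ m) : m.Coprime (s ^ k) :=
  Nat.Coprime.pow_right k (Nat.Coprime.symm ((Nat.Prime.coprime_iff_not_dvd hs).2 h))

theorem card_seven_j1 {G : Type*} [Group G] [Finite G] [IsSimpleGroup G] (hna : ¬ ∀ a b : G, a * b = b * a)
    (h : Nat.card G = 175560) (h2 : ∀ t : G, orderOf t = 2 → Nat.card (centralizer ({t} : Set G)) = 120)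
    (h3 : ∀ t : G, orderOf t = 3 → Nat.card (centralizer ({t} : Set G)) = 30)
    (h5 : ∀ t : G, orderOf t = 5 → Nat.card (centralizer ({t} : Set G)) = 30) {x : G} (hx : orderOf x = 7) :
    Nat.card (centralizer ({x} : Set G)) = 7 := by
  have hp7 : Fact (Nat.Prime 7) := ⟨by norm_num⟩
  obtain ⟨m, hm, -⟩ := exists_m (r := 7) (by rw [h]; norm_num) hx
  obtain ⟨e, n, he, he1, hn, hN⟩ := syl_arith hna (r := 7) (by rw [h]; norm_num) (by rw [h]; norm_num) hx
  have c2 : ¬ 2 ∣ m := fun hd => not_dvd_of hx Nat.prime_two (fun y hy => by rw [h2 y hy]; norm_num)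
    (hm ▸ Dvd.dvd.mul_left hd _)
  have c3 : ¬ 3 ∣ m := fun hd => not_dvd_of hx Nat.prime_three (fun y hy => by rw [h3 y hy]; norm_num)
    (hm ▸ Dvd.dvd.mul_left hd _)
  have c5 : ¬ 5 ∣ m := fun hd => not_dvd_of hx Nat.prime_five (fun y hy => by rw [h5 y hy]; norm_num)
    (hm ▸ Dvd.dvd.mul_left hd _)
  rw [hm, h] at hN
  have h1 : m ∣ 209 := dvd_of_coprime (r := 7) (A := 2 ^ 3 * 3 ^ 1 * 5 ^ 1) (B := 209) (N := 175560) (by norm_num)
    ⟨e * n, by rw [hN]; ring⟩ (by norm_num)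
    (Nat.Coprime.mul_right (Nat.Coprime.mul_right (coprime_of_not_dvd Nat.prime_two c2)
      (coprime_of_not_dvd Nat.prime_three c3)) (coprime_of_not_dvd Nat.prime_five c5))
  have h4 : m ∈ Nat.divisors 209 := Nat.mem_divisors.2 ⟨h1, by norm_num⟩
  have h6 : e ∈ Nat.divisors 6 := Nat.mem_divisors.2 ⟨he, by norm_num⟩
  have h7 : Nat.divisors 209 = {1, 11, 19, 209} := by decide +kernel
  have h8 : Nat.divisors 6 = {1, 2, 3, 6} := by decide +kernel
  rw [h7] at h4
  rw [h8] at h6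
  simp only [Finset.mem_insert, Finset.mem_singleton] at h4 h6
  have hn' : n = 7 * (n / 7) + 1 := by omega
  rcases h4 with rfl | rfl | rfl | rfl
  · exact hm
  all_goals
    exfalso
    rcases h6 with rfl | rfl | rfl | rfl
    all_goals omega

theorem cc_j1 {G : Type*} [Group G] [Finite G] [IsSimpleGroup G] (hna : ¬ ∀ a b : G, a * b = b * a)
    (h : Spor.IsoJ1 G) : ∃ T : Subgroup G, CC T := by
  have hc := NotCT.Orders.j1 h
  obtain ⟨e⟩ := h
  have : Finite Spor.J1 := Finite.of_equiv G e.toEquiv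
  have : Fact (Nat.Prime 7) := ⟨by norm_num⟩
  obtain ⟨x, hx⟩ := exists_prime_orderOf_dvd_card' (G := G) 7 (by rw [hc]; norm_num)
  refine ⟨_, CC.of_card (by norm_num) hx (card_seven_j1 hna hc ?_ ?_ ?_ hx)⟩
  · intro t ht
    rw [← card_centralizer_equiv e]
    exact SporRec.J1.EqTopC.card_cent2 H413.JOneLocal.isLocal _ (by rw [MulEquiv.orderOf_eq, ht])
  · intro t ht
    rw [← card_centralizer_equiv e]
    exact H413.JOneLocal.isLocal.cent3 _ (by rw [MulEquiv.orderOf_eq, ht])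
  · intro t ht
    rw [← card_centralizer_equiv e]
    exact H413.JOneLocal.isLocal.cent5 _ (by rw [MulEquiv.orderOf_eq, ht])

end Cfsg.Agent.H524.SporTool
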