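import Mathlib
import Cfsg.Agent.H524.SporSC
import Cfsg.Agent.H859.BigNum
import Cfsg.Agent.H828.KillHe
import Cfsg.Agent.H845.CopTits
import Cfsg.Agent.H843.N29

/-!
# Self-centralizing elements of prime order: `J₄`, `He`, `Fi₂₄'`, the Tits group
-/

set_option autoImplicit false

namespace Cfsg.Agent.H524.SporTool

open Subgroup Cfsg Cfsg.Agent.H524.DirRed

theorem sc_j4 {G : Type*} [Group G] [Finite G] (h : Spor.IsoJ4 G) : SC G := by
  have hc := NotCT.Orders.j4 h
  obtain ⟨e⟩ := h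
  have hf : Finite Spor.J4 := Finite.of_equiv _ e.toEquiv
  have hc' : Nat.card Spor.J4 = Nat.card G := (Nat.card_congr e.toEquiv).symm
  refine SC.congr e.symm (SC.of_zpowers (r := 37) (by norm_num) (by rw [hc', hc]; norm_num) fun P hP => ?_)
  exact (H859.BigNum.data37 hP).1

section He

open Subgroup Cfsg Cfsg.Agent.H238 Cfsg.Agent.H828.Tools Cfsg.Agent.H828.KillCP
open Cfsg.Spor.He Cfsg.Agent.SporadicB.HePerm
open Cfsg.Agent.FixBN.HeStab Cfsg.Agent.KFacts.He.Lv Cfsg.Agent.CpAutHe.Cnt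

theorem sc_he {G : Type*} [Group G] (h : Spor.IsoHe G) : SC G := by
  obtain ⟨e⟩ := h
  refine SC.congr e.symm ⟨wd H828.KillHe.X, ?_, ?_⟩
  · rw [H828.KillHe.order17]; norm_num
  · rw [H828.KillHe.cent17, H828.KillHe.order17]

end He

theorem sc_of_dat {S : Type*} [Group S] [Finite S] (h : Lie.IsoTits S) (D : Cfsg.Agent.H87.TitsAbs.Dat S) : SC S := by
  have : Fact (Nat.Prime 13) := ⟨by norm_num⟩
  have hx : orderOf D.x = 13 := orderOf_eq_prime D.x13 D.x1
  exact ⟨D.x, by rw [hx]; norm_num, by rw [H845.CopTits.card_cent_x h D, hx]⟩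

theorem sc_tits_aux {X : Type*} [Group X] (K : Subgroup X) {G : Type*} [Group G] (e : Nonempty (G ≃* commutator K))
    (h : SC (commutator K)) : SC G := by
  obtain ⟨e⟩ := e
  exact h.congr e.symm

theorem sc_titsGroup : SC Cfsg.Lie.TitsGroup := by
  have : Finite Cfsg.Lie.TitsGroup := by
    apply Nat.finite_of_card_ne_zero
    rw [Cfsg.Agent.H87.TitsData.card_tits]
    norm_num
  obtain ⟨D⟩ := Cfsg.Agent.H87.TitsData.dat_tits
  exact sc_of_dat ⟨MulEquiv.refl _⟩ D

theorem sc_tits {G : Type*} [Group G] (h : Lie.IsoTits G) : SC G :=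
  sc_tits_aux _ h sc_titsGroup

/-- an element of odd prime order lies in a subgroup of index two -/
theorem SC.of_index_two {S : Type*} [Group S] [Finite S] {H : Subgroup S} (hH : H.index = 2) {x : S} {r : ℕ}
    (hr : r.Prime) (hr2 : r ≠ 2) (hx : orderOf x = r) (hC : Nat.card (centralizer ({x} : Set S)) = r) : SC H := by
  have hmem : x ∈ H := by
    obtain ⟨k, hk⟩ := hr.odd_of_ne_two hr2
    have h1 : x * x ∈ H := Subgroup.mul_self_mem_of_index_two hH x
    have h2 : x = (x * x) ^ (k + 1) := by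
      rw [← pow_two, ← pow_mul, show 2 * (k + 1) = r + 1 by omega, pow_succ, ← hx, pow_orderOf_eq_one, one_mul]
    rw [h2]
    exact pow_mem h1 _
  refine ⟨⟨x, hmem⟩, by rwa [Subgroup.orderOf_mk, hx], ?_⟩
  rw [Subgroup.orderOf_mk, hx]
  have h1 : Nat.card (centralizer ({(⟨x, hmem⟩ : H)} : Set H)) ∣ r := by
    rw [← hC, ← Subgroup.card_map_of_injective H.subtype_injective]
    apply Subgroup.card_dvd_of_le
    rintro _ ⟨c, hc, rfl⟩
    rw [mem_centralizer_singleton_iff]
    exact congrArg Subtype.val (mem_centralizer_singleton_iff.1 hc)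
  have h2 : r ∣ Nat.card (centralizer ({(⟨x, hmem⟩ : H)} : Set H)) := by
    have h3 : (⟨x, hmem⟩ : H) ∈ centralizer ({(⟨x, hmem⟩ : H)} : Set H) := mem_centralizer_singleton_iff.2 rfl
    have h4 := Subgroup.orderOf_dvd_natCard _ h3
    rwa [Subgroup.orderOf_mk, hx] at h4
  exact Nat.dvd_antisymm h1 h2

theorem sc_fi24 {G : Type*} [Group G] (h : Spor.IsoFi24' G) : SC G := by
  have hF : Finite Spor.Fi24 := R08.FiTwentyFour.finite_Fi24
  obtain ⟨e⟩ := h
  refine SC.congr e.symm ?_
  have hidx : (commutator Spor.Fi24).index = 2 := R08.FiTwentyFour.index_commutator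
  have hC := H843.D29.main.2
  rw [zpowers_eq_closure, centralizer_closure] at hC
  exact SC.of_index_two hidx (by norm_num) (by norm_num) H843.D29.order hC

end Cfsg.Agent.H524.SporTool
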