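import Mathlib
import Cfsg.Agent.H524.RegTool
import Cfsg.Agent.H524.SporM
import Cfsg.Agent.H524.SporJ1
import Cfsg.Agent.H524.SporSC
import Cfsg.Agent.H524.SporSCB
import Cfsg.Agent.H524.SporSCC
import Cfsg.Agent.H547.SelfCent.McLHS
import Cfsg.Agent.H393.Iso.HS
import Cfsg.Agent.H393.Iso.McLLy

/-!
# `RegAll` for the sporadic groups with a self-centralizing element of prime order, including `HS`, `McL`
-/

set_option autoImplicit false

namespace Cfsg.Agent.H524.RegSpor

open Subgroup Cfsg Cfsg.Agent.H524.DirRed Cfsg.Agent.H524.SporTool Cfsg.Agent.H524.RegTool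

universe u

theorem sc_hs {G : Type*} [Group G] [Finite G] [IsSimpleGroup G] (h : Spor.IsoHS G) : SC G := by
  have hc := NotCT.Orders.hs h
  refine SC.of_card (r := 11) (by norm_num) (by rw [hc]; norm_num) fun x hx => ?_
  exact H547.SelfCent.McLHS.hs h (H393.Iso.na_hs h) hc hx

theorem sc_mcl {G : Type*} [Group G] [Finite G] [IsSimpleGroup G] (h : Spor.IsoMcL G) : SC G := by
  have hc := NotCT.Orders.mcl h
  refine SC.of_card (r := 11) (by norm_num) (by rw [hc]; norm_num) fun x hx => ?_
  exact H547.SelfCent.McLHS.mcl h (H393.Iso.na_mcl h) hc hx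

/-- **The sporadic groups with an abelian CC-subgroup.** -/
theorem cc_spor {S : Type u} [Group S] [Finite S] [IsSimpleGroup S] (hna : ¬ ∀ a b : S, a * b = b * a)
    (h : IsSporadicGroup S) (hon : ¬ Spor.IsoON S) (hly : ¬ Spor.IsoLy S) (hhn : ¬ Spor.IsoHN S) (hth : ¬ Spor.IsoTh S)
    (hb : ¬ Spor.IsoB S) (hm : ¬ Spor.IsoM S) : ∃ T : Subgroup S, CC T := by
  rcases h with h | h | h | h | h | h | h | h | h | h | h | h | h | h | h | h | h | h | h | h | h | h | h | h | h | h
  · exact cc_m11 h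
  · exact cc_m12 h
  · exact cc_m22 h
  · exact cc_m23 h
  · exact cc_m24 h
  · exact cc_j1 hna h
  · exact (sc_j2 h).exists_cc
  · exact (sc_j3 h).exists_cc
  · exact (sc_j4 h).exists_cc
  · exact (sc_co1 h).exists_cc
  · exact (sc_co2 h).exists_cc
  · exact (sc_co3 h).exists_cc
  · exact (sc_mcl h).exists_cc
  · exact (sc_hs h).exists_cc
  · exact (sc_suz h).exists_cc
  · exact (sc_he h).exists_cc
  · exact (sc_ru h).exists_cc
  · exact absurd h hon
  · exact absurd h hly
  · exact (sc_fi22 h).exists_cc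
  · exact (sc_fi23 h).exists_cc
  · exact (sc_fi24 h).exists_cc
  · exact absurd h hhn
  · exact absurd h hth
  · exact absurd h hb
  · exact absurd h hm

/-- `RegAll` for the sporadic groups, modulo six of them. -/
theorem regAll_spor {S : Type u} [Group S] [Finite S] [IsSimpleGroup S] (hna : ¬ ∀ a b : S, a * b = b * a)
    (h : IsSporadicGroup S) (hon : Spor.IsoON S → RegAll S) (hly : Spor.IsoLy S → RegAll S)
    (hhn : Spor.IsoHN S → RegAll S) (hth : Spor.IsoTh S → RegAll S) (hb : Spor.IsoB S → RegAll S)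
    (hm : Spor.IsoM S → RegAll S) : RegAll S := by
  by_cases h1 : Spor.IsoON S
  · exact hon h1
  by_cases h2 : Spor.IsoLy S
  · exact hly h2
  by_cases h3 : Spor.IsoHN S
  · exact hhn h3
  by_cases h4 : Spor.IsoTh S
  · exact hth h4
  by_cases h5 : Spor.IsoB S
  · exact hb h5
  by_cases h6 : Spor.IsoM S
  · exact hm h6
  exact (both_of_cc hna (cc_spor hna h h1 h2 h3 h4 h5 h6)).2

end Cfsg.Agent.H524.RegSpor
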