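import Mathlib
import Cfsg.Agent.H524.SporTool
import Cfsg.Agent.H393.Iso.HS
import Cfsg.Agent.H393.Iso.He
import Cfsg.Agent.H393.Iso.McLLy
import Cfsg.Agent.KFacts.HS.Sheet
import Cfsg.Agent.H729.PairMT
import Cfsg.Agent.TypeM.FactsAut
import Cfsg.Agent.H845.CopLy
import Cfsg.Agent.KFacts.HN.PCard
import Cfsg.Agent.MonsterX.ThOneClass
import Cfsg.Agent.NotCT.Orders

/-!
# `PrimB` for `HS`, `McL`, `Ly`, `Th`, `HN`
-/

set_option autoImplicit false

namespace Cfsg.Agent.H524.SporTool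

open Subgroup Cfsg Cfsg.Agent.H524.DirRed

/-- from an involution and the order of its centralizer, and the primes of a list `X` -/
theorem primB_all {S : Type*} [Group S] [Finite S] {N c : ℕ} {t : S} (hN : Nat.card S = N) (ht : orderOf t = 2)
    (hc : Nat.card (centralizer ({t} : Set S)) ∣ c) (L : List (ℕ × ℕ))
    (hL : ∀ a ∈ L, a.1.Prime ∧ a.1 ≠ 2 ∧ a.1 ^ a.2 ∣ N ∧ ¬ a.1 ^ a.2 ∣ c) (X : List ℕ)
    (hX : ∀ p ∈ X, p.Prime ∧ PrimB S p) (k : ℕ) (hk : N ∣ ((L.map Prod.fst).prod * X.prod) ^ k) :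
    ∀ p : ℕ, p.Prime → p ∣ Nat.card S → PrimB S p := by
  intro p hp hd
  rw [hN] at hd
  rcases (Nat.Prime.dvd_mul hp).1 (hp.dvd_of_dvd_pow (hd.trans hk)) with h | h
  · obtain ⟨q, hq, hpq⟩ := (Prime.dvd_prod_iff hp.prime).1 h
    obtain ⟨a, ha, rfl⟩ := List.mem_map.1 hq
    obtain ⟨h1, h2, h3, h4⟩ := hL a ha
    have h5 : p = a.1 := (Nat.prime_dvd_prime_iff_eq hp h1).1 hpq
    subst h5
    exact primB_of_two h1 h2 ht hc (hN ▸ h3) h4
  · obtain ⟨q, hq, hpq⟩ := (Prime.dvd_prod_iff hp.prime).1 h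
    obtain ⟨h1, h2⟩ := hX q hq
    rw [(Nat.prime_dvd_prime_iff_eq hp h1).1 hpq]
    exact h2

/-- `PrimB` from an element whose centralizer has order prime to `p` -/
theorem primB_of_not_comm {S : Type*} [Group S] [Finite S] {p r k : ℕ} (hp : p.Prime) (hr : r.Prime) (hrp : r ≠ p)
    (hd : p ∣ Nat.card S) {y : S} (hy : orderOf y = r ^ k) (h : ∀ x : S, orderOf x = p → ¬ Commute x y) :
    PrimB S p := by
  have : Fact p.Prime := ⟨hp⟩
  refine ⟨y, ⟨r, k, hr, hrp, hy⟩, dvd_index hp hd fun hc => ?_⟩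
  obtain ⟨x, hx⟩ := exists_prime_orderOf_dvd_card' p hc
  exact h x (by rw [Subgroup.orderOf_coe, hx]) (mem_centralizer_singleton_iff.1 x.2)

theorem primB_hs {G : Type*} [Group G] [Finite G] (h : Spor.IsoHS G) :
    ∀ p : ℕ, p.Prime → p ∣ Nat.card G → PrimB G p := by
  obtain ⟨D⟩ := KFacts.HS.exists_mod h
  have hz : orderOf D.z = 2 := orderOf_eq_prime (by rw [pow_two, D.zz]) D.z1
  refine primB_all (N := 44352000) (c := 7680) D.card hz (by rw [D.card_centralizer])
    [(3, 2), (5, 2), (7, 1), (11, 1)] (by intro a ha; fin_cases ha <;> norm_num) [2] ?_ 9 (by norm_num)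
  intro p hp
  rw [List.mem_singleton] at hp
  subst hp
  exact ⟨Nat.prime_two, primB_two (H393.Iso.na_hs h) (by norm_num) (by norm_num) (by rw [D.card]; norm_num)
    (by rw [D.card]; norm_num)⟩

theorem primB_hn {G : Type*} [Group G] [Finite G] (h : Spor.IsoHN G) :
    ∀ p : ℕ, p.Prime → p ∣ Nat.card G → PrimB G p := by
  have hN := NotCT.Orders.hn h
  have hna := H393.Iso.na_hn h
  obtain ⟨e⟩ := h
  have hz : orderOf (e.symm HN.XWords.W0) = 2 := by
    rw [MulEquiv.orderOf_eq]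
    exact orderOf_eq_prime (by rw [pow_two, HN.XWords.W0_sq]) KFacts.HN.PCard.W0_ne_one
  refine primB_all (N := 273030912000000) (c := 3686400) hN hz (by rw [card_centralizer_equiv, KFacts.HN.PCard.card_centralizer])
    [(3, 3), (5, 3), (7, 1), (11, 1), (19, 1)] (by intro a ha; fin_cases ha <;> norm_num) [2] ?_ 14 (by norm_num)
  intro p hp
  rw [List.mem_singleton] at hp
  subst hp
  exact ⟨Nat.prime_two, primB_two hna (by norm_num) (by norm_num) (by rw [hN]; norm_num)
    (by rw [hN]; norm_num)⟩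

theorem primB_th {G : Type*} [Group G] [Finite G] (h : Spor.IsoTh G) :
    ∀ p : ℕ, p.Prime → p ∣ Nat.card G → PrimB G p := by
  have hN := NotCT.Orders.th h
  have hna := H393.Iso.na_th h
  obtain ⟨e⟩ := h
  have hz : orderOf (e.symm (Th.IndexUpper.gTh 1)) = 2 := by
    rw [MulEquiv.orderOf_eq]
    exact MonsterX.ThOneClass.orderOf_a
  refine primB_all (N := 90745943887872000) (c := 92897280) hN hz (by rw [card_centralizer_equiv, MonsterX.ThOneClass.card_a])
    [(3, 10), (5, 3), (7, 2), (13, 1), (19, 1), (31, 1)] (by intro a ha; fin_cases ha <;> norm_num) [2] ?_ 15 (by norm_num)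
  intro p hp
  rw [List.mem_singleton] at hp
  subst hp
  exact ⟨Nat.prime_two, primB_two hna (by norm_num) (by norm_num) (by rw [hN]; norm_num)
    (by rw [hN]; norm_num)⟩

open Equiv Cfsg.Agent.SporRec.TwoAn Cfsg.Agent.TypeM.Two in
/-- an element of order 8 in a group of type `2 · A_n` -/
theorem exists_eight {G : Type*} [Group G] [Finite G] {n : ℕ} (L : MT n G) {τ : Perm (Fin n)}
    (hτ : Perm.sign τ = 1) {a b c d : Fin n} (hab : a ≠ b) (hac : a ≠ c) (had : a ≠ d) (hbc : b ≠ c) (hbd : b ≠ d)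
    (hcd : c ≠ d) (hττ : τ * τ = swap a b * swap c d) : ∃ y : G, orderOf y = 8 := by
  obtain ⟨y, hy⟩ := L.K.exists_lift (Perm.mem_alternatingGroup.2 hτ)
  have hz : (y * y) * (y * y) = L.K.z :=
    L.K.dbl a b c d hab hac had hbc hbd hcd (y * y) (by rw [map_mul, hy, hττ])
  have hzG : ((y : G) * y) * (y * y) = L.t := (congrArg Subtype.val hz).trans L.hz
  have hy4 : (y : G) ^ 4 = L.t := by
    refine Eq.trans ?_ hzG
    simp only [pow_succ, pow_zero, one_mul, mul_assoc]
  refine ⟨y, ?_⟩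
  have : Fact (Nat.Prime 2) := ⟨Nat.prime_two⟩
  have h1 : (y : G) ^ 2 ^ 3 = 1 := by
    rw [show (2 : ℕ) ^ 3 = 4 * 2 from rfl, pow_mul, hy4, pow_two, L.t_mul_t]
  have h2 : ¬ (y : G) ^ 2 ^ 2 = 1 := by
    rw [show (2 : ℕ) ^ 2 = 4 from rfl, hy4]
    exact L.t_ne
  exact orderOf_eq_prime_pow h2 h1

open Cfsg.Agent.TypeM.Two in
theorem primB_mt {G : Type*} [Group G] [Finite G] {n p : ℕ} (hp : p.Prime) (hp2 : p ≠ 2) (hn : n < 2 * p)
    (hn4 : n ≤ p + 4) (L : MT n G) (hd : p ∣ Nat.card G) {y : G} (hy : orderOf y = 8) : PrimB G p :=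
  primB_of_not_comm (r := 2) (k := 3) hp Nat.prime_two (Ne.symm hp2) hd hy
    fun _ hx => H729.PairMT.no_comm hp hp2 hn hn4 L hx hy

theorem primB_mcl {G : Type*} [Group G] [Finite G] (h : Spor.IsoMcL G) :
    ∀ p : ℕ, p.Prime → p ∣ Nat.card G → PrimB G p := by
  obtain ⟨-, -, hN, ⟨L⟩⟩ := TypeM.FactsMcL.facts h
  have hc : Nat.card (centralizer ({L.t} : Set G)) = 40320 := by
    rw [TypeM.FactsAut.card_centralizer L (by norm_num)]
    decide
  have hz : orderOf L.t = 2 := orderOf_eq_prime (by rw [pow_two, L.t_mul_t]) L.t_ne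
  obtain ⟨y, hy⟩ := exists_eight L (τ := H729.PairMT.t8) (by decide +kernel) (a := 1) (b := 4) (c := 2) (d := 3)
    (by decide) (by decide) (by decide) (by decide) (by decide) (by decide) (by decide +kernel)
  refine primB_all hN hz (c := 40320) (by rw [hc])
    [(3, 3), (5, 2), (11, 1)] (by intro a ha; fin_cases ha <;> norm_num) [2, 7] ?_ 7 (by norm_num)
  intro p hp
  simp only [List.mem_cons, List.not_mem_nil, or_false] at hp
  rcases hp with rfl | rfl
  · exact ⟨Nat.prime_two, primB_two (H393.Iso.na_mcl h) (by norm_num) (by norm_num) (by rw [hN]; norm_num)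
      (by rw [hN]; norm_num)⟩
  · exact ⟨by norm_num, primB_mt (by norm_num) (by norm_num) (by norm_num) (by norm_num) L
      (by rw [hN]; norm_num) hy⟩

theorem primB_ly {G : Type*} [Group G] [Finite G] (h : Spor.IsoLy G) :
    ∀ p : ℕ, p.Prime → p ∣ Nat.card G → PrimB G p := by
  obtain ⟨-, -, hN, ⟨L⟩⟩ := TypeM.FactsLy.facts h
  have hc : Nat.card (centralizer ({L.t} : Set G)) = 39916800 := H845.CopLy.card_cent L
  have hz : orderOf L.t = 2 := orderOf_eq_prime (by rw [pow_two, L.t_mul_t]) L.t_ne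
  obtain ⟨y, hy⟩ := exists_eight L (τ := H729.PairMT.t11) (by decide +kernel) (a := 7) (b := 9) (c := 8) (d := 10)
    (by decide) (by decide) (by decide) (by decide) (by decide) (by decide) (by decide +kernel)
  refine primB_all hN hz (c := 39916800) (by rw [hc])
    [(3, 5), (5, 3), (31, 1), (37, 1), (67, 1)] (by intro a ha; fin_cases ha <;> norm_num) [2, 7, 11] ?_ 8 (by norm_num)
  intro p hp
  simp only [List.mem_cons, List.not_mem_nil, or_false] at hp
  rcases hp with rfl | rfl | rfl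
  · exact ⟨Nat.prime_two, primB_two (H393.Iso.na_ly h) (by norm_num) (by norm_num) (by rw [hN]; norm_num)
      (by rw [hN]; norm_num)⟩
  · exact ⟨by norm_num, primB_mt (by norm_num) (by norm_num) (by norm_num) (by norm_num) L
      (by rw [hN]; norm_num) hy⟩
  · exact ⟨by norm_num, primB_mt (by norm_num) (by norm_num) (by norm_num) (by norm_num) L
      (by rw [hN]; norm_num) hy⟩

end Cfsg.Agent.H524.SporTool
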