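import Mathlib
import Cfsg.Agent.MonsterU.Chart

/-!
# Elements of order eight with a given central fourth power

`Q` extraspecial with centre `⟨z⟩`, `c` normalizes `Q`, `c ^ 2 ∈ Q`, and some `a ∈ Q` does not commute with
`c a c⁻¹`: then `c ^ 4 = z` or `(a c) ^ 4 = z`.
-/

set_option autoImplicit false

namespace Cfsg.Agent.H524.LargeEight

open Cfsg.Agent.Co2Type.Quad Cfsg.Agent.MonsterU Cfsg.Spor
open Cfsg.Agent.MonsterU.Lam2 Cfsg.Agent.MonsterU.Ch

variable {G : Type*} [Group G] {Q : Subgroup G} {z : G}

theorem exists_fourth (h : Large Q z) {c a : G} (hcz : c * z = z * c) (hcc : c * c ∈ Q) (ha : a ∈ Q)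
    (hne : a * (c * a * c⁻¹) ≠ (c * a * c⁻¹) * a) : c ^ 4 = z ∨ (a * c) ^ 4 = z := by
  have hzz : z * z = 1 := h.z_sq
  have hQ := h.conj_mem c hcz
  obtain ⟨b, hb⟩ : ∃ b : G, b = c * a * c⁻¹ := ⟨_, rfl⟩
  obtain ⟨w, hw⟩ : ∃ w : G, w = c * c := ⟨_, rfl⟩
  rw [← hb] at hne
  rw [← hw] at hcc
  have hbQ : b ∈ Q := hb ▸ hQ a ha
  have hzc : z * c⁻¹ = c⁻¹ * z := (Commute.inv_left (show Commute c z from hcz)).eq.symm
  rcases h.sq w hcc with h1 | h1
  · right
    have hab : a * b = b * a * z := (h.comm a ha b hbQ).resolve_left hne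
    have hcb : c * a = b * c := by rw [hb]; group
    have hww : c * c = w := hw.symm
    have e1 : (a * c) * (a * c) = a * b * w := by
      calc (a * c) * (a * c) = a * (c * a) * c := by group
        _ = a * b * (c * c) := by rw [hcb]; group
        _ = a * b * w := by rw [hww]
    have haz := h.comm_z a ha
    have hbz := h.comm_z b hbQ
    have haa : (a * a) * (a * a) = 1 := by
      rcases h.sq a ha with h2 | h2 <;> rw [h2]
      · rw [one_mul]
      · exact hzz
    have hbb : b * b = a * a := by
      have h3 : b * b = c * (a * a) * c⁻¹ := by rw [hb]; group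
      rw [h3]
      rcases h.sq a ha with h2 | h2 <;> rw [h2]
      · group
      · rw [hcz]; group
    -- `w` commutes with `a b`
    have hwab : w * (a * b) = (a * b) * w := by
      have hwc : c * w * c⁻¹ = w := by rw [hw]; group
      rcases h.comm w hcc a ha with h2 | h2
      · have h3 : w * b = b * w := by
          calc w * b = (c * w * c⁻¹) * (c * a * c⁻¹) := by rw [hwc, hb]
            _ = c * (w * a) * c⁻¹ := by group
            _ = (c * a * c⁻¹) * (c * w * c⁻¹) := by rw [h2]; group
            _ = b * w := by rw [hwc, hb]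
        calc w * (a * b) = (w * a) * b := by group
          _ = a * (w * b) := by rw [h2]; group
          _ = (a * b) * w := by rw [h3]; group
      · have h3 : w * b = b * w * z := by
          calc w * b = (c * w * c⁻¹) * (c * a * c⁻¹) := by rw [hwc, hb]
            _ = c * (w * a) * c⁻¹ := by group
            _ = c * (a * w * z) * c⁻¹ := by rw [h2]
            _ = c * (a * w) * (z * c⁻¹) := by group
            _ = c * (a * w) * (c⁻¹ * z) := by rw [hzc]
            _ = (c * a * c⁻¹) * (c * w * c⁻¹) * z := by group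
            _ = b * w * z := by rw [hwc, hb]
        have hwz := h.comm_z w hcc
        calc w * (a * b) = (w * a) * b := by group
          _ = a * w * z * b := by rw [h2]
          _ = a * w * (z * b) := by group
          _ = a * w * (b * z) := by rw [hbz]
          _ = a * (w * b) * z := by group
          _ = a * (b * w * z) * z := by rw [h3]
          _ = a * b * w * (z * z) := by group
          _ = (a * b) * w := by rw [hzz, mul_one]
    calc (a * c) ^ 4 = ((a * c) * (a * c)) * ((a * c) * (a * c)) := by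
          simp only [pow_succ, pow_zero, one_mul, mul_assoc]
      _ = (a * b * w) * (a * b * w) := by rw [e1]
      _ = (a * b) * (w * (a * b)) * w := by group
      _ = (a * b) * (a * b) * (w * w) := by rw [hwab]; group
      _ = (a * b) * (a * b) := by rw [h1, mul_one]
      _ = (b * a * z) * (a * b) := by rw [← hab]
      _ = b * a * (z * (a * b)) := by group
      _ = b * a * ((a * b) * z) := by
        have hzab : z * (a * b) = (a * b) * z := by
          calc z * (a * b) = (z * a) * b := by group
            _ = a * (z * b) := by rw [← haz]; group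
            _ = (a * b) * z := by rw [← hbz]; group
        rw [hzab]
      _ = b * (a * a) * b * z := by group
      _ = z := by
        rw [← hbb]
        have h4 : b * (b * b) * b = 1 := by
          calc b * (b * b) * b = (b * b) * (b * b) := by group
            _ = 1 := by rw [hbb, haa]
        rw [h4, one_mul]
  · left
    calc c ^ 4 = (c * c) * (c * c) := by simp only [pow_succ, pow_zero, one_mul, mul_assoc]
      _ = w * w := by rw [hw]
      _ = z := h1

variable {eta : G → L2} {pi : Subgroup.centralizer ({z} : Set G) →* Co1}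

/-- an element of order eight over an involution of `Co₁` -/
theorem exists_over (h : Chart Q z eta pi) {g0 : Co1} (hg : g0 * g0 = 1) {v : L2} (hv : bf v (g0 • v) = 1) :
    ∃ y : Subgroup.centralizer ({z} : Set G), (y : G) ^ 4 = z ∧ pi y = g0 := by
  obtain ⟨c, hc⟩ := h.pi_surj g0
  obtain ⟨a, ha, hav⟩ := h.eta_surj v
  have hcz : (c : G) * z = z * c := Subgroup.mem_centralizer_singleton_iff.1 c.2
  have hcc : (c : G) * c ∈ Q := by
    have h1 : pi (c * c) = 1 := by rw [map_mul, hc, hg]
    exact (h.pi_eq_one (c * c)).1 h1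
  have haz : a ∈ Subgroup.centralizer ({z} : Set G) :=
    Subgroup.mem_centralizer_singleton_iff.2 (h.large.comm_z a ha)
  have hne : a * ((c : G) * a * (c : G)⁻¹) ≠ ((c : G) * a * (c : G)⁻¹) * a := by
    intro h1
    have h2 := (h.comm_iff ha (h.large.conj_mem c hcz a ha)).1 h1
    rw [h.eta_conj c a ha, hc, hav, hv] at h2
    exact one_ne_zero h2
  have hpa : pi ⟨a, haz⟩ = 1 := (h.pi_eq_one ⟨a, haz⟩).2 ha
  rcases exists_fourth h.large hcz hcc ha hne with h1 | h1
  · exact ⟨c, h1, hc⟩
  · exact ⟨⟨a, haz⟩ * c, h1, by rw [map_mul, hpa, one_mul, hc]⟩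

/-- the same inside the centralizer of an element `t` of `Q` -/
theorem exists_over' (h : Chart Q z eta pi) {g0 : Co1} (hg : g0 * g0 = 1) {v : L2} (hv : bf v (g0 • v) = 1) {t : G}
    (ht : t ∈ Q) (ht1 : t ≠ 1) (htz : t ≠ z) (hgt : g0 • eta t = eta t) (hvt : bf v (eta t) = 0) :
    ∃ y : Subgroup.centralizer ({z} : Set G), (y : G) ^ 4 = z ∧ pi y = g0 ∧ (y : G) * t = t * y := by
  have hQc : ∀ a ∈ Q, a ∈ Subgroup.centralizer ({z} : Set G) := fun a ha =>
    Subgroup.mem_centralizer_singleton_iff.2 (h.large.comm_z a ha)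
  -- a lift of `g0` commuting with `t`
  obtain ⟨c, hc, hct⟩ : ∃ c : Subgroup.centralizer ({z} : Set G), pi c = g0 ∧ (c : G) * t = t * c := by
    obtain ⟨c, hc⟩ := h.pi_surj g0
    have hcz : (c : G) * z = z * c := Subgroup.mem_centralizer_singleton_iff.1 c.2
    have h1 : eta ((c : G) * t * (c : G)⁻¹) = eta t := by rw [h.eta_conj c t ht, hc, hgt]
    rcases (h.eta_eq (h.large.conj_mem c hcz t ht) ht).1 h1 with h2 | h2
    · exact ⟨c, hc, by rw [mul_inv_eq_iff_eq_mul] at h2; exact h2⟩
    · obtain ⟨b, hb, hbt⟩ : ∃ b ∈ Q, b * t ≠ t * b := by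
        by_contra hcon
        push Not at hcon
        rcases h.large.cent t ht (fun y hy => (hcon y hy).symm) with h3 | h3
        · exact ht1 h3
        · exact htz h3
      refine ⟨⟨b, hQc b hb⟩ * c, ?_, ?_⟩
      · rw [map_mul, (h.pi_eq_one ⟨b, hQc b hb⟩).2 hb, one_mul, hc]
      · have h3 : b * t = t * b * z := (h.large.comm b hb t ht).resolve_left hbt
        have h4 : (c : G) * t = t * z * c := by rw [mul_inv_eq_iff_eq_mul] at h2; exact h2
        show b * (c : G) * t = t * (b * (c : G))
        calc b * (c : G) * t = b * ((c : G) * t) := by group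
          _ = b * (t * z * c) := by rw [h4]
          _ = (b * t) * (z * c) := by group
          _ = (t * b * z) * (z * c) := by rw [h3]
          _ = t * b * (z * z) * c := by group
          _ = t * (b * (c : G)) := by rw [h.large.z_sq]; group
  obtain ⟨a, ha, hav⟩ := h.eta_surj v
  have hcz : (c : G) * z = z * c := Subgroup.mem_centralizer_singleton_iff.1 c.2
  have hcc : (c : G) * c ∈ Q := by
    have h1 : pi (c * c) = 1 := by rw [map_mul, hc, hg]
    exact (h.pi_eq_one (c * c)).1 h1
  have hat : a * t = t * a := (h.comm_iff ha ht).2 (by rw [hav, hvt])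
  have hne : a * ((c : G) * a * (c : G)⁻¹) ≠ ((c : G) * a * (c : G)⁻¹) * a := by
    intro h1
    have h2 := (h.comm_iff ha (h.large.conj_mem c hcz a ha)).1 h1
    rw [h.eta_conj c a ha, hc, hav, hv] at h2
    exact one_ne_zero h2
  rcases exists_fourth h.large hcz hcc ha hne with h1 | h1
  · exact ⟨c, h1, hc, hct⟩
  · refine ⟨⟨a, hQc a ha⟩ * c, h1, by rw [map_mul, (h.pi_eq_one ⟨a, hQc a ha⟩).2 ha, one_mul, hc], ?_⟩
    show a * (c : G) * t = t * (a * (c : G))
    rw [mul_assoc, hct, ← mul_assoc, hat, mul_assoc]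

/-- an element of odd prime order commuting with `y`, `y ^ 4 = z` -/
theorem order_pi (h : Chart Q z eta pi) {r : ℕ} (hr : r.Prime) (hr2 : r ≠ 2) {y : Subgroup.centralizer ({z} : Set G)}
    (hy : (y : G) ^ 4 = z) {x : G} (hx : orderOf x = r) (hxy : x * y = y * x) :
    ∃ x' : Subgroup.centralizer ({z} : Set G), (x' : G) = x ∧ orderOf (pi x') = r ∧ pi x' * pi y = pi y * pi x' := by
  have hc : Commute x (y : G) := hxy
  have hxz : x ∈ Subgroup.centralizer ({z} : Set G) := by
    rw [Subgroup.mem_centralizer_singleton_iff, ← hy]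
    exact hc.pow_right 4
  refine ⟨⟨x, hxz⟩, rfl, ?_, ?_⟩
  · have : Fact r.Prime := ⟨hr⟩
    refine orderOf_eq_prime ?_ ?_
    · rw [← map_pow]
      have h1 : (⟨x, hxz⟩ : Subgroup.centralizer ({z} : Set G)) ^ r = 1 :=
        Subtype.ext (by rw [Subgroup.coe_pow, Subgroup.coe_one, ← hx, pow_orderOf_eq_one])
      rw [h1, map_one]
    · intro h1
      have h2 : x ∈ Q := (h.pi_eq_one _).1 h1
      have h3 : x ^ 4 = 1 := by
        have h0 : x ^ 4 = (x * x) * (x * x) := by simp only [pow_succ, pow_zero, one_mul, mul_assoc]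
        rcases h.large.sq x h2 with h4 | h4
        · rw [h0, h4, one_mul]
        · rw [h0, h4, h.large.z_sq]
      have h5 : r ∣ 2 ^ 2 := by
        rw [← hx]
        exact orderOf_dvd_of_pow_eq_one h3
      exact hr2 ((Nat.prime_dvd_prime_iff_eq hr Nat.prime_two).1 (hr.dvd_of_dvd_pow h5))
  · rw [← map_mul, ← map_mul]
    exact congrArg pi (Subtype.ext hxy)

end Cfsg.Agent.H524.LargeEight
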