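import Mathlib
import Cfsg.Agent.H524.LargeEight
import Cfsg.Agent.H729.PairCo2
import Cfsg.Agent.LThreeBX.NoSeven
import Cfsg.Agent.MonsterU.Fused

/-!
# Elements of odd order of `Co₀` commuting with the sign change on a dodecad

`dq` a dodecad missing the points `∞`, `0`: no element of prime order `p = 7` or `p ≥ 11` of `Co₀` fixing the
minimal vector `(4, 4, 0, …)` commutes with the sign change on `dq`.
-/

set_option autoImplicit false

namespace Cfsg.Agent.H524.CoKey

open Cfsg Cfsg.Agent.MonsterU.Lam2 Cfsg.Agent.MonsterU.Ch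
open Cfsg.Agent.SporadicA.GolayBase Cfsg.Agent.SporadicA.GolayPerm
open Cfsg.Agent.SporadicA.Co0Mono hiding mk mk_smul
open Cfsg.Agent.SporadicA.Co1Simple Cfsg.Agent.Co2Type.Mono
open Cfsg.Agent.SporadicStructure.M24El
open Cfsg.Agent.CoOneType.SignFacts Cfsg.Agent.CoOneType.ClosingFacts

theorem qr_mem (t : ZMod 23) : qrWord t ∈ golayCode :=
  Submodule.subset_span (Or.inl ⟨t, rfl⟩)

/-- a dodecad -/
def dq : golayCode := ⟨qrWord 1, qr_mem 1⟩

/-- a dodecad -/
def cq : golayCode := ⟨qrWord 0, qr_mem 0⟩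

theorem wt_dq : wt dq = 12 := by
  show (support₂ (qrWord 1)).card = 12
  decide +kernel

/-- a permutation of prime order at least 11 fixing two points outside an invariant dodecad -/
theorem perm_eq_one_of {p : ℕ} (hp : p.Prime) (h11 : 11 ≤ p) {σ : M24} (hσ : σ ^ p = 1)
    (h : wordPerm σ dq = dq) (h0 : (σ : Equiv.Perm GolayPt) none = none)
    (h1 : (σ : Equiv.Perm GolayPt) (some 0) = some 0) : σ = 1 := by
  classical
  have hp' : (σ : Equiv.Perm GolayPt) ^ p = 1 := by
    rw [← Subgroup.coe_pow, hσ, Subgroup.coe_one]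
  have hd : ∀ i, (dq : GolayPt → ZMod 2) ((σ : Equiv.Perm GolayPt) i) = (dq : GolayPt → ZMod 2) i := by
    intro i
    have h1 : ((wordPerm σ dq : golayCode) : GolayPt → ZMod 2) ((σ : Equiv.Perm GolayPt) i) =
        (dq : GolayPt → ZMod 2) i := by
      rw [wordPerm_apply, Equiv.symm_apply_apply]
    rwa [h] at h1
  let S : Finset GolayPt := Finset.univ.filter fun i => qrWord 1 i = 0 ∧ i ≠ none ∧ i ≠ some 0
  have hcard : S.card = 10 := by decide +kernel
  have hS : ∀ i ∈ S, (σ : Equiv.Perm GolayPt) i ∈ S := by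
    intro i hi
    rw [Finset.mem_filter] at hi ⊢
    obtain ⟨-, e1, e2, e3⟩ := hi
    refine ⟨Finset.mem_univ _, (hd i).trans e1, ?_, ?_⟩
    · intro e
      exact e2 ((σ : Equiv.Perm GolayPt).injective (e.trans h0.symm))
    · intro e
      exact e3 ((σ : Equiv.Perm GolayPt).injective (e.trans h1.symm))
  have hfix := Cfsg.Agent.H729.PairCo1.fixed_of_lt hp hp' S hS (by rw [hcard]; omega)
  obtain ⟨s, hs, hs5⟩ := Finset.exists_subset_card_eq (s := S) (n := 5) (by rw [hcard]; norm_num)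
  have hfix5 := Cfsg.Agent.J4Type.InvFix.card_fix_five hs5
  have hmemf : σ ∈ fixingSubgroup M24 (s : Set GolayPt) := by
    rw [mem_fixingSubgroup_iff]
    intro y hy
    exact hfix y (hs (Finset.mem_coe.1 hy))
  have hd1 := Subgroup.orderOf_dvd_natCard _ hmemf
  rw [hfix5] at hd1
  have hd2 : orderOf σ ∣ p := orderOf_dvd_of_pow_eq_one hσ
  rcases (Nat.dvd_prime hp).1 hd2 with h3 | h3
  · exact orderOf_eq_one_iff.1 h3
  · exfalso
    rw [h3] at hd1
    have h4 : p ∣ (2 * 3) ^ 4 := hd1.trans (by norm_num)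
    have h5 := hp.dvd_of_dvd_pow h4
    have h6 := Nat.le_of_dvd (by norm_num) h5
    omega

theorem lB_apply (i : GolayPt) : (lB : GolayPt → ℤ) i = if i = none ∨ i = some 0 then 4 else 0 := rfl

/-- the key fact in `Co₀` -/
theorem co0_key {p : ℕ} (hp : p.Prime) (h7 : p = 7 ∨ 11 ≤ p) (g : Co0) (hk : g * signCo0 dq = signCo0 dq * g)
    (hv : g • lB = lB) (hgp : g ^ p = 1) : g = 1 := by
  rcases h7 with rfl | h11
  · exact Cfsg.Agent.H729.PairCo2.not_orderOf wt_dq g hk hgp
  have hN : g ∈ N := mem_N_of_conj_dodecad _ _ wt_dq wt_dq g hk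
  obtain ⟨c, σ, rfl⟩ := exists_sign_perm hN
  obtain ⟨e, he⟩ := sign_perm_pow c σ p
  have hσ : σ ^ p = 1 := by
    have h0 := hgp
    rw [he] at h0
    exact perm_eq_one h0
  have hcomm : ∀ u v : golayCode, signCo0 u * signCo0 v = signCo0 v * signCo0 u := fun u v => by
    rw [← signCo0_add, ← signCo0_add, add_comm]
  have hconj : signCo0 (wordPerm σ dq) = signCo0 dq := by
    have e1 : signCo0 c * permCo0 σ * signCo0 dq = signCo0 (wordPerm σ dq) * (signCo0 c * permCo0 σ) := by
      rw [mul_assoc, perm_mul_sign, ← mul_assoc, hcomm c, mul_assoc]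
    rw [e1] at hk
    exact mul_right_cancel hk
  have hw : wordPerm σ dq = dq := by
    rcases (Cfsg.Agent.CoOneType.CoOneE.pr_sign_eq_iff dq (wordPerm σ dq)).1 (by rw [hconj]) with h | h
    · exact h
    · exfalso
      rw [h, signCo0_add] at hconj
      have h1 : signCo0 allOne = 1 := by
        have := congrArg (fun z => signCo0 dq * z) hconj
        simp only [← mul_assoc, signCo0_mul_self, one_mul] at this
        exact this
      exact Cfsg.Agent.CoOneType.CoOneE.allOne_ne h1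
  -- the support of the vector
  have hsupp : ∀ i, (i = none ∨ i = some 0) → ((σ : Equiv.Perm GolayPt) i = none ∨ (σ : Equiv.Perm GolayPt) i = some 0) := by
    intro i hi
    have h1 := congrArg (fun u : leechLattice => (u : GolayPt → ℤ) ((σ : Equiv.Perm GolayPt) i)) hv
    simp only [mul_smul, signCo0_smul, signMap_apply, permCo0_smul, permMap_apply, Equiv.symm_apply_apply,
      lB_apply] at h1
    rw [if_pos hi] at h1
    by_contra hcon
    rw [if_neg hcon] at h1
    unfold sgn at h1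
    split_ifs at h1 <;> omega
  have hp' : (σ : Equiv.Perm GolayPt) ^ p = 1 := by
    rw [← Subgroup.coe_pow, hσ, Subgroup.coe_one]
  have hf := Cfsg.Agent.H729.PairCo1.fixed_of_lt hp hp' {none, some 0} (by
    intro i hi
    rw [Finset.mem_insert, Finset.mem_singleton] at hi ⊢
    exact hsupp i hi) (by
    refine lt_of_le_of_lt (Finset.card_insert_le _ _) ?_
    rw [Finset.card_singleton]
    omega)
  have hσ1 : σ = 1 := perm_eq_one_of hp h11 hσ hw (hf none (by simp)) (hf (some 0) (by simp))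
  rw [hσ1, map_one, mul_one] at hgp ⊢
  obtain ⟨k, hk⟩ := hp.odd_of_ne_two (by omega : p ≠ 2)
  have h1 : signCo0 c ^ p = signCo0 c := by
    rw [hk, pow_succ, pow_mul, pow_two, signCo0_mul_self, one_pow, one_mul]
  rw [← h1, hgp]


theorem sq_lB : sqNorm (lB : GolayPt → ℤ) = 32 := by
  show sqNorm vB = 32
  decide +kernel

theorem isType_lB : IsType 2 (cl lB) := ⟨lB, by rw [sq_lB]; norm_num, rfl⟩

/-- the key fact in `Co₁` -/
theorem co1_key {p : ℕ} (hp : p.Prime) (h7 : p = 7 ∨ 11 ≤ p) {x : Spor.Co1} (hx : orderOf x = p)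
    (hk : x * mk (signCo0 dq) = mk (signCo0 dq) * x) (hv : x • cl lB = cl lB) : False := by
  have hodd : Odd p := hp.odd_of_ne_two (by omega)
  obtain ⟨h, hh, hhp⟩ : ∃ h : Co0, mk h = x ∧ h ^ p = 1 := by
    obtain ⟨h, rfl⟩ := exists_mk x
    have h1 : mk (h ^ p) = mk 1 := by
      have : mk (h ^ p) = (mk h) ^ p := rfl
      rw [this, ← hx, pow_orderOf_eq_one]
      rfl
    rcases (mk_eq _ _).1 h1 with h2 | h2
    · exact ⟨h, rfl, h2⟩
    · refine ⟨h * signCo0 allOne, (mk_eq _ _).2 (Or.inr rfl), ?_⟩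
      · rw [LThreeBX.NoSeven.mul_n_pow hodd, h2, one_mul, LThreeBX.NoSeven.nn]
  have hcomm := LThreeBX.NoSeven.comm_of_mk (b := signCo0 dq) hodd hhp (by rw [hh]; exact hk)
  have hfix : h • lB = lB := by
    have h1 : cl (h • lB) = cl lB := by
      rw [← smul_cl, ← mk_smul]
      show mk h • cl lB = cl lB
      rw [hh, hv]
    rcases Cfsg.Agent.MonsterU.Fused.eq_or_neg (by rw [Cfsg.Agent.Leech.FrameAux.co0_sqNorm, sq_lB]) sq_lB h1 with h2 | h2
    · exact h2
    · exfalso
      have h3 : (h * signCo0 allOne) • lB = lB := by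
        rw [mul_smul, allOne_smul, Cfsg.Agent.MonsterU.SmallComm.smul_neg', h2, neg_neg]
      have h4 : (h * signCo0 allOne) ^ p • lB = lB := by
        have : ∀ n : ℕ, (h * signCo0 allOne) ^ n • lB = lB := by
          intro n
          induction n with
          | zero => rw [pow_zero, one_smul]
          | succ n ih => rw [pow_succ, mul_smul, h3, ih]
        exact this p
      rw [LThreeBX.NoSeven.mul_n_pow hodd, hhp, one_mul, allOne_smul] at h4
      have h5 := congrArg (fun u : leechLattice => (u : GolayPt → ℤ) none) h4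
      have h6 : -((4 : ℤ)) = 4 := h5
      omega
  have h1 : h = 1 := co0_key hp h7 h hcomm hfix hhp
  rw [h1] at hh
  have h2 : x = 1 := hh.symm.trans rfl
  rw [h2, orderOf_one] at hx
  exact hp.one_lt.ne hx

/-- the vector of type 2 is arbitrary -/
theorem exists_co1 {v₀ : L2} (h : IsType 2 v₀) : ∃ (g0 : Spor.Co1) (v : L2), g0 * g0 = 1 ∧ bf v (g0 • v) = 1 ∧
    g0 • v₀ = v₀ ∧ bf v v₀ = 0 ∧
      ∀ p : ℕ, p.Prime → (p = 7 ∨ 11 ≤ p) → ∀ x : Spor.Co1, orderOf x = p → x * g0 = g0 * x → x • v₀ ≠ v₀ := by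
  obtain ⟨g, rfl⟩ := IsType.trans (Or.inl rfl) isType_lB h
  have hsq : mk (signCo0 dq) * mk (signCo0 dq) = 1 := by
    rw [← mk_mul, signCo0_mul_self]
    rfl
  refine ⟨mk g * mk (signCo0 dq) * (mk g)⁻¹, g • cl (signCo0 cq • lA), ?_, ?_, ?_, ?_, ?_⟩
  · calc mk g * mk (signCo0 dq) * (mk g)⁻¹ * (mk g * mk (signCo0 dq) * (mk g)⁻¹)
        = mk g * (mk (signCo0 dq) * mk (signCo0 dq)) * (mk g)⁻¹ := by group
      _ = 1 := by rw [hsq]; group
  · have h1 : (mk g * mk (signCo0 dq) * (mk g)⁻¹) • (g • cl (signCo0 cq • lA)) =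
        g • (signCo0 dq • cl (signCo0 cq • lA)) := by
      rw [← mk_smul g, ← mk_smul g, ← mk_smul (signCo0 dq)]
      rw [mul_smul, mul_smul, inv_smul_smul]
    rw [h1, bf_smul, smul_cl, bf_cl, b0]
    have h2 : ((signCo0 dq • (signCo0 cq • lA) : leechLattice) : GolayPt → ℤ) =
        signMap (qrWord 1) (signMap (qrWord 0) vA) := by
      rw [signCo0_smul, signCo0_smul]
      rfl
    have h3 : ((signCo0 cq • lA : leechLattice) : GolayPt → ℤ) = signMap (qrWord 0) vA := by
      rw [signCo0_smul]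
      rfl
    rw [h2, h3]
    have h4 : dotInt (signMap (qrWord 0) vA) (signMap (qrWord 1) (signMap (qrWord 0) vA)) = 8 := by
      decide +kernel
    rw [h4]
    decide
  · rw [← mk_smul g, mul_smul, mul_smul, inv_smul_smul, mk_smul (signCo0 dq), smul_cl]
    congr 2
    apply Subtype.ext
    rw [signCo0_smul]
    show signMap (qrWord 1) vB = vB
    decide +kernel
  · rw [bf_smul, bf_cl, b0, signCo0_smul]
    show ((dotInt (signMap (qrWord 0) vA) vB / 8 : ℤ) : ZMod 2) = 0
    have h4 : dotInt (signMap (qrWord 0) vA) vB = 16 := by decide +kernel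
    rw [h4]
    decide
  · intro p hp h7 x hx hc hv
    refine co1_key hp h7 (x := (mk g)⁻¹ * x * mk g) ?_ ?_ ?_
    · have h1 := orderOf_injective (MulAut.conj (mk g)⁻¹).toMonoidHom (MulAut.conj (mk g)⁻¹).injective x
      rw [← hx, ← h1]
      show _ = orderOf ((mk g)⁻¹ * x * (mk g)⁻¹⁻¹)
      rw [inv_inv]
    · have h1 : (mk g)⁻¹ * (x * (mk g * mk (signCo0 dq) * (mk g)⁻¹)) * mk g =
          (mk g)⁻¹ * ((mk g * mk (signCo0 dq) * (mk g)⁻¹) * x) * mk g := by rw [hc]
      calc (mk g)⁻¹ * x * mk g * mk (signCo0 dq)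
          = (mk g)⁻¹ * (x * (mk g * mk (signCo0 dq) * (mk g)⁻¹)) * mk g := by group
        _ = _ := h1
        _ = mk (signCo0 dq) * ((mk g)⁻¹ * x * mk g) := by group
    · rw [← mk_smul g] at hv
      rw [mul_smul, mul_smul, hv, inv_smul_smul]

theorem ne_zero_of_type {x : L2} (h : IsType 2 x) : x ≠ 0 := by
  rintro rfl
  obtain ⟨g, hg⟩ := IsType.trans (Or.inl rfl) isType_lB h
  have h1 : cl lB = 0 := by
    have h2 : g⁻¹ • (g • cl lB) = g⁻¹ • (0 : L2) := by rw [hg]
    rw [inv_smul_smul] at h2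
    exact h2.trans (map_zero (act g⁻¹))
  have h2 : bf (cl lB) (cl lA) = 1 := by
    rw [bf_cl, b0]
    show ((dotInt vB vA / 8 : ℤ) : ZMod 2) = 1
    have h4 : dotInt vB vA = 8 := by decide +kernel
    rw [h4]
    decide
  rw [h1, bf_zero_left] at h2
  exact zero_ne_one h2

end Cfsg.Agent.H524.CoKey
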