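import Mathlib
import Cfsg.Agent.H524.SporPrim
import Cfsg.Agent.H524.CoKey
import Cfsg.Agent.H393.Iso.Baby
import Cfsg.Agent.LThreeMB.KPair
import Cfsg.Agent.NotCT.Orders

/-!
# `PrimB` for the Baby Monster

`B = C(t) / ⟨t⟩` in the Monster, `t` in the class `2A`, `t ∈ Q = O₂(C(z))`. An element `y` of order eight of
`C(z) ∩ C(t)` with `y ^ 4 = z` over an involution of `Co₂ ≤ Co₁`.
-/

set_option autoImplicit false
set_option maxRecDepth 100000

namespace Cfsg.Agent.H524.SporTool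

open Subgroup Cfsg Cfsg.Lie Cfsg.Agent.Bimonster Cfsg.Agent.BabyU Cfsg.Agent.TwoESix.Cover
open Cfsg.Agent.MonsterX.KSide Cfsg.Agent.MonsterX.KLift Cfsg.Agent.MonsterX.KModel
open Cfsg.Agent.MonsterX.Model Cfsg.Agent.MonsterX.MainPack Cfsg.Agent.MonsterX.MainSimple
open Cfsg.Agent.MonsterX.MainBasic Cfsg.Agent.MonsterU.Assembly Cfsg.Agent.MonsterN Cfsg.Agent.MonsterN.Lit
open Cfsg.Agent.MonsterN.LitInst Cfsg.Agent.MonsterU.Lam2 Cfsg.Agent.MonsterU.TwoCls
open Cfsg.Agent.BabyComp Cfsg.Agent.BabyComp.Main Cfsg.Agent.BabyComp.BaseTwo Cfsg.Agent.R01.Lifts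
open Cfsg.Agent.H524.DirRed Cfsg.Agent.H524.LargeEight Cfsg.Agent.H524.CoKey

theorem order_eight_b {G : Type*} [Group G] {y z : G} (h : y ^ 4 = z) (hz : z * z = 1) (hz1 : z ≠ 1) :
    orderOf y = 2 ^ 3 := by
  have : Fact (Nat.Prime 2) := ⟨Nat.prime_two⟩
  refine orderOf_eq_prime_pow (n := 2) ?_ ?_
  · rw [show (2 : ℕ) ^ 2 = 4 by norm_num, h]
    exact hz1
  · rw [show (2 : ℕ) ^ (2 + 1) = 4 * 2 by norm_num, pow_mul, h, pow_two, hz]

/-- the abstract form -/
theorem not_comm_b {G : Type*} [Group G] {Q : Subgroup G} {z t : G} {eta : G → L2}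
    {pi : Subgroup.centralizer ({z} : Set G) →* Spor.Co1} (h : Cfsg.Agent.MonsterU.Ch.Chart Q z eta pi) (ht : t ∈ Q)
    (htype : IsType 2 (eta t)) {X : Type*} [Group X] {q : Subgroup.centralizer ({t} : Set G) →* X}
    (hq : Ext q ⟨t, mem_centralizer_singleton_iff.2 rfl⟩) :
    ∃ u : X, orderOf u = 2 ^ 3 ∧ ∀ p : ℕ, p.Prime → (p = 7 ∨ 11 ≤ p) → ∀ x : X, orderOf x = p → ¬ Commute x u := by
  have h0 := ne_zero_of_type htype
  have ht1 : t ≠ 1 := fun e => h0 (by rw [e]; exact h.eta_one)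
  have htz : t ≠ z := fun e => h0 (by rw [e]; exact h.eta_z)
  obtain ⟨g0, v, hg, hv, hgt, hvt, key⟩ := exists_co1 htype
  obtain ⟨y, hy, hpy, hyt⟩ := exists_over' h hg hv ht ht1 htz hgt hvt
  let yt : Subgroup.centralizer ({t} : Set G) := ⟨y, mem_centralizer_singleton_iff.2 hyt⟩
  have htt : z * t = t * z := (h.large.comm_z t ht).symm
  have hz4 : yt ^ 4 = ⟨z, mem_centralizer_singleton_iff.2 htt⟩ := Subtype.ext hy
  refine ⟨q yt, ?_, ?_⟩
  · refine order_eight_b (z := q (yt ^ 4)) (by rw [map_pow]) ?_ ?_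
    · rw [hz4, ← map_mul]
      have h1 : (⟨z, mem_centralizer_singleton_iff.2 htt⟩ : Subgroup.centralizer ({t} : Set G)) *
          ⟨z, mem_centralizer_singleton_iff.2 htt⟩ = 1 := Subtype.ext h.large.z_sq
      rw [h1, map_one]
    · intro h1
      rw [hz4] at h1
      rcases (hq.ker _).1 h1 with h2 | h2
      · exact h.large.z_ne (congrArg Subtype.val h2)
      · exact htz (congrArg Subtype.val h2).symm
  · intro p hp h7 x hx hc
    have hp2 : p ≠ 2 := by omega
    obtain ⟨b, hb, hbo⟩ := H393.Iso.exists_lift hq hp hp2 hx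
    have hcomm : b * yt = yt * b := H393.Iso.lift_comm hq hp hp2 hbo (by rw [hb]; exact hc)
    have hbG : orderOf (b : G) = p := by rw [Subgroup.orderOf_coe, hbo]
    obtain ⟨x', hx'b, hx', hc'⟩ := order_pi h hp hp2 hy hbG (congrArg Subtype.val hcomm)
    rw [hpy] at hc'
    refine key p hp h7 (pi x') hx' hc' ?_
    rw [← h.eta_conj x' t ht, hx'b]
    congr 1
    have h1 : (b : G) * t = t * b := mem_centralizer_singleton_iff.1 b.2
    rw [h1, mul_inv_cancel_right]

theorem primB_b_model (h2 : PrimB Spor.BabyMonster 2)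
    (hN : Nat.card Spor.BabyMonster = 4154781481226426191177580544000000) :
    ∀ p : ℕ, p.Prime → p ∣ Nat.card Spor.BabyMonster → PrimB Spor.BabyMonster p := by
  refine CTwoTab.BInst.elim ?_
  intro K _ _ hK hF _ _ _ _ q y h π f₁ f₂ f₃ f₄ M₁' hq h10 DK Fc hz hcz hcd hL hc5 big hq5 hcard Bs' hr
  have ht2 : orderOf (q (y 5)) = 2 := by
    refine orderOf_eq_prime ?_ ?_
    · rw [pow_two, ← map_mul, h.sq 5 (by norm_num) (by norm_num), map_one]
    · intro e
      rw [e] at hcard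
      have h6 : centralizer ({1} : Set Spor.BabyMonster) = ⊤ := by
        rw [eq_top_iff]
        intro g _
        rw [mem_centralizer_singleton_iff, mul_one, one_mul]
      rw [h6, card_top, hN] at hcard
      norm_num at hcard
  have hcent : Cfsg.Agent.LThreeMB.KChart.Cent Cfsg.Agent.MonsterX.KDone.K := fun g hg =>
    Cfsg.Agent.MonsterN.LitInst.hcent Cfsg.Agent.MonsterX.KDone.lnk CTwoTab.BInst.all g hg
  have hch := Cfsg.Agent.LThreeMB.KChart.chart Cfsg.Agent.MonsterX.KDone.lft hcent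
  have htype : IsType 2 (Cfsg.Agent.LThreeMB.KChart.eta Cfsg.Agent.MonsterX.KDone.lft
      (Cfsg.Agent.MonsterX.KDone.K.ι Cfsg.Agent.MonsterX.KLinkInst.x₀)) := by
    rw [Cfsg.Agent.LThreeMB.KChart.eta_ι]
    exact (Cfsg.Agent.MonsterU.TwoCls.mem_Sh_iff _ _).1 Cfsg.Agent.MonsterX.KDone.lnk.x₀_mem
  obtain ⟨u, hu, key⟩ := not_comm_b hch ⟨_, rfl⟩ htype hq
  refine primB_all hN ht2 (c := 306129918735099415756800) (by rw [hcard])
    [(3, 13), (5, 6), (23, 1), (31, 1), (47, 1)] (by intro a ha; fin_cases ha <;> norm_num)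
    [2, 7, 11, 13, 17, 19] ?_ 41 (by norm_num)
  intro p hp
  simp only [List.mem_cons, List.not_mem_nil, or_false] at hp
  have hgen : ∀ p : ℕ, p.Prime → (p = 7 ∨ 11 ≤ p) → p ∣ Nat.card Spor.BabyMonster → PrimB Spor.BabyMonster p := by
    intro p hp h7 hd
    exact primB_of_not_comm (r := 2) (k := 3) hp Nat.prime_two (by omega) hd hu fun x hx => key p hp h7 x hx
  rcases hp with rfl | rfl | rfl | rfl | rfl | rfl
  · exact ⟨Nat.prime_two, h2⟩
  all_goals exact ⟨by norm_num, hgen _ (by norm_num) (by norm_num) (by rw [hN]; norm_num)⟩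

theorem primB_b {G : Type*} [Group G] [Finite G] (h : Spor.IsoB G) :
    ∀ p : ℕ, p.Prime → p ∣ Nat.card G → PrimB G p := by
  have hN := NotCT.Orders.b h
  have h2 : PrimB G 2 := primB_two (H393.Iso.na_b h) (by norm_num) (by norm_num)
    (by rw [hN]; norm_num) (by rw [hN]; norm_num)
  obtain ⟨e⟩ := h
  have hc := Nat.card_congr e.toEquiv
  intro p hp hd
  exact (primB_b_model (h2.congr e) (by rw [← hc, hN]) p hp (by rwa [← hc])).congr e.symm

end Cfsg.Agent.H524.SporTool
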