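import Cfsg.Agent.H524.ClassSize
import Cfsg.Agent.Lib.SubnormalJoin
import Cfsg.Agent.SolvableStructure.MinimalNormal
import Cfsg.Agent.SolvableStructure.Supersolvable

/-!
# Groups with square-free class sizes: basic facts and supersolvability

* `SF G`: all class sizes are square-free; inherited by quotients;
* `relIndex_dvd`: `|N : C_N(y)|` divides the class size of `y`, for `N` normal;
* `delta`: the homomorphism `n ↦ ⁅y, n⁆` on an abelian normal subgroup;
* `two_elem`, `dichotomy`: if every element acts on the abelian normal subgroup `N` trivially or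
  with fixed points of index `p`, then the commutators lie in one subgroup of order `p` or the
  fixed points are the same;
* `isSupersolvable`: a solvable group with square-free class sizes is supersolvable.
-/

set_option autoImplicit false

namespace Cfsg.Agent.H524.Sqf

open Subgroup
open scoped commutatorElement

/-- All class sizes are square-free. -/
def SF (G : Type*) [Group G] : Prop :=
  ∀ x : G, Squarefree (Subgroup.centralizer ({x} : Set G)).index

theorem SF.of_surjective {G H : Type*} [Group G] [Group H] (f : G →* H)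
    (hf : Function.Surjective f) (h : SF G) : SF H := by
  intro x
  obtain ⟨y, rfl⟩ := hf x
  have h1 : Subgroup.centralizer ({y} : Set G) ≤
      (Subgroup.centralizer ({f y} : Set H)).comap f := by
    intro z hz
    rw [Subgroup.mem_centralizer_singleton_iff] at hz
    rw [Subgroup.mem_comap, Subgroup.mem_centralizer_singleton_iff, ← map_mul, hz, map_mul]
  have h2 := Subgroup.index_dvd_of_le h1
  rw [Subgroup.index_comap_of_surjective _ hf] at h2
  exact (h y).squarefree_of_dvd h2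

variable {G : Type*} [Group G]

/-- `|N : C ∩ N|` divides `|G : C|` for a normal subgroup `N`. -/
theorem relIndex_dvd [Finite G] (N : Subgroup G) [N.Normal] (C : Subgroup G) :
    C.relIndex N ∣ C.index := by
  have h0 : (N ⊓ C).relIndex C * C.relIndex (C ⊔ N) = (N ⊓ C).relIndex N * N.relIndex (C ⊔ N) := by
    rw [Subgroup.relIndex_mul_relIndex _ _ _ inf_le_right le_sup_left,
      Subgroup.relIndex_mul_relIndex _ _ _ inf_le_left le_sup_right]
  rw [Subgroup.inf_relIndex_right, Subgroup.inf_relIndex_left, Subgroup.relIndex_sup_right,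
    mul_comm (C.relIndex N)] at h0
  have hne : N.relIndex C ≠ 0 := by
    rw [Subgroup.relIndex]
    exact Subgroup.index_ne_zero_of_finite
  have h1 : C.relIndex (C ⊔ N) = C.relIndex N :=
    Nat.eq_of_mul_eq_mul_left (Nat.pos_of_ne_zero hne) h0
  rw [← h1]
  exact Subgroup.relIndex_dvd_index_of_le le_sup_left

/-- For `G` with square-free class sizes and `N` a normal `p`-subgroup, `|N : C_N(y)|` divides
`p`. -/
theorem SF.relIndex_dvd_prime [Finite G] (h : SF G) {p : ℕ} [hp : Fact p.Prime] {N : Subgroup G}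
    [N.Normal] (hN : IsPGroup p N) (y : G) :
    (Subgroup.centralizer ({y} : Set G)).relIndex N ∣ p := by
  have h1 : Squarefree ((Subgroup.centralizer ({y} : Set G)).relIndex N) :=
    (h y).squarefree_of_dvd (relIndex_dvd N _)
  obtain ⟨n, hn⟩ := IsPGroup.iff_card.mp hN
  have h2 : (Subgroup.centralizer ({y} : Set G)).relIndex N ∣ p ^ n := by
    rw [← hn]; exact Subgroup.relIndex_dvd_card _ _
  obtain ⟨k, -, hk⟩ := (Nat.dvd_prime_pow hp.out).mp h2
  rw [hk] at h1 ⊢
  rcases Nat.lt_or_ge k 2 with hk2 | hk2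
  · interval_cases k
    · simp
    · simp
  · exfalso
    have h3 : p * p ∣ p ^ k := by
      rw [← pow_two]; exact pow_dvd_pow p hk2
    have := h1 p h3
    exact hp.out.one_lt.ne' (Nat.isUnit_iff.mp this)

/-- The homomorphism `n ↦ ⁅y, n⁆` on an abelian normal subgroup. -/
def delta (N : Subgroup G) [hN : N.Normal] (hc : ∀ a ∈ N, ∀ b ∈ N, a * b = b * a) (y : G) :
    N →* G where
  toFun n := ⁅y, (n : G)⁆
  map_one' := by simp
  map_mul' a b := by
    have h1 : ⁅y, (b : G)⁆ ∈ N := by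
      rw [commutatorElement_def]
      exact N.mul_mem (hN.conj_mem _ b.2 y) (N.inv_mem b.2)
    have h2 := hc _ h1 _ (N.inv_mem a.2)
    have h3 : ⁅y, ((a * b : N) : G)⁆ = y * a * y⁻¹ * (⁅y, (b : G)⁆ * (a : G)⁻¹) := by
      rw [Subgroup.coe_mul, commutatorElement_def, commutatorElement_def]; group
    rw [h3, h2, commutatorElement_def, commutatorElement_def]; group

theorem delta_apply (N : Subgroup G) [hN : N.Normal] (hc : ∀ a ∈ N, ∀ b ∈ N, a * b = b * a)
    (y : G) (n : N) : delta N hc y n = ⁅y, (n : G)⁆ := rfl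

theorem delta_ker (N : Subgroup G) [hN : N.Normal] (hc : ∀ a ∈ N, ∀ b ∈ N, a * b = b * a)
    (y : G) : (delta N hc y).ker = (Subgroup.centralizer ({y} : Set G)).subgroupOf N := by
  ext n
  rw [MonoidHom.mem_ker, delta_apply, Subgroup.mem_subgroupOf,
    Subgroup.mem_centralizer_singleton_iff, commutatorElement_eq_one_iff_mul_comm]
  exact eq_comm

/-- The subgroup of the commutators `⁅y, n⁆`. -/
def I (N : Subgroup G) [N.Normal] (hc : ∀ a ∈ N, ∀ b ∈ N, a * b = b * a) (y : G) :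
    Subgroup G := (delta N hc y).range

theorem card_I (N : Subgroup G) [N.Normal] (hc : ∀ a ∈ N, ∀ b ∈ N, a * b = b * a) (y : G) :
    Nat.card (I N hc y) = (Subgroup.centralizer ({y} : Set G)).relIndex N := by
  rw [I, ← Subgroup.index_ker, delta_ker]; rfl

theorem mem_I {N : Subgroup G} [N.Normal] {hc : ∀ a ∈ N, ∀ b ∈ N, a * b = b * a} {y c : G} :
    c ∈ I N hc y ↔ ∃ n ∈ N, ⁅y, n⁆ = c := by
  rw [I, MonoidHom.mem_range]
  constructor
  · rintro ⟨n, rfl⟩; exact ⟨n, n.2, rfl⟩
  · rintro ⟨n, hn, rfl⟩; exact ⟨⟨n, hn⟩, rfl⟩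

theorem comm_mem_I {N : Subgroup G} [N.Normal] (hc : ∀ a ∈ N, ∀ b ∈ N, a * b = b * a) (y : G)
    {n : G} (hn : n ∈ N) : ⁅y, n⁆ ∈ I N hc y := mem_I.mpr ⟨n, hn, rfl⟩

theorem I_le {N : Subgroup G} [hN : N.Normal] {hc : ∀ a ∈ N, ∀ b ∈ N, a * b = b * a} {y : G} :
    I N hc y ≤ N := by
  intro c hcI
  obtain ⟨n, hn, rfl⟩ := mem_I.mp hcI
  rw [commutatorElement_def]
  exact N.mul_mem (hN.conj_mem _ hn y) (N.inv_mem hn)

/-- Conjugation. -/
theorem conj_mem_I {N : Subgroup G} [hN : N.Normal] {hc : ∀ a ∈ N, ∀ b ∈ N, a * b = b * a}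
    {y c : G} (h : c ∈ I N hc y) (g : G) : g * c * g⁻¹ ∈ I N hc (g * y * g⁻¹) := by
  obtain ⟨n, hn, rfl⟩ := mem_I.mp h
  refine mem_I.mpr ⟨g * n * g⁻¹, hN.conj_mem _ hn g, ?_⟩
  simp only [commutatorElement_def]; group

theorem conj_self_mem_I {N : Subgroup G} [hN : N.Normal]
    {hc : ∀ a ∈ N, ∀ b ∈ N, a * b = b * a} {y c : G} (h : c ∈ I N hc y) :
    y⁻¹ * c * y ∈ I N hc y := by
  have h1 := conj_mem_I h y⁻¹
  have h2 : y⁻¹ * y * y⁻¹⁻¹ = y := by group
  rw [h2] at h1
  simpa using h1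

/-- Two subgroups of order dividing `p` with a common nontrivial element are equal. -/
theorem eq_of_common {p : ℕ} (hp : p.Prime) {A B : Subgroup G} (hA : Nat.card A ∣ p)
    (hB : Nat.card B ∣ p) {c : G} (hc : c ≠ 1) (hcA : c ∈ A) (hcB : c ∈ B) : A = B := by
  have key : ∀ D : Subgroup G, Nat.card D ∣ p → c ∈ D → zpowers c = D := by
    intro D hD hcD
    have hle : zpowers c ≤ D := (zpowers_le).mpr hcD
    have hpos : Nat.card D ≠ 0 := fun h0 => by
      rw [h0, Nat.zero_dvd] at hD; exact hp.ne_zero hD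
    have : Finite D := Nat.finite_of_card_ne_zero hpos
    have h1 : Nat.card (zpowers c) ∣ Nat.card D := Subgroup.card_dvd_of_le hle
    have h2 : Nat.card (zpowers c) ≠ 1 := by
      rw [Nat.card_zpowers]; exact fun h => hc (orderOf_eq_one_iff.mp h)
    have h3 : Nat.card (zpowers c) = p := ((Nat.dvd_prime hp).mp (h1.trans hD)).resolve_left h2
    have h4 : Nat.card D ≠ 1 := fun h => by
      rw [h, Nat.dvd_one] at h1; exact h2 h1
    have h5 : Nat.card D = p := ((Nat.dvd_prime hp).mp hD).resolve_left h4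
    exact Subgroup.eq_of_le_of_card_ge hle (by rw [h3, h5])
  rw [← key A hA hcA, ← key B hB hcB]

/-- The two element argument. -/
theorem two_elem {p : ℕ} (hp : p.Prime) {N : Subgroup G} [hN : N.Normal]
    {hc : ∀ a ∈ N, ∀ b ∈ N, a * b = b * a} (hI : ∀ y : G, Nat.card (I N hc y) ∣ p) {y z n m : G}
    (hn : n ∈ N) (hm : m ∈ N) (hyn : ⁅y, n⁆ = 1) (hzn : ⁅z, n⁆ ≠ 1) (hzm : ⁅z, m⁆ = 1)
    (hym : ⁅y, m⁆ ≠ 1) : I N hc y = I N hc z := by
  have e : ∀ k : G, ⁅y * z, k⁆ = y * ⁅z, k⁆ * y⁻¹ * ⁅y, k⁆ := by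
    intro k; simp only [commutatorElement_def]; group
  have h1 : ⁅y, m⁆ ∈ I N hc (y * z) := by
    have := comm_mem_I hc (y * z) hm
    rwa [e, hzm, mul_one, mul_inv_cancel, one_mul] at this
  have h2 : I N hc y = I N hc (y * z) :=
    eq_of_common hp (hI y) (hI _) hym (comm_mem_I hc y hm) h1
  have h3 : y * ⁅z, n⁆ * y⁻¹ ∈ I N hc (y * z) := by
    have := comm_mem_I hc (y * z) hn
    rwa [e, hyn, mul_one] at this
  rw [← h2] at h3
  have h4 := conj_self_mem_I h3
  have h5 : y⁻¹ * (y * ⁅z, n⁆ * y⁻¹) * y = ⁅z, n⁆ := by group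
  rw [h5] at h4
  exact eq_of_common hp (hI y) (hI z) hzn h4 (comm_mem_I hc z hn)

/-- If `C_N(y) ≤ C_N(z)` and both are proper then they are equal. -/
theorem ker_eq_of_le [Finite G] {p : ℕ} (hp : p.Prime) {N : Subgroup G} [hN : N.Normal]
    {hc : ∀ a ∈ N, ∀ b ∈ N, a * b = b * a} (hI : ∀ y : G, Nat.card (I N hc y) ∣ p) {y z : G}
    (hz : ∃ n ∈ N, ⁅z, n⁆ ≠ 1) (h : ∀ n ∈ N, ⁅y, n⁆ = 1 → ⁅z, n⁆ = 1) :
    ∀ n ∈ N, ⁅z, n⁆ = 1 → ⁅y, n⁆ = 1 := by
  have hle : (delta N hc y).ker ≤ (delta N hc z).ker := by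
    intro n hn
    rw [MonoidHom.mem_ker, delta_apply] at hn ⊢
    exact h n n.2 hn
  have hiy : (delta N hc y).ker.index ∣ p := by rw [Subgroup.index_ker]; exact hI y
  have hiz : (delta N hc z).ker.index = p := by
    have h1 : (delta N hc z).ker.index ∣ p := by rw [Subgroup.index_ker]; exact hI z
    refine ((Nat.dvd_prime hp).mp h1).resolve_left ?_
    intro h2
    obtain ⟨n, hn, hne⟩ := hz
    rw [Subgroup.index_eq_one] at h2
    apply hne
    have : (⟨n, hn⟩ : N) ∈ (delta N hc z).ker := by rw [h2]; trivial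
    exact this
  have heq : (delta N hc y).ker = (delta N hc z).ker := by
    have h3 := Subgroup.relIndex_mul_index hle
    have h4 : (delta N hc z).ker.relIndex ⊤ = (delta N hc z).ker.index :=
      Subgroup.relIndex_top_right _
    have h5 : (delta N hc y).ker.relIndex (delta N hc z).ker * p ∣ p := by
      rw [← hiz, h3, hiz]; exact hiy
    have h6 : (delta N hc y).ker.relIndex (delta N hc z).ker = 1 := by
      have h7 : (delta N hc y).ker.relIndex (delta N hc z).ker * p ∣ 1 * p := by rwa [one_mul]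
      exact Nat.dvd_one.mp (Nat.dvd_of_mul_dvd_mul_right hp.pos h7)
    rw [Subgroup.relIndex_eq_one] at h6
    exact le_antisymm hle h6
  intro n hn hzn
  have h7 : (⟨n, hn⟩ : N) ∈ (delta N hc y).ker := by
    rw [heq]; exact hzn
  exact h7

/-- The dichotomy. -/
theorem dichotomy [Finite G] {p : ℕ} (hp : p.Prime) {N : Subgroup G} [hN : N.Normal]
    {hc : ∀ a ∈ N, ∀ b ∈ N, a * b = b * a} (hI : ∀ y : G, Nat.card (I N hc y) ∣ p) :
    (∃ L : Subgroup G, Nat.card L ∣ p ∧ ∀ y, I N hc y ≤ L) ∨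
      (∃ y : G, (∃ n ∈ N, ⁅y, n⁆ ≠ 1) ∧ ∀ z : G, ∀ n ∈ N, ⁅y, n⁆ = 1 → ⁅z, n⁆ = 1) := by
  by_cases htriv : ∀ y : G, ∀ n ∈ N, ⁅y, n⁆ = 1
  · left
    refine ⟨⊥, by simp, fun y c hcI => ?_⟩
    obtain ⟨n, hn, rfl⟩ := mem_I.mp hcI
    rw [htriv y n hn]; exact Subgroup.one_mem _
  push Not at htriv
  obtain ⟨y, hy⟩ := htriv
  by_cases hall : ∀ z : G, ∀ n ∈ N, ⁅y, n⁆ = 1 → ⁅z, n⁆ = 1
  · exact Or.inr ⟨y, hy, hall⟩
  left
  -- any two elements with different fixed points have the same commutator subgroup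
  have key : ∀ u v : G, (∃ n ∈ N, ⁅u, n⁆ ≠ 1) → (∃ n ∈ N, ⁅v, n⁆ ≠ 1) →
      (∃ n ∈ N, ⁅u, n⁆ = 1 ∧ ⁅v, n⁆ ≠ 1) → I N hc u = I N hc v := by
    intro u v hu hv huv
    obtain ⟨n, hn, h1, h2⟩ := huv
    by_cases hvu : ∀ m ∈ N, ⁅v, m⁆ = 1 → ⁅u, m⁆ = 1
    · exact absurd (ker_eq_of_le hp hI hu hvu n hn h1) h2
    · push Not at hvu
      obtain ⟨m, hm, h3, h4⟩ := hvu
      exact two_elem hp hI hn hm h1 h2 h3 h4
  push Not at hall
  obtain ⟨z, n, hn, hyn, hzn⟩ := hall
  have hz : ∃ n ∈ N, ⁅z, n⁆ ≠ 1 := ⟨n, hn, hzn⟩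
  have hyz : I N hc y = I N hc z := key y z hy hz ⟨n, hn, hyn, hzn⟩
  refine ⟨I N hc y, hI y, fun w => ?_⟩
  by_cases hw : ∃ n ∈ N, ⁅w, n⁆ ≠ 1
  · by_cases hwn : ⁅w, n⁆ = 1
    · rw [hyz, ← key w z hw hz ⟨n, hn, hwn, hzn⟩]
    · rw [key y w hy hw ⟨n, hn, hyn, hwn⟩]
  · push Not at hw
    intro c hcI
    obtain ⟨n, hn, rfl⟩ := mem_I.mp hcI
    rw [hw n hn]; exact Subgroup.one_mem _

/-- From a nontrivial abelian normal `p`-subgroup with fixed points of index dividing `p` one gets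
a normal subgroup of order `p`. -/
theorem exists_normal_prime [Finite G] {p : ℕ} [hp : Fact p.Prime] {N : Subgroup G}
    [hN : N.Normal] (hNp : IsPGroup p N) (hne : N ≠ ⊥)
    (hc : ∀ a ∈ N, ∀ b ∈ N, a * b = b * a)
    (hI : ∀ y : G, (Subgroup.centralizer ({y} : Set G)).relIndex N ∣ p) :
    ∃ L : Subgroup G, L.Normal ∧ Nat.card L = p := by
  have hI' : ∀ y : G, Nat.card (I N hc y) ∣ p := fun y => by rw [card_I]; exact hI y
  -- central elements of `N`
  have central : ∀ K : Subgroup G, K ≤ N → K ≠ ⊥ → (∀ k ∈ K, ∀ g : G, g * k * g⁻¹ = k) →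
      ∃ L : Subgroup G, L.Normal ∧ Nat.card L = p := by
    intro K hKN hK hcen
    have hKp : IsPGroup p K := hNp.to_le hKN
    obtain ⟨n, hn⟩ := IsPGroup.iff_card.mp hKp
    have hn0 : n ≠ 0 := by
      rintro rfl
      rw [pow_zero] at hn
      exact hK (Subgroup.card_eq_one.mp hn)
    have hdvd : p ∣ Nat.card K := by rw [hn]; exact dvd_pow_self p hn0
    obtain ⟨x, hx⟩ := exists_prime_orderOf_dvd_card' p hdvd
    refine ⟨zpowers (x : G), ⟨fun a ha g => ?_⟩, ?_⟩
    · obtain ⟨k, rfl⟩ := Subgroup.mem_zpowers_iff.mp ha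
      have : g * (x : G) ^ k * g⁻¹ = (x : G) ^ k := by
        rw [← conj_zpow, hcen x x.2 g]
      rw [this]; exact ⟨k, rfl⟩
    · rw [Nat.card_zpowers, Subgroup.orderOf_coe, hx]
  rcases dichotomy hp.out hI' with ⟨L, hL, hIL⟩ | ⟨y, hy, hall⟩
  · by_cases htriv : ∀ y : G, ∀ n ∈ N, ⁅y, n⁆ = 1
    · refine central N le_rfl hne (fun k hk g => ?_)
      have := htriv g k hk
      rw [commutatorElement_eq_one_iff_mul_comm] at this
      rw [this]; group
    · push Not at htriv
      obtain ⟨y, n, hn, hyn⟩ := htriv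
      have h1 : I N hc y = L :=
        eq_of_common hp.out (hI' y) hL hyn (comm_mem_I hc y hn) (hIL y (comm_mem_I hc y hn))
      refine ⟨I N hc y, ⟨fun c hcI g => ?_⟩, ?_⟩
      · rw [h1]
        exact hIL _ (conj_mem_I hcI g)
      · refine ((Nat.dvd_prime hp.out).mp (hI' y)).resolve_left (fun h => ?_)
        rw [Subgroup.card_eq_one] at h
        have h2 := comm_mem_I hc y hn
        rw [h, Subgroup.mem_bot] at h2
        exact hyn h2
  · by_cases hK : N ⊓ Subgroup.centralizer ({y} : Set G) = ⊥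
    · refine ⟨N, hN, ?_⟩
      have h1 : (Subgroup.centralizer ({y} : Set G)).relIndex N = Nat.card N := by
        rw [← Subgroup.inf_relIndex_right, inf_comm, hK, Subgroup.relIndex_bot_left]
      have h2 := hI y
      rw [h1] at h2
      exact ((Nat.dvd_prime hp.out).mp h2).resolve_left (fun h => hne (Subgroup.card_eq_one.mp h))
    · refine central _ inf_le_left hK (fun k hk g => ?_)
      have h1 : ⁅y, k⁆ = 1 := by
        rw [commutatorElement_eq_one_iff_mul_comm]
        exact (Subgroup.mem_centralizer_singleton_iff.mp hk.2).symm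
      have := hall g k hk.1 h1
      rw [commutatorElement_eq_one_iff_mul_comm] at this
      rw [this]; group

/-- A solvable group with square-free class sizes is supersolvable. -/
theorem isSupersolvable_aux : ∀ (n : ℕ) (G : Type*) [Group G] [Finite G] [Group.IsSolvable G],
    Nat.card G = n → SF G → IsSupersolvable G := by
  intro n
  induction n using Nat.strong_induction_on with
  | _ n ih =>
    intro G _ _ _ hn h
    rcases subsingleton_or_nontrivial G with hs | hnt
    · exact Cfsg.Agent.SolvableStructure.Supersolvable.isSupersolvable_of_subsingleton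
    obtain ⟨M, hMn, hM, hmin⟩ := Cfsg.Agent.Lib.SubnormalJoin.exists_minimal_normal G
    have hcomm := Cfsg.Agent.SolvableStructure.MinimalNormal.comm_of_minimal_normal M hM hmin
    obtain ⟨p, d, hp, hd, hcard, -⟩ :=
      Cfsg.Agent.SolvableStructure.MinimalNormal.exists_prime_of_minimal_normal M hM hmin
    have : Fact p.Prime := ⟨hp⟩
    have hMp : IsPGroup p M := IsPGroup.of_card hcard
    obtain ⟨L, hL, hLp⟩ := exists_normal_prime hMp hM hcomm (fun y => h.relIndex_dvd_prime hMp y)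
    have hcyc : IsCyclic L := isCyclic_of_prime_card hLp
    have hlt : Nat.card (G ⧸ L) < n := by
      have h1 := Subgroup.card_eq_card_quotient_mul_card_subgroup L
      rw [hLp, hn] at h1
      have h2 : 0 < Nat.card (G ⧸ L) := Nat.card_pos
      have h3 := hp.two_le
      nlinarith
    exact Cfsg.Agent.SolvableStructure.Supersolvable.isSupersolvable_of_isCyclic_normal L
      (ih _ hlt (G ⧸ L) rfl (h.of_surjective (QuotientGroup.mk' L) (QuotientGroup.mk'_surjective L)))

theorem SF.isSupersolvable [Finite G] [Group.IsSolvable G] (h : SF G) : IsSupersolvable G :=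
  isSupersolvable_aux _ G rfl h

end Cfsg.Agent.H524.Sqf
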