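import Mathlib
import Cfsg.Agent.H524.RegTool

/-!
# A linear criterion for `RegB`

`K` a finite field, `V` a finite dimensional space, `ρ : X →* End V` injective, `π : X →* S` surjective with central
kernel. `fx ρ x` is the fixed space of `x`.

* `modEq_fix`: `x` of prime order `r`: `|U| ≡ |U ∩ fx x|` modulo `r` for invariant `U`; `dvd_finrank`: the order `e` of
  `|K|` modulo `r` divides `dim U - dim (U ∩ fx x)`;
* `dich`: `a` of prime order `r`, `y` commuting with `a`: `dim (fx y) ≤ dim V - e` or `e ≤ dim (fx y)`;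
* `regB_of_mid`: if `r ∣ |X|` (`r` prime, `r ∤ |ker π|`), `e` the order of `|K|` modulo `r`, and some `q`-element has a fixed space of
  dimension strictly between `dim V - e` and `e`, then `RegB S l q`;
* `regB_of_comm`: the same if every element of order `q` commuting with the `l'`-element `s` has this property.
-/

set_option autoImplicit false
set_option linter.unusedSectionVars false

namespace Cfsg.Agent.H524.LinReg

open Module Cfsg.Agent.H524.DirRed Cfsg.Agent.H524.RegTool

variable {K V X : Type*} [Field K] [Finite K] [AddCommGroup V] [Module K V] [FiniteDimensional K V] [Group X]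

/-- the fixed space -/
def fx (ρ : X →* Module.End K V) (x : X) : Submodule K V := LinearMap.ker (ρ x - 1)

variable (ρ : X →* Module.End K V)

theorem mem_fx {x : X} {v : V} : v ∈ fx ρ x ↔ ρ x v = v := by
  rw [fx, LinearMap.mem_ker, LinearMap.sub_apply, Module.End.one_apply, sub_eq_zero]

theorem modEq_fix {r n : ℕ} [hr : Fact r.Prime] {a : X} (ha : a ^ r ^ n = 1) {U : Submodule K V}
    (hU : ∀ u ∈ U, ρ a u ∈ U) :
    Nat.card K ^ finrank K U ≡ Nat.card K ^ finrank K (U ⊓ fx ρ a : Submodule K V) [MOD r] := by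
  classical
  have : Finite V := Module.finite_of_finite K
  have : Fintype U := Fintype.ofFinite U
  let f : Function.End U := fun u => ⟨ρ a u, hU u u.2⟩
  have hf : ∀ k : ℕ, ∀ u : U, ((f ^ k) u : V) = ρ (a ^ k) u := by
    intro k
    induction k with
    | zero => intro u; simp; rfl
    | succ k ih =>
      intro u
      have h1 : (f ^ (k + 1)) u = (f ^ k) (f u) := by rw [pow_succ]; rfl
      rw [h1, ih, pow_succ, map_mul]
      rfl
  have hf1 : f ^ r ^ n = 1 := by
    funext u
    apply Subtype.ext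
    rw [hf, ha, map_one]
    rfl
  have h1 := Equiv.Perm.card_fixedPoints_modEq (f := f) (p := r) (n := n) hf1
  have h2 : Fintype.card U = Nat.card K ^ finrank K U := by
    rw [← Nat.card_eq_fintype_card]
    exact Module.natCard_eq_pow_finrank
  have h3 : Fintype.card (Function.fixedPoints f) = Nat.card K ^ finrank K (U ⊓ fx ρ a : Submodule K V) := by
    rw [← Nat.card_eq_fintype_card, ← Module.natCard_eq_pow_finrank (K := K) (V := (U ⊓ fx ρ a : Submodule K V))]
    apply Nat.card_congr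
    refine ⟨fun u => ⟨u.1.1, u.1.2, ?_⟩, fun u => ⟨⟨u.1, u.2.1⟩, ?_⟩, fun u => rfl, fun u => rfl⟩
    · have := u.2
      rw [Function.mem_fixedPoints, Function.IsFixedPt] at this
      exact (mem_fx ρ).2 (congrArg Subtype.val this)
    · rw [Function.mem_fixedPoints, Function.IsFixedPt]
      exact Subtype.ext ((mem_fx ρ).1 u.2.2)
  rw [h2, h3] at h1
  exact h1

theorem dvd_finrank {r e : ℕ} (hr : r.Prime) {a : X} {n : ℕ} (ha : a ^ r ^ n = 1) (he : orderOf ((Nat.card K : ℕ) : ZMod r) = e)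
    (he0 : e ≠ 0) {U : Submodule K V} (hU : ∀ u ∈ U, ρ a u ∈ U) :
    e ∣ finrank K U - finrank K (U ⊓ fx ρ a : Submodule K V) := by
  have : Fact r.Prime := ⟨hr⟩
  have h1 := modEq_fix ρ ha hU
  have hle : finrank K (U ⊓ fx ρ a : Submodule K V) ≤ finrank K U := Submodule.finrank_mono inf_le_left
  obtain ⟨c, hc⟩ := Nat.exists_eq_add_of_le hle
  rw [← he]
  apply orderOf_dvd_of_pow_eq_one
  rw [hc, Nat.add_sub_cancel_left]
  rw [← ZMod.natCast_eq_natCast_iff, hc, pow_add] at h1
  push_cast at h1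
  have hne : ((Nat.card K : ℕ) : ZMod r) ≠ 0 := by
    intro h0
    rw [h0] at he
    exact he0 (he ▸ orderOf_eq_zero_iff'.2 fun n hn => by rw [zero_pow hn.ne']; exact zero_ne_one)
  have hne' := pow_ne_zero (finrank K (U ⊓ fx ρ a : Submodule K V)) hne
  exact mul_left_cancel₀ hne' (by rw [h1, mul_one])

theorem fx_top {r e : ℕ} (hr : r.Prime) (hρ : Function.Injective ρ) {a : X} {n : ℕ} (ha : a ^ r ^ n = 1) (ha1 : a ≠ 1)
    (he : orderOf ((Nat.card K : ℕ) : ZMod r) = e) (he0 : e ≠ 0) :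
    e ∣ finrank K V - finrank K (fx ρ a) ∧ finrank K (fx ρ a) + e ≤ finrank K V := by
  have h1 := dvd_finrank ρ hr ha he he0 (U := ⊤) (fun u _ => trivial)
  rw [top_inf_eq, finrank_top] at h1
  refine ⟨h1, ?_⟩
  have hle : finrank K (fx ρ a) ≤ finrank K V := Submodule.finrank_le _
  have hlt : finrank K (fx ρ a) < finrank K V := by
    refine lt_of_le_of_ne hle fun h => ha1 ?_
    have h2 : fx ρ a = ⊤ := Submodule.eq_top_of_finrank_eq h
    apply hρ
    rw [map_one]
    ext v
    have : v ∈ fx ρ a := by rw [h2]; trivial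
    exact (mem_fx ρ).1 this
  have := Nat.le_of_dvd (by omega) h1
  omega

theorem fx_inv {a y : X} (h : Commute a y) : ∀ u ∈ fx ρ y, ρ a u ∈ fx ρ y := by
  intro u hu
  rw [mem_fx] at hu ⊢
  rw [← Module.End.mul_apply, ← map_mul, ← h.eq, map_mul, Module.End.mul_apply, hu]

/-- The dichotomy. -/
theorem dich {r e : ℕ} (hr : r.Prime) (hρ : Function.Injective ρ) {a : X} {n : ℕ} (ha : a ^ r ^ n = 1) (ha1 : a ≠ 1)
    (he : orderOf ((Nat.card K : ℕ) : ZMod r) = e) (he0 : e ≠ 0) {y : X} (hay : Commute a y) :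
    finrank K (fx ρ y) + e ≤ finrank K V ∨ e ≤ finrank K (fx ρ y) := by
  have h1 := dvd_finrank ρ hr ha he he0 (U := fx ρ y) (fx_inv ρ hay)
  have h2 := (fx_top ρ hr hρ ha ha1 he he0).2
  have hle : finrank K (fx ρ y ⊓ fx ρ a : Submodule K V) ≤ finrank K (fx ρ a) := Submodule.finrank_mono inf_le_right
  rcases Nat.eq_zero_or_pos (finrank K (fx ρ y) - finrank K (fx ρ y ⊓ fx ρ a : Submodule K V)) with h | h
  · left
    omega
  · right
    have := Nat.le_of_dvd h h1
    omega

theorem finrank_fx_conj (g y : X) : finrank K (fx ρ (g * y * g⁻¹)) = finrank K (fx ρ y) := by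
  have key : ∀ g y : X, finrank K (fx ρ y) ≤ finrank K (fx ρ (g * y * g⁻¹)) := by
    intro g y
    have hinj : Function.Injective (ρ g) := by
      intro v w h
      have := congrArg (ρ g⁻¹) h
      rwa [← Module.End.mul_apply, ← Module.End.mul_apply, ← map_mul, inv_mul_cancel, map_one] at this
    have h1 : (fx ρ y).map (ρ g) ≤ fx ρ (g * y * g⁻¹) := by
      rintro _ ⟨v, hv, rfl⟩
      rw [mem_fx] at ⊢
      have hv' : ρ y v = v := (mem_fx ρ).1 hv
      rw [← Module.End.mul_apply, ← map_mul]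
      have e1 : g * y * g⁻¹ * g = g * y := by group
      rw [e1, map_mul, Module.End.mul_apply, hv']
    calc finrank K (fx ρ y) = finrank K ((fx ρ y).map (ρ g)) :=
          (Submodule.equivMapOfInjective (ρ g) hinj (fx ρ y)).finrank_eq
      _ ≤ _ := Submodule.finrank_mono h1
  apply le_antisymm
  · have := key g⁻¹ (g * y * g⁻¹)
    have e1 : g⁻¹ * (g * y * g⁻¹) * g⁻¹⁻¹ = y := by group
    rwa [e1] at this
  · exact key g y

/-- An invariant subspace of dimension less than the order of `|K|` modulo `q` is fixed. -/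
theorem le_fx_of_lt {q f : ℕ} (hq : q.Prime) {y : X} {n : ℕ} (hy : y ^ q ^ n = 1)
    (hf : orderOf ((Nat.card K : ℕ) : ZMod q) = f) (hf0 : f ≠ 0) {U : Submodule K V} (hU : ∀ u ∈ U, ρ y u ∈ U)
    (h : finrank K U < f) : U ≤ fx ρ y := by
  have h1 := dvd_finrank ρ hq hy hf hf0 hU
  have hle : finrank K (U ⊓ fx ρ y : Submodule K V) ≤ finrank K U := Submodule.finrank_mono inf_le_left
  have h2 : finrank K U - finrank K (U ⊓ fx ρ y : Submodule K V) = 0 := Nat.eq_zero_of_dvd_of_lt h1 (by omega)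
  have h3 : (U ⊓ fx ρ y : Submodule K V) = U := Submodule.eq_of_le_of_finrank_eq inf_le_left (by omega)
  rw [← h3]
  exact inf_le_right

theorem range_inv {s y : X} (h : Commute s y) : ∀ u ∈ LinearMap.range (ρ s - 1), ρ y u ∈ LinearMap.range (ρ s - 1) := by
  rintro _ ⟨v, rfl⟩
  refine ⟨ρ y v, ?_⟩
  have h1 : ρ s * ρ y = ρ y * ρ s := by rw [← map_mul, ← map_mul, h.eq]
  have h2 : (ρ s - 1) * ρ y = ρ y * (ρ s - 1) := by rw [sub_mul, mul_sub, h1, one_mul, mul_one]
  exact congrArg (fun z : Module.End K V => z v) h2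

theorem eig_inv {s y : X} (h : Commute s y) (c : K) :
    ∀ u ∈ Module.End.eigenspace (ρ s) c, ρ y u ∈ Module.End.eigenspace (ρ s) c := by
  intro u hu
  rw [Module.End.mem_eigenspace_iff] at hu ⊢
  rw [← Module.End.mul_apply, ← map_mul, h.eq, map_mul, Module.End.mul_apply, hu, map_smul]

theorem finrank_range_add_fx (s : X) : finrank K (LinearMap.range (ρ s - 1)) + finrank K (fx ρ s) = finrank K V :=
  LinearMap.finrank_range_add_finrank_ker _

/-- Determinant one, order prime to the characteristic: the fixed space has codimension at least two. -/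
theorem fx_two (hρ : Function.Injective ρ) {y : X} (hd : LinearMap.det (ρ y) = 1) {k : ℕ} (hk : (k : K) ≠ 0)
    (hy : y ^ k = 1) (hy1 : y ≠ 1) : finrank K (fx ρ y) + 2 ≤ finrank K V := by
  have hr := finrank_range_add_fx ρ y
  by_contra hlt
  push Not at hlt
  -- the range has dimension at most one
  have h1 : finrank K (LinearMap.range (ρ y - 1)) ≤ 1 := by omega
  have hW : fx ρ y ≤ (fx ρ y).comap (ρ y) := fun u hu => fx_inv ρ (Commute.refl y) u hu
  have hdet := LinearMap.det_eq_det_mul_det (fx ρ y) (ρ y) hW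
  have hres : (ρ y).restrict hW = LinearMap.id := by
    ext u
    exact (mem_fx ρ).1 u.2
  rw [hd, hres, LinearMap.det_id, one_mul] at hdet
  -- the quotient
  have hq : finrank K (V ⧸ fx ρ y) ≤ 1 := by
    have := Submodule.finrank_quotient_add_finrank (fx ρ y)
    omega
  have hmap : (fx ρ y).mapQ (fx ρ y) (ρ y) hW = LinearMap.id := by
    rcases Nat.eq_zero_or_pos (finrank K (V ⧸ fx ρ y)) with h0 | h0
    · have := Module.finrank_zero_iff.1 h0
      ext u
      exact Subsingleton.elim _ _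
    · have h1 : finrank K (V ⧸ fx ρ y) = 1 := by omega
      obtain ⟨c, hc, -⟩ := LinearMap.existsUnique_eq_smul_id_of_finrank_eq_one (R := K) h1
        ((fx ρ y).mapQ (fx ρ y) (ρ y) hW)
      rw [hc, LinearMap.det_smul, h1, pow_one, LinearMap.det_id, mul_one] at hdet
      rw [hc, ← hdet, one_smul]
  have hN : ∀ v, ρ y (ρ y v - v) = ρ y v - v := by
    intro v
    have h2 := congrArg (fun z : (V ⧸ fx ρ y) →ₗ[K] (V ⧸ fx ρ y) => z (Submodule.Quotient.mk v)) hmap
    simp only [Submodule.mapQ_apply, LinearMap.id_apply] at h2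
    rw [Submodule.Quotient.eq] at h2
    exact (mem_fx ρ).1 h2
  have hpow : ∀ (j : ℕ) (v : V), ρ (y ^ j) v = v + (j : K) • (ρ y v - v) := by
    intro j v
    induction j with
    | zero => simp
    | succ j ih =>
      rw [pow_succ', map_mul, Module.End.mul_apply, ih, map_add, map_smul, hN]
      push_cast
      rw [add_smul, one_smul]
      abel
  apply hy1
  apply hρ
  rw [map_one]
  ext v
  have h3 := hpow k v
  rw [hy, map_one, Module.End.one_apply] at h3
  have h4 : (k : K) • (ρ y v - v) = 0 := by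
    have := h3.symm
    rwa [add_eq_left] at this
  rw [Module.End.one_apply]
  exact sub_eq_zero.1 ((smul_eq_zero.1 h4).resolve_left hk)

section crit

variable {ρ} {S : Type*} [Group S] [Finite S] [Finite X] {π : X →* S}

/-- commuting modulo a central subgroup -/
theorem comm_of_coprime (hker : ∀ z, π z = 1 → ∀ x, z * x = x * z) {a y : X} {r n : ℕ} (hr : r.Prime)
    (ha : a ^ r ^ n = 1) (hrk : ¬ r ∣ Nat.card π.ker) (h : Commute (π a) (π y)) : Commute a y := by
  obtain ⟨c, hc⟩ : ∃ c, c = a * y * a⁻¹ * y⁻¹ := ⟨_, rfl⟩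
  have hc1 : π c = 1 := by
    rw [hc, map_mul, map_mul, map_mul, map_inv, map_inv, h.eq]
    group
  have hcc := hker c hc1
  have h1 : ∀ k : ℕ, a ^ k * y * (a ^ k)⁻¹ = c ^ k * y := by
    intro k
    induction k with
    | zero => group
    | succ k ih =>
      have e1 : a ^ (k + 1) * y * (a ^ (k + 1))⁻¹ = a * (a ^ k * y * (a ^ k)⁻¹) * a⁻¹ := by
        rw [pow_succ']; group
      have e2 : a * (c ^ k * y) * a⁻¹ = c ^ k * (a * y * a⁻¹) := by
        have : Commute (c ^ k) a := (show Commute c a from hcc a).pow_left k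
        calc a * (c ^ k * y) * a⁻¹ = (a * c ^ k) * y * a⁻¹ := by group
          _ = (c ^ k * a) * y * a⁻¹ := by rw [this.eq]
          _ = c ^ k * (a * y * a⁻¹) := by group
      have hcy : c * y = a * y * a⁻¹ := by rw [hc]; group
      rw [e1, ih, e2, ← hcy, ← mul_assoc, ← pow_succ]
  have h2 := h1 (r ^ n)
  rw [ha] at h2
  have h3 : c ^ r ^ n = 1 := by
    have e1 : 1 * y * (1 : X)⁻¹ = 1 * y := by group
    rw [e1] at h2
    exact (mul_right_cancel h2).symm
  have h4 : orderOf c ∣ Nat.card π.ker := Subgroup.orderOf_dvd_natCard _ hc1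
  have h5 : orderOf c ∣ r ^ n := orderOf_dvd_of_pow_eq_one h3
  have h6 : orderOf c = 1 := by
    have hcop : (r ^ n).Coprime (Nat.card π.ker) := Nat.Coprime.pow_left n ((Nat.Prime.coprime_iff_not_dvd hr).2 hrk)
    exact Nat.eq_one_of_dvd_coprimes hcop h5 h4
  rw [orderOf_eq_one_iff] at h6
  have h7 : a * y * a⁻¹ * y⁻¹ = 1 := by rw [← hc, h6]
  have h8 : a * y = y * a := by
    have := congrArg (fun z => z * y * a) h7
    simpa [mul_assoc] using this
  exact h8

/-- **The criterion, intermediate dimension.** -/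
theorem regB_of_mid (hπ : Function.Surjective π) (hker : ∀ z, π z = 1 → ∀ x, z * x = x * z)
    (hρ : Function.Injective ρ) {l q r e : ℕ} (hl : l.Prime) (hq : q.Prime) (hr : r.Prime) (hrl : r ≠ l)
    (hrX : r ∣ Nat.card X) (hrk : ¬ r ∣ Nat.card π.ker) (he : orderOf ((Nat.card K : ℕ) : ZMod r) = e) (he0 : e ≠ 0)
    {y : X} {k : ℕ} (hy : orderOf y = q ^ k) (hy1 : finrank K V < finrank K (fx ρ y) + e)
    (hy2 : finrank K (fx ρ y) < e) : RegB S l q := by
  by_contra hcon
  have : Fact r.Prime := ⟨hr⟩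
  obtain ⟨a, ha⟩ := exists_prime_orderOf_dvd_card' r hrX
  have ha' : a ^ r ^ 1 = 1 := by rw [pow_one, ← ha, pow_orderOf_eq_one]
  have ha1 : a ≠ 1 := by
    rintro rfl
    rw [orderOf_one] at ha
    exact hr.one_lt.ne ha
  have hx : ¬ l ∣ orderOf (π a) := by
    intro h
    have h1 : l ∣ r := h.trans (ha ▸ orderOf_map_dvd π a)
    exact hrl ((Nat.prime_dvd_prime_iff_eq hl hr).1 h1).symm
  obtain ⟨j, -, hj⟩ := (Nat.dvd_prime_pow hq).1 (hy ▸ orderOf_map_dvd π y)
  obtain ⟨g, hg⟩ := exists_conj_comm_of_not hq hcon hx hj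
  obtain ⟨g, rfl⟩ := hπ g
  have h1 : Commute (π a) (π (g * y * g⁻¹)) := by rwa [map_mul, map_mul, map_inv]
  have h2 := comm_of_coprime hker hr ha' hrk h1
  rcases dich ρ hr hρ ha' ha1 he he0 h2 with h | h
  · rw [finrank_fx_conj] at h
    omega
  · rw [finrank_fx_conj] at h
    omega

/-- **The criterion, elements commuting with `s`.** -/
theorem regB_of_comm (hπ : Function.Surjective π) (hker : ∀ z, π z = 1 → ∀ x, z * x = x * z)
    (hρ : Function.Injective ρ) {l q r e : ℕ} (hl : l.Prime) (hq : q.Prime) (hr : r.Prime) (hrl : r ≠ l)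
    (hrX : r ∣ Nat.card X) (hrk : ¬ r ∣ Nat.card π.ker) (he : orderOf ((Nat.card K : ℕ) : ZMod r) = e) (he0 : e ≠ 0)
    (hqS : q ∣ Nat.card S) (hqk : ¬ q ∣ Nat.card π.ker) {f : ℕ} (hf : orderOf ((Nat.card K : ℕ) : ZMod q) = f)
    (hef : finrank K V < e + f) {s : X} (hs : ¬ l ∣ orderOf s)
    (H : ∀ y : X, orderOf y = q → Commute s y → finrank K V < finrank K (fx ρ y) + e) : RegB S l q := by
  by_contra hcon
  have : Fact q.Prime := ⟨hq⟩
  have hqX : q ∣ Nat.card X := hqS.trans (Subgroup.card_dvd_of_surjective π hπ)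
  obtain ⟨y, hy⟩ := exists_prime_orderOf_dvd_card' q hqX
  have hx : ¬ l ∣ orderOf (π s) := fun h => hs (h.trans (orderOf_map_dvd π s))
  have hy' : orderOf y = q ^ 1 := by rw [pow_one, hy]
  obtain ⟨j, -, hj⟩ := (Nat.dvd_prime_pow hq).1 (hy' ▸ orderOf_map_dvd π y)
  obtain ⟨g, hg⟩ := exists_conj_comm_of_not hq hcon hx hj
  obtain ⟨g, rfl⟩ := hπ g
  have h1 : Commute (π (g * y * g⁻¹)) (π s) := by rw [map_mul, map_mul, map_inv]; exact hg.symm
  have ho : orderOf (g * y * g⁻¹) = q := by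
    rw [← hy]
    have := MulEquiv.orderOf_eq (MulAut.conj g) y
    simpa [MulAut.conj_apply] using this
  have hyq : (g * y * g⁻¹) ^ q ^ 1 = 1 := by rw [pow_one, ← ho, pow_orderOf_eq_one]
  have h2 := comm_of_coprime hker hq hyq hqk h1
  have h3 := H _ ho h2.symm
  have hy1 : g * y * g⁻¹ ≠ 1 := by
    intro h
    rw [h, orderOf_one] at ho
    exact hq.one_lt.ne ho
  have hf0 : f ≠ 0 := by
    rintro rfl
    have : finrank K V < e := by omega
    -- `e ≤ dim V`
    have : Fact r.Prime := ⟨hr⟩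
    obtain ⟨a, ha⟩ := exists_prime_orderOf_dvd_card' r hrX
    have ha' : a ^ r ^ 1 = 1 := by rw [pow_one, ← ha, pow_orderOf_eq_one]
    have ha1 : a ≠ 1 := by
      rintro rfl
      rw [orderOf_one] at ha
      exact hr.one_lt.ne ha
    have := (fx_top ρ hr hρ ha' ha1 he he0).2
    omega
  have h4 := (fx_top ρ hq hρ hyq hy1 hf hf0).2
  exact hcon (regB_of_mid hπ hker hρ hl hq hr hrl hrX hrk he he0 (k := 1) (by rw [pow_one, ho]) h3 (by omega))

/-- **The criterion, small commutator space.** `w = dim V - dim (fx s)`, `w < f`, `dim V < w + e`. -/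
theorem regB_of_small (hπ : Function.Surjective π) (hker : ∀ z, π z = 1 → ∀ x, z * x = x * z)
    (hρ : Function.Injective ρ) {l q r e : ℕ} (hl : l.Prime) (hq : q.Prime) (hr : r.Prime) (hrl : r ≠ l)
    (hrX : r ∣ Nat.card X) (hrk : ¬ r ∣ Nat.card π.ker) (he : orderOf ((Nat.card K : ℕ) : ZMod r) = e) (he0 : e ≠ 0)
    (hqS : q ∣ Nat.card S) (hqk : ¬ q ∣ Nat.card π.ker) {f : ℕ} (hf : orderOf ((Nat.card K : ℕ) : ZMod q) = f)
    {s : X} (hs : ¬ l ∣ orderOf s) (h1 : finrank K V < finrank K (fx ρ s) + f) (h2 : finrank K (fx ρ s) < e) :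
    RegB S l q := by
  have h0 := finrank_range_add_fx ρ s
  refine regB_of_comm hπ hker hρ hl hq hr hrl hrX hrk he he0 hqS hqk hf (by omega) hs fun y hy hsy => ?_
  have hyq : y ^ q ^ 1 = 1 := by rw [pow_one, ← hy, pow_orderOf_eq_one]
  have h3 := le_fx_of_lt ρ hq hyq hf (by omega) (range_inv ρ hsy) (by omega)
  have h4 := Submodule.finrank_mono h3
  omega

end crit

end Cfsg.Agent.H524.LinReg
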