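import Mathlib
import Cfsg.Agent.H524.DirRed
import Cfsg.Agent.H716.CopRow

/-!
# Coprime automorphisms moving all conjugates of an element of prime power order: criteria

* `copMove_of_prime`: automorphisms of prime order suffice;
* `exists_move_of_not_dvd`: by orders of fixed elements;
* `move_of_zpowers`: an element `e` with `β e ∈ ⟨e⟩`, `β e ≠ e`;
* `copMove_of_tRow`: from `H716.CopRow.TRow`.
-/

set_option autoImplicit false

namespace Cfsg.Agent.H524.DirRed

open Subgroup Cfsg.Agent.H716.CopRow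

/-- It is enough to consider automorphisms of prime order. -/
theorem copMove_of_prime {S : Type*} [Group S] [Finite S]
    (h : ∀ (m : ℕ) (β : MulAut S), m.Prime → orderOf β = m → ¬ m ∣ Nat.card S →
      ∃ x : S, (∃ (r : ℕ) (k : ℕ), r.Prime ∧ orderOf x = r ^ k) ∧ ∀ g : S, β (g * x * g⁻¹) ≠ g * x * g⁻¹) :
    CopMove S := by
  intro α hα hcop
  have hne : orderOf α ≠ 1 := fun e => hα (orderOf_eq_one_iff.1 e)
  obtain ⟨m, hm, hd⟩ := Nat.exists_prime_and_dvd hne
  obtain ⟨k, hk⟩ := hd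
  have hfin : Finite (MulAut S) := inferInstance
  have hpos : 0 < orderOf α := orderOf_pos α
  have hk0 : k ≠ 0 := by
    rintro rfl
    rw [mul_zero] at hk
    omega
  have ho : orderOf (α ^ k) = m := by
    rw [orderOf_pow_of_dvd hk0 ⟨m, by rw [hk, mul_comm]⟩, hk, Nat.mul_div_cancel _ (Nat.pos_of_ne_zero hk0)]
  have hmS : ¬ m ∣ Nat.card S := by
    intro hd
    have h1 : m ∣ Nat.gcd (orderOf α) (Nat.card S) := Nat.dvd_gcd ⟨k, hk⟩ hd
    rw [hcop] at h1
    exact hm.one_lt.ne' (Nat.dvd_one.1 h1)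
  obtain ⟨x, hx, hmove⟩ := h m (α ^ k) hm ho hmS
  refine ⟨x, hx, fun g e => hmove g ?_⟩
  have : ∀ j : ℕ, (α ^ j) (g * x * g⁻¹) = g * x * g⁻¹ := by
    intro j
    induction j with
    | zero => rfl
    | succ j ih => rw [pow_succ, MulAut.mul_apply, e, ih]
  exact this k

/-- If some prime divides the order of the group but not the number of fixed points, the automorphism moves all
conjugates of some element of prime order. -/
theorem exists_move_of_not_dvd {S : Type*} [Group S] [Finite S] {β : MulAut S} {r : ℕ} (hr : r.Prime)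
    (hS : r ∣ Nat.card S) (hC : ∀ y : S, orderOf y = r → β y ≠ y) :
    ∃ x : S, (∃ (r : ℕ) (k : ℕ), r.Prime ∧ orderOf x = r ^ k) ∧ ∀ g : S, β (g * x * g⁻¹) ≠ g * x * g⁻¹ := by
  have : Fact r.Prime := ⟨hr⟩
  obtain ⟨x, hx⟩ := exists_prime_orderOf_dvd_card' r hS
  refine ⟨x, ⟨r, 1, hr, by rw [pow_one, hx]⟩, fun g => hC _ ?_⟩
  rw [← hx]
  exact MulEquiv.orderOf_eq (MulAut.conj g) x

/-- If `β` has prime order prime to `|S|`, `β a ∈ ⟨a⟩` and `β a ≠ a`, then `β` fixes no conjugate of `a`. -/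
theorem move_of_mem_zpowers {S : Type*} [Group S] [Finite S] {β : MulAut S} {m : ℕ} (hm : m.Prime)
    (hβ : orderOf β = m) (hmS : ¬ m ∣ Nat.card S) {a : S} (h1 : β a ∈ zpowers a) (h2 : β a ≠ a) (g : S) :
    β (g * a * g⁻¹) ≠ g * a * g⁻¹ := by
  intro h
  obtain ⟨k, hk⟩ := h1
  have hk : β a = a ^ k := hk.symm
  set s : S := g⁻¹ * β g with hs
  have hsa : s⁻¹ * a * s = a ^ k := by
    have e1 : β g * β a * (β g)⁻¹ = g * a * g⁻¹ := by rw [← h, map_mul, map_mul, map_inv]
    rw [hs]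
    have e2 : (g⁻¹ * β g)⁻¹ * a * (g⁻¹ * β g) = (β g)⁻¹ * (g * a * g⁻¹) * β g := by group
    rw [e2, ← e1, hk]
    group
  have hA : ∀ j : ℕ, (β ^ j) a = a ^ (k ^ j) := by
    intro j
    induction j with
    | zero => simp
    | succ j ih =>
      rw [pow_succ', MulAut.mul_apply, ih, map_zpow, hk, ← zpow_mul, pow_succ']
  have hB : ∀ j : ℕ, (s ^ j)⁻¹ * a * s ^ j = a ^ (k ^ j) := by
    intro j
    induction j with
    | zero => simp
    | succ j ih =>
      have e2 : (s ^ (j + 1))⁻¹ * a * s ^ (j + 1) = s⁻¹ * ((s ^ j)⁻¹ * a * s ^ j) * s := by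
        rw [pow_succ]; group
      have e3 : s⁻¹ * (a ^ (k ^ j)) * s = (s⁻¹ * a * s) ^ (k ^ j) := by
        have := map_zpow (MulAut.conj s⁻¹) a (k ^ j)
        simpa [MulAut.conj_apply] using this
      rw [e2, ih, e3, hsa, ← zpow_mul, pow_succ']
  have hA1 : a ^ (k ^ m) = a := by
    rw [← hA m, ← hβ, pow_orderOf_eq_one]; rfl
  have hB1 : a ^ (k ^ Nat.card S) = a := by
    rw [← hB (Nat.card S), pow_card_eq_one']; simp
  have hA2 : ∀ i : ℕ, a ^ (k ^ (m * i)) = a := by
    intro i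
    induction i with
    | zero => simp
    | succ i ih => rw [Nat.mul_succ, pow_add, zpow_mul, ih, hA1]
  have hB2 : ∀ i : ℕ, a ^ (k ^ (Nat.card S * i)) = a := by
    intro i
    induction i with
    | zero => simp
    | succ i ih => rw [Nat.mul_succ, pow_add, zpow_mul, ih, hB1]
  obtain ⟨j, -, hj⟩ := Nat.exists_mul_mod_eq_one_of_coprime
    (((Nat.Prime.coprime_iff_not_dvd hm).2 hmS).symm) hm.one_lt
  have hj' : Nat.card S * j = m * (Nat.card S * j / m) + 1 := by
    have := Nat.div_add_mod (Nat.card S * j) m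
    omega
  have h5 := hB2 j
  rw [hj', pow_add, zpow_mul, hA2, pow_one, ← hk] at h5
  exact h2 h5

/-- If `β` has prime order prime to `|S|`, `β e ∈ ⟨e⟩` and `β e ≠ e`, then `β` fixes no conjugate of some element of
prime power order of `⟨e⟩`. -/
theorem move_of_zpowers {S : Type*} [Group S] [Finite S] {β : MulAut S} {m : ℕ} (hm : m.Prime)
    (hβ : orderOf β = m) (hmS : ¬ m ∣ Nat.card S) {e : S} (h1 : β e ∈ zpowers e) (h2 : β e ≠ e) :
    ∃ x : S, (∃ (r : ℕ) (k : ℕ), r.Prime ∧ orderOf x = r ^ k) ∧ ∀ g : S, β (g * x * g⁻¹) ≠ g * x * g⁻¹ := by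
  have hcop : (orderOf e).Coprime m :=
    (((Nat.Prime.coprime_iff_not_dvd hm).2 hmS).symm).coprime_dvd_left (orderOf_dvd_natCard e)
  have h3 : ∃ a ∈ zpowers e, PP m a ∧ β a ≠ a := by
    by_contra hcon
    push Not at hcon
    apply h2
    exact mem_of_pp hm (β.toMonoidHom.eqLocus (MonoidHom.id S)) _ e rfl hcop (fun a ha ha' => hcon a ha ha')
  obtain ⟨a, ⟨i, rfl⟩, ⟨r, k, hr, -, hk⟩, ha⟩ := h3
  refine ⟨e ^ i, ⟨r, k, hr, hk⟩, move_of_mem_zpowers hm hβ hmS ?_ ha⟩
  obtain ⟨j, hj⟩ := h1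
  refine ⟨j, ?_⟩
  have hj : e ^ j = β e := hj
  show (e ^ i) ^ j = β (e ^ i)
  rw [map_zpow, ← hj, ← zpow_mul, ← zpow_mul, mul_comm]

theorem copMove_of_tRow {S : Type*} [Group S] [Finite S] {r : ℕ} (h : TRow r S) : CopMove S := by
  apply copMove_of_prime
  intro m β hm hβ hmS
  obtain ⟨e, u, -, -, -, h4, h5⟩ := h m hm hmS β hβ
  exact move_of_zpowers hm hβ hmS h4 h5

/-- All coprime automorphisms are trivial. -/
theorem copMove_of_triv {S : Type*} [Group S]
    (h : ∀ α : MulAut S, (orderOf α).Coprime (Nat.card S) → α = 1) : CopMove S :=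
  fun α hα hc => absurd (h α hc) hα

theorem CopMove.congr {S L : Type*} [Group S] [Group L] (f : S ≃* L) (h : CopMove S) : CopMove L := by
  intro α hα hc
  have h6 : ∀ z, f (MulAut.congr f.symm α z) = α (f z) := by
    intro z
    show f (f.symm (α (f z))) = α (f z)
    rw [f.apply_symm_apply]
  obtain ⟨x, ⟨r, k, hr, hk⟩, hx⟩ := h (MulAut.congr f.symm α)
    (by
      intro he
      apply hα
      have : MulAut.congr f.symm α = MulAut.congr f.symm 1 := by rw [he, map_one]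
      exact (MulAut.congr f.symm).injective this)
    (by rwa [MulEquiv.orderOf_eq, Nat.card_congr f.toEquiv])
  refine ⟨f x, ⟨r, k, hr, by rwa [MulEquiv.orderOf_eq]⟩, fun g hg => hx (f.symm g) (f.injective ?_)⟩
  rw [h6]
  simpa using hg

end Cfsg.Agent.H524.DirRed
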