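import Mathlib
import Cfsg.Prelude.Def_Classification2
import Cfsg.Prelude.Def_LieTypeChar
import Cfsg.Agent.H524.CopFin
import Cfsg.Agent.H164.TRowPSL
import Cfsg.Agent.H164.TRowPSp
import Cfsg.Agent.H471.TRowPSU
import Cfsg.Agent.H989.TRowOrth
import Cfsg.Agent.H164.TRowExc
import Cfsg.Agent.H680.TRowTw
import Cfsg.Agent.H60.TRowTwF4
import Cfsg.Agent.H716.RankOnePrime
import Cfsg.Agent.H254.CopAlt
import Cfsg.Agent.H254.CopSpor

/-!
# Coprime automorphisms of the finite simple groups move all conjugates of an element of prime power order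

* `copMove_lie`: groups of Lie type;
* `known_split`: the four kinds of known non-abelian simple groups;
* `copMove_known`: all known non-abelian simple groups.
-/

set_option autoImplicit false

namespace Cfsg.Agent.H524.CopAll

open Subgroup Cfsg Cfsg.Agent.H524.DirRed Cfsg.Agent.H716.CopRow

universe u

/-- The form of the rank one rows. -/
theorem copMove_of_fx {S : Type*} [Group S] [Finite S]
    (h : ∀ p : ℕ, p.Prime → ¬ p ∣ Nat.card S → ∀ β : MulAut S, orderOf β = p →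
      ∃ l : ℕ, l.Prime ∧ l ∣ Nat.card S ∧ ¬ l ∣ Nat.card (Fx β)) : CopMove S := by
  apply copMove_of_prime
  intro m β hm hβ hmS
  obtain ⟨l, hl, hlS, hn⟩ := h m hm hmS β hβ
  refine exists_move_of_not_dvd hl hlS fun y hy hfix => hn ?_
  have h1 : y ∈ Fx β := hfix
  have h2 : orderOf (⟨y, h1⟩ : Fx β) = l := by
    rw [← hy]
    exact (orderOf_injective (Fx β).subtype (Subtype.val_injective) ⟨y, h1⟩).symm
  rw [← h2]
  exact orderOf_dvd_natCard _

theorem simple_of {K : Type*} [Group K] [hs : IsSimpleGroup K] {M : Type*} [Group M] (e : K ≃* M) :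
    IsSimpleGroup M := by
  have : Nontrivial M := e.symm.toEquiv.nontrivial
  exact IsSimpleGroup.isSimpleGroup_of_surjective e.toMonoidHom e.surjective

theorem not_comm_of {K : Type*} [Group K] {M : Type*} [Group M] (e : K ≃* M) (h : ¬ IsMulCommutative K) :
    ¬ IsMulCommutative M := by
  intro hM
  apply h
  refine ⟨⟨fun a b => e.injective ?_⟩⟩
  rw [map_mul, map_mul]
  exact hM.is_comm.comm _ _

theorem copMove_psl_two {F : Type} [Field F] [Fintype F] (h4 : 4 ≤ Fintype.card F)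
    [IsSimpleGroup (Matrix.ProjectiveSpecialLinearGroup (Fin 2) F)]
    (hna : ¬ IsMulCommutative (Matrix.ProjectiveSpecialLinearGroup (Fin 2) F)) :
    CopMove (Matrix.ProjectiveSpecialLinearGroup (Fin 2) F) := by
  apply copMove_of_fx
  intro p hp hpS β hβ
  obtain ⟨l, hl, h1, -, -, h2⟩ := Cfsg.Agent.H716.RankOnePrime.psl_prime h4 hna p hp hpS β hβ
  exact ⟨l, hl, h1, h2 β hβ⟩

theorem copMove_psl {K : Type u} [Group K] [Finite K] [hs : IsSimpleGroup K] (hna : ¬ IsMulCommutative K)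
    (h : IsPSL K) : CopMove K := by
  obtain ⟨F, _, _, n, hn, h4, ⟨e⟩⟩ := h
  have h1 := simple_of e
  have h2 := not_comm_of e hna
  have hfin : Finite (Matrix.ProjectiveSpecialLinearGroup (Fin n) F) := Finite.of_equiv K e.toEquiv
  refine CopMove.congr e.symm ?_
  rcases Nat.lt_or_ge n 3 with h3 | h3
  · obtain rfl : n = 2 := by omega
    exact copMove_psl_two (h4 rfl) h2
  · obtain ⟨r, hchar⟩ := CharP.exists F
    obtain ⟨f, hr, hf⟩ := FiniteField.card F r
    have : Fact r.Prime := ⟨hr⟩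
    exact copMove_of_tRow (H164.TRowPSL.tRow_psl (r := r) h3)

theorem copMove_psp {K : Type u} [Group K] [Finite K] [hs : IsSimpleGroup K] (h : IsPSp K) : CopMove K := by
  obtain ⟨F, _, _, m, hm, h4, ⟨e⟩⟩ := h
  have h1 := simple_of e
  have hfin : Finite (PSp m F) := Finite.of_equiv K e.toEquiv
  refine CopMove.congr e.symm ?_
  obtain ⟨r, hchar⟩ := CharP.exists F
  obtain ⟨f, hr, hf⟩ := FiniteField.card F r
  have : Fact r.Prime := ⟨hr⟩
  exact copMove_of_tRow (H164.TRowPSp.tRow_psp (r := r) hm)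

theorem copMove_psu {K : Type u} [Group K] [Finite K] [hs : IsSimpleGroup K] (h : IsPSU K) : CopMove K := by
  obtain ⟨F, _, _, n, q, hF, hn, h32, ⟨e⟩⟩ := h
  have h1 := simple_of e
  have hfin : Finite (PSU n F q) := Finite.of_equiv K e.toEquiv
  refine CopMove.congr e.symm ?_
  obtain ⟨r, hchar⟩ := CharP.exists F
  obtain ⟨f, hr, hf⟩ := FiniteField.card F r
  have : Fact r.Prime := ⟨hr⟩
  exact copMove_of_tRow (H471.TRowPSU.tRow_psu (r := r) hF hn)

theorem copMove_po_odd {K : Type u} [Group K] [Finite K] (h : IsPOmegaOdd K) : CopMove K := by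
  obtain ⟨F, _, _, m, hm, hodd, ⟨e⟩⟩ := h
  have hfin : Finite (POmega F (quadFormOdd m F)) := Finite.of_equiv K e.toEquiv
  refine CopMove.congr e.symm ?_
  obtain ⟨r, hchar⟩ := CharP.exists F
  obtain ⟨f, hr, hf⟩ := FiniteField.card F r
  have : Fact r.Prime := ⟨hr⟩
  exact copMove_of_tRow (H989.TRowOrth.tRow_po_odd (r := r) hm hodd)

theorem copMove_po_plus {K : Type u} [Group K] [Finite K] (h : IsPOmegaPlus K) : CopMove K := by
  obtain ⟨F, _, _, m, hm, ⟨e⟩⟩ := h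
  have hfin : Finite (POmega F (quadFormPlus m F)) := Finite.of_equiv K e.toEquiv
  refine CopMove.congr e.symm ?_
  obtain ⟨r, hchar⟩ := CharP.exists F
  obtain ⟨f, hr, hf⟩ := FiniteField.card F r
  have : Fact r.Prime := ⟨hr⟩
  exact copMove_of_tRow (H989.TRowOrth.tRow_po_plus (r := r) hm)

theorem copMove_po_minus {K : Type u} [Group K] [Finite K] (h : IsPOmegaMinus K) : CopMove K := by
  obtain ⟨F, _, _, m, a, b, hm, hab, ⟨e⟩⟩ := h
  have hfin : Finite (POmega F (quadFormMinus (m - 1) F a b)) := Finite.of_equiv K e.toEquiv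
  refine CopMove.congr e.symm ?_
  obtain ⟨r, hchar⟩ := CharP.exists F
  obtain ⟨f, hr, hf⟩ := FiniteField.card F r
  have : Fact r.Prime := ⟨hr⟩
  exact copMove_of_tRow (H989.TRowOrth.tRow_po_minus (r := r) hm a b hab)

theorem char_of {F : Type} [Field F] [Fintype F] {K : Type u} [Group K]
    (h : ∀ r : ℕ, CharP F r → IsLieTypeChar r K) : ∃ r : ℕ, r.Prime ∧ IsLieTypeChar r K := by
  obtain ⟨r, hchar⟩ := CharP.exists F
  obtain ⟨f, hr, hf⟩ := FiniteField.card F r
  exact ⟨r, hr, h r hchar⟩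

/-- The known non-abelian simple groups: alternating, of Lie type, Tits, sporadic. -/
theorem known_split {K : Type u} [Group K] (hna : ¬ IsMulCommutative K) (hk : IsKnownSimple' K) :
    IsAlternating K ∨ (∃ r : ℕ, r.Prime ∧ IsLieTypeChar r K) ∨ Lie.IsoTits K ∨ IsSporadicGroup K := by
  rcases hk with hk | hk | hk | hk | hk | hk | hk | hk | hk | hk
  · exfalso
    apply hna
    have h1 : Fact (Nat.card K).Prime := ⟨hk⟩
    have h2 : IsCyclic K := isCyclic_of_prime_card (p := Nat.card K) rfl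
    exact IsCyclic.isMulCommutative
  · exact Or.inl hk
  · obtain ⟨F, _, _, n, hn, h4, e⟩ := hk
    exact Or.inr (Or.inl (char_of (F := F) fun r hr => Or.inl ⟨F, _, _, hr, n, hn, h4, e⟩))
  · obtain ⟨F, _, _, m, hm, h3, e⟩ := hk
    exact Or.inr (Or.inl (char_of (F := F) fun r hr => Or.inr (Or.inl ⟨F, _, _, hr, m, hm, h3, e⟩)))
  · obtain ⟨F, _, _, n, q, hF, hn, h32, e⟩ := hk
    exact Or.inr (Or.inl (char_of (F := F) fun r hr => Or.inr (Or.inr (Or.inl ⟨F, _, _, hr, n, q, hF, hn, h32, e⟩))))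
  · obtain ⟨F, _, _, m, hm, hodd, e⟩ := hk
    exact Or.inr (Or.inl (char_of (F := F) fun r hr =>
      Or.inr (Or.inr (Or.inr (Or.inl ⟨F, _, _, hr, m, hm, hodd, e⟩)))))
  · obtain ⟨F, i, j, m, hm, e⟩ := hk
    exact Or.inr (Or.inl (char_of (F := F) fun r hr =>
      Or.inr (Or.inr (Or.inr (Or.inr (Or.inl ⟨F, i, j, hr, m, hm, e⟩))))))
  · obtain ⟨F, i, j, m, a, b, hm, hab, e⟩ := hk
    exact Or.inr (Or.inl (char_of (F := F) fun r hr =>
      Or.inr (Or.inr (Or.inr (Or.inr (Or.inr (Or.inl ⟨F, i, j, hr, m, a, b, hm, hab, e⟩)))))))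
  · have hex : ∀ {F : Type} (_ : Field F) (_ : Fintype F),
        ((3 ≤ Fintype.card F ∧ Nonempty (K ≃* Lie.chevG2.group F)) ∨ Nonempty (K ≃* Lie.chevF4.group F) ∨
          Nonempty (K ≃* Lie.chevE6.group F) ∨ Nonempty (K ≃* Lie.chevE7.group F) ∨ Nonempty (K ≃* Lie.chevE8.group F)) →
        ∃ r : ℕ, r.Prime ∧ IsLieTypeChar r K := by
      intro F _ _ h
      exact char_of (F := F) fun r hr =>
        Or.inr (Or.inr (Or.inr (Or.inr (Or.inr (Or.inr (Or.inl ⟨F, _, _, hr, h⟩))))))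
    rcases hk with hk | hk | hk | hk | hk | hk | hk | hk | hk | hk | hk
    · obtain ⟨F, i, j, h3, e⟩ := hk
      exact Or.inr (Or.inl (hex i j (Or.inl ⟨h3, e⟩)))
    · obtain ⟨F, i, j, e⟩ := hk
      exact Or.inr (Or.inl (hex i j (Or.inr (Or.inl e))))
    · obtain ⟨F, i, j, e⟩ := hk
      exact Or.inr (Or.inl (hex i j (Or.inr (Or.inr (Or.inl e)))))
    · obtain ⟨F, i, j, e⟩ := hk
      exact Or.inr (Or.inl (hex i j (Or.inr (Or.inr (Or.inr (Or.inl e))))))
    · obtain ⟨F, i, j, e⟩ := hk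
      exact Or.inr (Or.inl (hex i j (Or.inr (Or.inr (Or.inr (Or.inr e))))))
    · obtain ⟨F, _, _, q, hq, hF, e⟩ := hk
      exact Or.inr (Or.inl (char_of (F := F) fun r hr =>
        Or.inr (Or.inr (Or.inr (Or.inr (Or.inr (Or.inr (Or.inr (Or.inl ⟨F, _, _, hr, q, hq, Or.inl ⟨hF, e⟩⟩)))))))))
    · obtain ⟨F, _, _, q, hq, hF, e⟩ := hk
      exact Or.inr (Or.inl (char_of (F := F) fun r hr =>
        Or.inr (Or.inr (Or.inr (Or.inr (Or.inr (Or.inr (Or.inr (Or.inl ⟨F, _, _, hr, q, hq, Or.inr ⟨hF, e⟩⟩)))))))))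
    · exact Or.inr (Or.inl ⟨2, Nat.prime_two,
        Or.inr (Or.inr (Or.inr (Or.inr (Or.inr (Or.inr (Or.inr (Or.inr (Or.inl ⟨rfl, hk⟩))))))))⟩)
    · exact Or.inr (Or.inl ⟨3, Nat.prime_three,
        Or.inr (Or.inr (Or.inr (Or.inr (Or.inr (Or.inr (Or.inr (Or.inr (Or.inr (Or.inr ⟨rfl, hk⟩)))))))))⟩)
    · exact Or.inr (Or.inl ⟨2, Nat.prime_two,
        Or.inr (Or.inr (Or.inr (Or.inr (Or.inr (Or.inr (Or.inr (Or.inr (Or.inr (Or.inl ⟨rfl, hk⟩)))))))))⟩)
    · exact Or.inr (Or.inr (Or.inl hk))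
  · exact Or.inr (Or.inr (Or.inr hk))

theorem copMove_sz {K : Type u} [Group K] [Finite K] (h : Lie.IsoSuzuki K) : CopMove K := by
  obtain ⟨F, _, _, m, hm, hF, ⟨e⟩⟩ := h
  obtain ⟨l, hl, h1, -, -, h2⟩ := Cfsg.Agent.H716.RankOnePrime.sz_prime hm hF e
  exact copMove_of_fx fun p hp hpS β hβ => ⟨l, hl, h1, h2 p hp hpS β hβ⟩

theorem copMove_ree {K : Type u} [Group K] [Finite K] (h : Lie.IsoRee K) : CopMove K := by
  obtain ⟨F, _, _, m, hm, hF, ⟨e⟩⟩ := h
  obtain ⟨l, hl, h1, -, -, h2⟩ := Cfsg.Agent.H716.RankOnePrime.ree_prime hm hF e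
  exact copMove_of_fx fun p hp hpS β hβ => ⟨l, hl, h1, h2 p hp hpS β hβ⟩

theorem copMove_alt {K : Type u} [Group K] [Finite K] [hs : IsSimpleGroup K] (hna : ¬ IsMulCommutative K)
    (h : IsAlternating K) : CopMove K := by
  obtain ⟨n, hn, ⟨e⟩⟩ := h
  by_cases h6 : n = 6
  · subst h6
    have : Fact (Nat.Prime 3) := ⟨Nat.prime_three⟩
    let _ : Fintype (GaloisField 3 2) := Fintype.ofFinite _
    have hF : Fintype.card (GaloisField 3 2) = 9 := by
      rw [← Nat.card_eq_fintype_card, GaloisField.card 3 2 (by norm_num)]; norm_num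
    obtain ⟨e'⟩ := S0254.result (F := GaloisField 3 2) hF
    refine copMove_psl hna ⟨GaloisField 3 2, _, _, 2, le_rfl, fun _ => by omega, ⟨e.trans e'.symm⟩⟩
  · refine CopMove.congr e.symm (copMove_of_triv fun α hα => ?_)
    have h1 := H254.Alt.copTriv hn h6 (zpowers α) (by rw [Nat.card_zpowers]; exact hα)
    exact zpowers_eq_bot.1 h1

/-- **Groups of Lie type.** -/
theorem copMove_lie {K : Type u} [Group K] [Finite K] [hs : IsSimpleGroup K] (hna : ¬ IsMulCommutative K) {r : ℕ}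
    (h : IsLieTypeChar r K) : CopMove K := by
  rcases h with h | h | h | h | h | h | h | h | ⟨-, h⟩ | ⟨-, h⟩ | ⟨-, h⟩
  · obtain ⟨F, i, j, -, n, hn, h4, e⟩ := h
    exact copMove_psl hna ⟨F, i, j, n, hn, h4, e⟩
  · obtain ⟨F, i, j, -, n, hn, h4, e⟩ := h
    exact copMove_psp ⟨F, i, j, n, hn, h4, e⟩
  · obtain ⟨F, i, j, -, n, hn, h4, e⟩ := h
    exact copMove_psu ⟨F, i, j, n, hn, h4, e⟩
  · obtain ⟨F, i, j, -, n, hn, h4, e⟩ := h
    exact copMove_po_odd ⟨F, i, j, n, hn, h4, e⟩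
  · obtain ⟨F, i, j, -, n, hn, e⟩ := h
    exact copMove_po_plus ⟨F, i, j, n, hn, e⟩
  · obtain ⟨F, i, j, -, n, a, b, hn, hab, e⟩ := h
    exact copMove_po_minus ⟨F, i, j, n, a, b, hn, hab, e⟩
  · exact copMove_of_tRow (H164.TRowExc.tRow_exc h)
  · exact copMove_of_tRow (H680.TRowTw.tRow_tw h)
  · exact copMove_sz h
  · exact copMove_of_tRow (H60.TRowTwF4.tRow_tf4 h)
  · exact copMove_ree h

/-- **Coprime automorphisms of the known non-abelian simple groups.** -/
theorem copMove_known {K : Type u} [Group K] [Finite K] [hs : IsSimpleGroup K] (hna : ¬ IsMulCommutative K)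
    (hk : IsKnownSimple' K) : CopMove K := by
  rcases known_split hna hk with h | ⟨r, -, h⟩ | h | h
  · exact copMove_alt hna h
  · exact copMove_lie hna h
  · exact copMove_of_triv fun α hα =>
      zpowers_eq_bot.1 (H254.CopSpor.tits_triv h (zpowers α) (by rw [Nat.card_zpowers]; exact hα))
  · exact copMove_of_triv fun α hα =>
      zpowers_eq_bot.1 (H254.CopSpor.sporadic_triv h (zpowers α) (by rw [Nat.card_zpowers]; exact hα))

end Cfsg.Agent.H524.CopAll
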