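import Mathlib
import Cfsg.Agent.H524.DirRed
import Cfsg.Agent.SignalizersComponents.CoprimeBasic

/-!
# Class sizes of elements of prime power order, II: normal `p'`-subgroups

* `exists_normal_compl`: a normal `p'`-subgroup of `p`-power index;
* `dir_of_min`: the case of a minimal normal `p'`-subgroup of `p`-power index;
* `dir_main`: the reduction of S4128 to simple groups.
-/

set_option autoImplicit false
set_option linter.unusedSectionVars false

namespace Cfsg.Agent.H524.DirRed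

open Subgroup Cfsg.Agent.H524.ClassSize
open scoped Pointwise

universe u

section

variable {G : Type*} [Group G] [Finite G] {p : ℕ} [hp : Fact p.Prime]

/-- A normal `p'`-subgroup of `p`-power index containing `N`. -/
theorem exists_normal_compl (N : Subgroup G) [N.Normal] (hN : ¬ p ∣ Nat.card N) (hd : Dir (G ⧸ N) p) :
    ∃ M : Subgroup G, M.Normal ∧ N ≤ M ∧ ¬ p ∣ Nat.card M ∧ ∃ n : ℕ, M.index = p ^ n := by
  obtain ⟨Q⟩ : Nonempty (Sylow p (G ⧸ N)) := inferInstance
  obtain ⟨-, K, hK, hKQ, -⟩ := normal_and_complement Q (hd.sup_eq Q)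
  refine ⟨K.comap (QuotientGroup.mk' N), inferInstance, ?_, ?_, ?_⟩
  · intro x hx
    rw [mem_comap]
    have : QuotientGroup.mk' N x = 1 := (QuotientGroup.eq_one_iff x).2 hx
    rw [this]
    exact one_mem _
  · have hcK : ¬ p ∣ Nat.card K := by
      have h1 : Nat.card K = (Q : Subgroup (G ⧸ N)).index := (hKQ.index_eq_card).symm
      rw [h1]
      exact Q.not_dvd_index
    have h2 : Nat.card (K.comap (QuotientGroup.mk' N)) = Nat.card K * Nat.card N := by
      have h3 := Subgroup.card_mul_index (K.comap (QuotientGroup.mk' N))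
      rw [Subgroup.index_comap_of_surjective _ (QuotientGroup.mk'_surjective N)] at h3
      have h4 := Subgroup.card_mul_index K
      have h5 := Subgroup.card_eq_card_quotient_mul_card_subgroup N
      rw [← h4] at h5
      have h6 : 0 < K.index := Nat.pos_of_ne_zero K.index_ne_zero_of_finite
      have h7 : Nat.card (K.comap (QuotientGroup.mk' N)) * K.index = (Nat.card K * Nat.card N) * K.index := by
        rw [h3, h5]; ring
      exact Nat.eq_of_mul_eq_mul_right h6 h7
    rw [h2]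
    intro h
    rcases hp.out.dvd_mul.1 h with h | h
    · exact hcK h
    · exact hN h
  · rw [Subgroup.index_comap_of_surjective _ (QuotientGroup.mk'_surjective N), hKQ.symm.index_eq_card]
    exact IsPGroup.iff_card.1 Q.isPGroup'

theorem sup_sylow_eq_top {M : Subgroup G} [M.Normal] {n : ℕ} (hM : M.index = p ^ n) (P : Sylow p G) :
    M ⊔ (P : Subgroup G) = ⊤ := by
  have h1 : (M ⊔ (P : Subgroup G)).index ∣ p ^ n := by
    rw [← hM]
    exact index_dvd_of_le le_sup_left
  have h2 : (M ⊔ (P : Subgroup G)).index ∣ (P : Subgroup G).index := index_dvd_of_le le_sup_right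
  obtain ⟨k, -, hk⟩ := (Nat.dvd_prime_pow hp.out).1 h1
  rcases Nat.eq_zero_or_pos k with rfl | hk0
  · rw [pow_zero] at hk
    exact index_eq_one.1 hk
  · exfalso
    apply P.not_dvd_index (p := p)
    refine dvd_trans ?_ h2
    rw [hk]
    exact dvd_pow_self p hk0.ne'

/-- Elements of prime power order of `G` have a conjugate, under `M`, commuting with `P`. -/
theorem Cond.exists_conj (h : Cond G p) {M : Subgroup G} [M.Normal] {n : ℕ} (hM : M.index = p ^ n) (P : Sylow p G)
    {x : G} (hx : PP p x) : ∃ m ∈ M, ∀ y ∈ (P : Subgroup G), Commute (m * x * m⁻¹) y := by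
  obtain ⟨Q, hQ⟩ := h.exists_sylow hx
  obtain ⟨g, hg⟩ := MulAction.exists_smul_eq G Q P
  have hmem : ∀ y ∈ (P : Subgroup G), g⁻¹ * y * g ∈ (Q : Subgroup G) := by
    intro y hy
    rw [← hg] at hy
    change y ∈ MulAut.conj g • (Q : Subgroup G) at hy
    rw [Subgroup.mem_pointwise_smul_iff_inv_smul_mem] at hy
    simpa [MulAut.smul_def, mul_assoc] using hy
  have hg' : g ∈ (P : Subgroup G) ⊔ M := by
    rw [sup_comm, sup_sylow_eq_top hM P]
    trivial
  rw [← SetLike.mem_coe, Subgroup.mul_normal (P : Subgroup G) M] at hg'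
  obtain ⟨z, hz, m, hm, rfl⟩ := hg'
  refine ⟨m, hm, fun y hy => ?_⟩
  have h1 : (z * m)⁻¹ * (z * y * z⁻¹) * (z * m) ∈ (Q : Subgroup G) :=
    hmem _ (mul_mem (mul_mem hz hy) (inv_mem hz))
  have h2 : (z * m)⁻¹ * (z * y * z⁻¹) * (z * m) = m⁻¹ * y * m := by group
  rw [h2] at h1
  have h3 := hQ h1
  rw [mem_centralizer_singleton_iff] at h3
  show m * x * m⁻¹ * y = y * (m * x * m⁻¹)
  calc m * x * m⁻¹ * y = m * (x * (m⁻¹ * y * m)) * m⁻¹ := by group
    _ = m * ((m⁻¹ * y * m) * x) * m⁻¹ := by rw [h3]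
    _ = y * (m * x * m⁻¹) := by group

theorem dir_of_commute {M : Subgroup G} [M.Normal] {n : ℕ} (hM : M.index = p ^ n)
    (hc : ∀ P : Sylow p G, ∀ m ∈ M, PP p m → ∀ y ∈ (P : Subgroup G), Commute m y) : Dir G p := by
  rintro x y hx ⟨k, hk⟩
  have hpy : IsPGroup p (zpowers y) := IsPGroup.of_card (n := k) (by rw [Nat.card_zpowers, hk])
  obtain ⟨R, hR⟩ := hpy.exists_le_sylow
  exact hc R x (Sqf.mem_of_coprime hM (hx.coprime hp.out)) hx y (hR (mem_zpowers y))

/-- A minimal normal subgroup of `p`-power index. -/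
theorem isSimple_of_min (h : Cond G p) {M : Subgroup G} [hMn : M.Normal] (hMp : ¬ p ∣ Nat.card M) {n : ℕ}
    (hM : M.index = p ^ n) (hb : M ≠ ⊥)
    (hmin : ∀ N : Subgroup G, N.Normal → N ≤ M → N ≠ ⊥ → N = M) : IsSimpleGroup M := by
  classical
  obtain ⟨P⟩ : Nonempty (Sylow p G) := inferInstance
  have hnt : Nontrivial M := (Subgroup.nontrivial_iff_ne_bot M).2 hb
  refine { exists_pair_ne := exists_pair_ne M, eq_bot_or_eq_top_of_normal := ?_ }
  intro R hR
  by_cases hRb : R = ⊥
  · exact Or.inl hRb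
  right
  -- a minimal nontrivial subgroup of `R` normalised by `M`
  let good : Subgroup G → Prop := fun S => S ≠ ⊥ ∧ S ≤ R.map M.subtype ∧ ∀ m ∈ M, ∀ s ∈ S, m * s * m⁻¹ ∈ S
  have hex : ∃ k : ℕ, ∃ S : Subgroup G, good S ∧ Nat.card S = k := by
    refine ⟨_, R.map M.subtype, ⟨?_, le_rfl, ?_⟩, rfl⟩
    · rwa [Ne, Subgroup.map_eq_bot_iff_of_injective _ M.subtype_injective]
    · rintro m hm _ ⟨s, hs, rfl⟩
      exact ⟨⟨m, hm⟩ * s * ⟨m, hm⟩⁻¹, hR.conj_mem s hs ⟨m, hm⟩, rfl⟩
  obtain ⟨S, ⟨hSb, hSR, hSM⟩, hSc⟩ := Nat.find_spec hex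
  have hSmin : ∀ S' : Subgroup G, good S' → S' ≤ S → S' = S := by
    intro S' hS' hle
    refine Subgroup.eq_of_le_of_card_ge hle ?_
    rw [hSc]
    exact Nat.find_min' hex ⟨S', hS', rfl⟩
  have hRM : R.map M.subtype ≤ M := Subgroup.map_subtype_le R
  have hSM' : S ≤ M := hSR.trans hRM
  -- an element of prime order
  obtain ⟨r, hr, hrd⟩ : ∃ r : ℕ, r.Prime ∧ r ∣ Nat.card S := by
    apply Nat.exists_prime_and_dvd
    intro e
    exact hSb (Subgroup.card_eq_one.1 e)
  have : Fact r.Prime := ⟨hr⟩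
  obtain ⟨x, hx⟩ := exists_prime_orderOf_dvd_card' r hrd
  have hx' : orderOf (x : G) = r := by rw [Subgroup.orderOf_coe]; exact hx
  have hne : r ≠ p := by
    rintro rfl
    exact hMp (hrd.trans (Subgroup.card_dvd_of_le hSM'))
  obtain ⟨m, hm, hcom⟩ := h.exists_conj hM P (x := (x : G)) ⟨r, 1, hr, hne, by rw [pow_one]; exact hx'⟩
  have hxS : m * (x : G) * m⁻¹ ∈ S := hSM m hm _ x.2
  have hx1 : m * (x : G) * m⁻¹ ≠ 1 := by
    intro e
    have h1 : (x : G) = 1 := by
      have : (x : G) = m⁻¹ * (m * (x : G) * m⁻¹) * m := by group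
      rw [this, e]; group
    rw [h1, orderOf_one] at hx'
    exact hr.one_lt.ne hx'
  -- `P` normalises `S`
  have hPS : ∀ y ∈ (P : Subgroup G), ∀ s ∈ S, y * s * y⁻¹ ∈ S := by
    intro y hy
    -- `S ⊓ y⁻¹ S y`
    let S' : Subgroup G := S ⊓ S.comap (MulAut.conj y).toMonoidHom
    have hS' : good S' := by
      refine ⟨?_, inf_le_left.trans hSR, ?_⟩
      · intro e
        apply hx1
        rw [← Subgroup.mem_bot, ← e]
        refine ⟨hxS, ?_⟩
        show y * (m * (x : G) * m⁻¹) * y⁻¹ ∈ S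
        have := (hcom y hy).eq
        rw [← this, mul_inv_cancel_right]
        exact hxS
      · rintro a ha s ⟨hs1, hs2⟩
        refine ⟨hSM a ha s hs1, ?_⟩
        show y * (a * s * a⁻¹) * y⁻¹ ∈ S
        have hs2' : y * s * y⁻¹ ∈ S := hs2
        have h1 := hSM (y * a * y⁻¹) (hMn.conj_mem a ha y) _ hs2'
        have h2 : y * a * y⁻¹ * (y * s * y⁻¹) * (y * a * y⁻¹)⁻¹ = y * (a * s * a⁻¹) * y⁻¹ := by group
        rwa [h2] at h1
    have h1 := hSmin S' hS' inf_le_left
    intro s hs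
    rw [← h1] at hs
    exact hs.2
  -- `S` is normal in `G`
  have hSn : S.Normal := by
    constructor
    intro s hs g
    have hg : g ∈ M ⊔ (P : Subgroup G) := by
      rw [sup_sylow_eq_top hM P]
      trivial
    have hle : M ⊔ (P : Subgroup G) ≤ normalizer (S : Set G) := by
      refine sup_le ?_ ?_
      · intro a ha
        rw [Subgroup.mem_normalizer_iff]
        intro s
        refine ⟨hSM a ha s, fun hs => ?_⟩
        have := hSM a⁻¹ (inv_mem ha) _ hs
        have h2 : a⁻¹ * (a * s * a⁻¹) * a⁻¹⁻¹ = s := by group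
        rwa [h2] at this
      · intro a ha
        rw [Subgroup.mem_normalizer_iff]
        intro s
        refine ⟨hPS a ha s, fun hs => ?_⟩
        have := hPS a⁻¹ (inv_mem ha) _ hs
        have h2 : a⁻¹ * (a * s * a⁻¹) * a⁻¹⁻¹ = s := by group
        rwa [h2] at this
    exact (Subgroup.mem_normalizer_iff.1 (hle hg) s).1 hs
  have hSeq : S = M := hmin S hSn hSM' hSb
  rw [eq_top_iff]
  rintro ⟨a, ha⟩ -
  rw [← hSeq] at ha
  obtain ⟨b, hb, e⟩ := hSR ha
  have : b = ⟨a, hSeq ▸ ha⟩ := Subtype.ext e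
  rw [← this]
  exact hb

/-- The case of a minimal normal subgroup of `p`-power index. -/
theorem dir_of_min (h : Cond G p) {M : Subgroup G} [hMn : M.Normal] (hMp : ¬ p ∣ Nat.card M) {n : ℕ}
    (hM : M.index = p ^ n) (hb : M ≠ ⊥)
    (hmin : ∀ N : Subgroup G, N.Normal → N ≤ M → N ≠ ⊥ → N = M)
    (hC : IsSimpleGroup M → (¬ ∀ a b : M, a * b = b * a) → CopMove M) : Dir G p := by
  apply dir_of_commute hM
  intro P x hx hxp y hy
  by_cases hab : ∀ a b : M, a * b = b * a
  · obtain ⟨m, hm, hcom⟩ := h.exists_conj hM P hxp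
    have h1 : m * x = x * m := congrArg Subtype.val (hab ⟨m, hm⟩ ⟨x, hx⟩)
    have h2 := hcom y hy
    rwa [h1, mul_inv_cancel_right] at h2
  · have hmove := hC (isSimple_of_min h hMp hM hb hmin) hab
    by_cases hα : MulAut.conjNormal (H := M) y = 1
    · have h1 : MulAut.conjNormal (H := M) y ⟨x, hx⟩ = ⟨x, hx⟩ := by rw [hα]; rfl
      have h2 : y * x * y⁻¹ = x := by
        have := congrArg Subtype.val h1
        rwa [MulAut.conjNormal_apply] at this
      show x * y = y * x
      rw [mul_inv_eq_iff_eq_mul] at h2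
      exact h2.symm
    · exfalso
      have hcop : (orderOf (MulAut.conjNormal (H := M) y)).Coprime (Nat.card M) := by
        obtain ⟨k, hk⟩ := P.isPGroup' ⟨y, hy⟩
        have hk' : y ^ p ^ k = 1 := congrArg Subtype.val hk
        have h1 : orderOf (MulAut.conjNormal (H := M) y) ∣ p ^ k :=
          (orderOf_map_dvd _ y).trans (orderOf_dvd_of_pow_eq_one hk')
        exact Nat.Coprime.coprime_dvd_left h1 (Nat.Coprime.pow_left _ ((Nat.Prime.coprime_iff_not_dvd hp.out).2 hMp))
      obtain ⟨z, ⟨r, k, hr, hk⟩, hz⟩ := hmove _ hα hcop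
      have hz1 : z ≠ 1 := by
        rintro rfl
        apply hz 1
        simp
      have hzp : PP p (z : G) := by
        refine ⟨r, k, hr, ?_, by rw [Subgroup.orderOf_coe]; exact hk⟩
        rintro rfl
        have h1 : orderOf z ∣ Nat.card M := orderOf_dvd_natCard z
        rw [hk] at h1
        rcases Nat.eq_zero_or_pos k with rfl | hk0
        · rw [pow_zero, orderOf_eq_one_iff] at hk
          exact hz1 hk
        · exact hMp ((dvd_pow_self r hk0.ne').trans h1)
      obtain ⟨m, hm, hcom⟩ := h.exists_conj hM P hzp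
      apply hz ⟨m, hm⟩
      apply Subtype.ext
      rw [MulAut.conjNormal_apply]
      show y * (m * (z : G) * m⁻¹) * y⁻¹ = m * (z : G) * m⁻¹
      rw [← (hcom y hy).eq, mul_inv_cancel_right]

end

end Cfsg.Agent.H524.DirRed
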