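import Mathlib

/-!
# Transitivity on the nontrivial elements and on the nontrivial characters of an abelian group

If a finite group acts on a finite abelian group `A` transitively on the nontrivial elements, then
it is transitive on the nontrivial characters `A →* ℂˣ` (Brauer's permutation lemma). Hence if a
finite group normalizes `T` of exponent two and is transitive on `T \ {1}` then it is transitive
on the subgroups of index two of `T`.
-/

set_option autoImplicit false

namespace Cfsg.Agent.H524.DualTrans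

open MulAction

theorem card_fixed {A : Type*} [CommGroup A] [Finite A] (w : A ≃* A) :
    Nat.card {χ : A →* ℂˣ // ∀ a, χ (w a) = χ a} = Nat.card {a : A // w a = a} := by
  let δ : A →* A := w.toMonoidHom / MonoidHom.id A
  have hδ : ∀ a, δ a = w a / a := fun a => rfl
  have hker : Nat.card {a : A // w a = a} = Nat.card δ.ker := by
    refine Nat.card_congr (Equiv.subtypeEquivRight (fun a => ?_))
    rw [MonoidHom.mem_ker, hδ, div_eq_one]
  have hdual : Nat.card {χ : A →* ℂˣ // ∀ a, χ (w a) = χ a} =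
      Nat.card (MonoidHom.domRestrictHom δ.range ℂˣ).ker := by
    refine Nat.card_congr (Equiv.subtypeEquivRight (fun χ => ?_))
    rw [MonoidHom.mem_ker]
    constructor
    · intro h
      ext ⟨b, hb⟩
      obtain ⟨a, rfl⟩ := hb
      simp [hδ, h a]
    · intro h a
      have h1 := DFunLike.congr_fun h ⟨δ a, a, rfl⟩
      have h2 : χ (δ a) = 1 := h1
      rw [hδ, map_div, div_eq_one] at h2
      exact h2
  rw [hker, hdual, CommGroup.card_domRestrictHom_ker]
  have h1 : Nat.card A = Nat.card (A ⧸ δ.range) * Nat.card δ.range :=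
    Subgroup.card_eq_card_quotient_mul_card_subgroup _
  have h2 : Nat.card A = Nat.card (A ⧸ δ.ker) * Nat.card δ.ker :=
    Subgroup.card_eq_card_quotient_mul_card_subgroup _
  have h3 : Nat.card (A ⧸ δ.ker) = Nat.card δ.range :=
    Nat.card_congr (QuotientGroup.quotientKerEquivRange δ).toEquiv
  rw [h3, mul_comm] at h2
  rw [h1] at h2
  exact Nat.eq_of_mul_eq_mul_right Nat.card_pos h2

/-- The number of orbits as a sum of numbers of fixed points, for `Nat.card`. -/
theorem sum_fixed (W X : Type*) [Group W] [Fintype W] [MulAction W X] [Finite X] :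
    ∑ g : W, Nat.card (fixedBy X g) = Nat.card (Quotient (orbitRel W X)) * Nat.card W := by
  classical
  have : Fintype X := Fintype.ofFinite X
  have := sum_card_fixedBy_eq_card_orbits_mul_card_group W X
  simp only [Nat.card_eq_fintype_card]
  exact this

/-- **Brauer's permutation lemma**, transitive case. -/
theorem char_transitive {A W : Type*} [CommGroup A] [Finite A] [Group W] [Finite W]
    (φ : W →* MulAut A) (htr : ∀ a b : A, a ≠ 1 → b ≠ 1 → ∃ w : W, φ w a = b)
    {χ ψ : A →* ℂˣ} (hχ : χ ≠ 1) (hψ : ψ ≠ 1) : ∃ w : W, ∀ a, ψ a = χ (φ w a) := by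
  classical
  have : Fintype W := Fintype.ofFinite W
  let act1 : MulAction W A := MulAction.compHom A φ
  let act2 : MulAction W (A →* ℂˣ) :=
    { smul := fun w χ => χ.comp (φ w⁻¹).toMonoidHom
      one_smul := fun χ => by
        ext a
        change ((χ (φ (1 : W)⁻¹ a) : ℂˣ) : ℂ) = _
        rw [inv_one, map_one]; rfl
      mul_smul := fun g h χ => by
        ext a
        change ((χ (φ (g * h)⁻¹ a) : ℂˣ) : ℂ) = ((χ (φ h⁻¹ (φ g⁻¹ a)) : ℂˣ) : ℂ)
        rw [_root_.mul_inv_rev, map_mul]; rfl }
  have hs1 : ∀ (w : W) (a : A), w • a = φ w a := fun w a => rfl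
  have hs2 : ∀ (w : W) (χ : A →* ℂˣ) (a : A), (w • χ) a = χ (φ w⁻¹ a) := fun w χ a => rfl
  have hfinX : Finite (A →* ℂˣ) := by
    have h := (CommGroup.monoidHom_mulEquiv_of_hasEnoughRootsOfUnity A ℂ).some
    exact Finite.of_equiv A h.symm.toEquiv
  have hfix : ∀ w : W, Nat.card (fixedBy (A →* ℂˣ) w) = Nat.card (fixedBy A w) := by
    intro w
    have h1 : Nat.card (fixedBy (A →* ℂˣ) w) = Nat.card {χ : A →* ℂˣ // ∀ a, χ (φ w⁻¹ a) = χ a} := by
      refine Nat.card_congr (Equiv.subtypeEquivRight (fun χ => ?_))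
      rw [mem_fixedBy]
      constructor
      · intro h a
        rw [← hs2, h]
      · intro h
        ext a
        rw [hs2, h a]
    have h2 : Nat.card (fixedBy A w) = Nat.card {a : A // φ w⁻¹ a = a} := by
      refine Nat.card_congr (Equiv.subtypeEquivRight (fun a => ?_))
      rw [mem_fixedBy, hs1]
      have hi : ∀ a : A, φ w⁻¹ (φ w a) = a := by
        intro a
        rw [← MulAut.mul_apply, ← map_mul, inv_mul_cancel, map_one]; rfl
      have hj : ∀ a : A, φ w (φ w⁻¹ a) = a := by
        intro a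
        rw [← MulAut.mul_apply, ← map_mul, mul_inv_cancel, map_one]; rfl
      constructor
      · intro h
        nth_rewrite 1 [← h]; exact hi a
      · intro h
        nth_rewrite 1 [← h]; exact hj a
    rw [h1, h2, card_fixed (φ w⁻¹)]
  have hcount : Nat.card (Quotient (orbitRel W (A →* ℂˣ))) = Nat.card (Quotient (orbitRel W A)) := by
    have h1 := sum_fixed W (A →* ℂˣ)
    have h2 := sum_fixed W A
    simp only [hfix] at h1
    rw [h1] at h2
    exact Nat.eq_of_mul_eq_mul_right Nat.card_pos h2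
  -- at most two orbits on `A`
  obtain ⟨a0, ha0⟩ : ∃ a0 : A, a0 ≠ 1 := by
    by_contra hcon
    push Not at hcon
    apply hχ
    ext a
    rw [hcon a, map_one, map_one]
  have hle : Nat.card (Quotient (orbitRel W A)) ≤ 2 := by
    let f : Bool → Quotient (orbitRel W A) := fun b => cond b (Quotient.mk'' a0) (Quotient.mk'' 1)
    have hf : Function.Surjective f := by
      intro q
      induction q using Quotient.inductionOn' with
      | h a =>
        by_cases ha : a = 1
        · exact ⟨false, by rw [ha]; rfl⟩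
        · refine ⟨true, Quotient.sound' ?_⟩
          obtain ⟨w, hw⟩ := htr a a0 ha ha0
          exact ⟨w, hw⟩
    have := Nat.card_le_card_of_surjective f hf
    simpa using this
  by_contra hcon
  -- three orbits on the characters
  have hne : (Quotient.mk'' χ : Quotient (orbitRel W (A →* ℂˣ))) ≠ Quotient.mk'' ψ := by
    intro h
    obtain ⟨w, hw⟩ := Quotient.exact' h
    apply hcon
    refine ⟨w, fun a => ?_⟩
    have h1 : χ (φ w a) = (w • ψ) (φ w a) := by
      have h2 : w • ψ = χ := hw
      rw [h2]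
    rw [h1, hs2]
    have hi : φ w⁻¹ (φ w a) = a := by
      rw [← MulAut.mul_apply, ← map_mul, inv_mul_cancel, map_one]; rfl
    rw [hi]
  have hone : ∀ χ : A →* ℂˣ, χ ≠ 1 →
      (Quotient.mk'' χ : Quotient (orbitRel W (A →* ℂˣ))) ≠ Quotient.mk'' 1 := by
    intro χ hχ h
    obtain ⟨w, hw⟩ := Quotient.exact' h
    apply hχ
    have h2 : w • (1 : A →* ℂˣ) = χ := hw
    rw [← h2]
    ext a
    rw [hs2]; simp
  let g : Fin 3 → Quotient (orbitRel W (A →* ℂˣ)) :=
    ![Quotient.mk'' 1, Quotient.mk'' χ, Quotient.mk'' ψ]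
  have hg : Function.Injective g := by
    intro i j hij
    fin_cases i <;> fin_cases j <;> simp [g] at hij ⊢
    · exact hone χ hχ hij.symm
    · exact hone ψ hψ hij.symm
    · exact hone χ hχ hij
    · exact hne hij
    · exact hone ψ hψ hij
    · exact hne hij.symm
  have h3 := Nat.card_le_card_of_injective g hg
  rw [hcount] at h3
  simp at h3
  omega

/-- Transitivity on the subgroups of index two. -/
theorem index_two_transitive {A W : Type*} [CommGroup A] [Finite A] [Group W] [Finite W]
    (φ : W →* MulAut A) (htr : ∀ a b : A, a ≠ 1 → b ≠ 1 → ∃ w : W, φ w a = b)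
    {H K : Subgroup A} (hH : H.index = 2) (hK : K.index = 2) :
    ∃ w : W, ∀ a, a ∈ K ↔ φ w a ∈ H := by
  classical
  -- the character with kernel `H`
  have key : ∀ H : Subgroup A, H.index = 2 → ∃ χ : A →* ℂˣ, χ ≠ 1 ∧ ∀ a, χ a = 1 ↔ a ∈ H := by
    intro H hH
    have hne : (-1 : ℂˣ) ≠ 1 := by
      intro h
      have := congrArg (fun u : ℂˣ => (u : ℂ)) h
      norm_num at this
    let χ : A →* ℂˣ :=
      { toFun := fun a => if a ∈ H then 1 else -1
        map_one' := by simp
        map_mul' := fun a b => by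
          have h1 := Subgroup.mul_mem_iff_of_index_two hH (a := a) (b := b)
          by_cases ha : a ∈ H <;> by_cases hb : b ∈ H <;> simp [ha, hb, h1] }
    have hχ : ∀ a, χ a = if a ∈ H then 1 else -1 := fun a => rfl
    have hχ' : ∀ a, χ a = 1 ↔ a ∈ H := by
      intro a
      rw [hχ]
      by_cases ha : a ∈ H <;> simp [ha, hne]
    refine ⟨χ, ?_, hχ'⟩
    intro h
    have h1 : H = ⊤ := by
      rw [Subgroup.eq_top_iff']
      intro a
      rw [← hχ', h]; rfl
    rw [h1, Subgroup.index_top] at hH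
    omega
  obtain ⟨χ, hχ1, hχ⟩ := key H hH
  obtain ⟨ψ, hψ1, hψ⟩ := key K hK
  obtain ⟨w, hw⟩ := char_transitive φ htr hχ1 hψ1
  refine ⟨w, fun a => ?_⟩
  rw [← hψ, ← hχ, hw]

/-- If `N(T)` is transitive on `T \ {1}`, `T` of exponent two, it is transitive on the subgroups
of index two of `T`. -/
theorem hyperplane_transitive {G : Type*} [Group G] [Finite G] {T : Subgroup G}
    (hT : ∀ t ∈ T, t * t = 1)
    (htr : ∀ x ∈ T, x ≠ 1 → ∀ y ∈ T, y ≠ 1 →
      ∃ n ∈ Subgroup.normalizer (T : Set G), n * x * n⁻¹ = y)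
    {H K : Subgroup G} (hHT : H ≤ T) (hKT : K ≤ T) (hH : H.relIndex T = 2)
    (hK : K.relIndex T = 2) :
    ∃ n : G, ∀ x, x ∈ K → n * x * n⁻¹ ∈ H := by
  have hcomm : ∀ a b : T, a * b = b * a := by
    rintro ⟨a, ha⟩ ⟨b, hb⟩
    apply Subtype.ext
    change a * b = b * a
    have h1 := hT (a * b) (mul_mem ha hb)
    have h3 : a⁻¹ = a := inv_eq_of_mul_eq_one_left (hT a ha)
    have h4 : b⁻¹ = b := inv_eq_of_mul_eq_one_left (hT b hb)
    have h5 : (a * b)⁻¹ = a * b := inv_eq_of_mul_eq_one_left h1
    rw [← h5, _root_.mul_inv_rev, h3, h4]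
  let inst : CommGroup T := { (inferInstance : Group T) with mul_comm := hcomm }
  let φ : Subgroup.normalizer (T : Set G) →* MulAut T := T.normalizerMonoidHom
  have hφ : ∀ (w : Subgroup.normalizer (T : Set G)) (a : T), ((φ w a : T) : G) =
      (w : G) * a * (w : G)⁻¹ := fun w a => rfl
  obtain ⟨w, hw⟩ := index_two_transitive φ (by
    rintro ⟨a, ha⟩ ⟨b, hb⟩ ha1 hb1
    obtain ⟨n, hn, h⟩ := htr a ha (fun h => ha1 (Subtype.ext h)) b hb (fun h => hb1 (Subtype.ext h))
    refine ⟨⟨n, hn⟩, Subtype.ext ?_⟩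
    rw [hφ]; exact h) (H := H.subgroupOf T) (K := K.subgroupOf T) hH hK
  refine ⟨(w : G), fun x hx => ?_⟩
  have h1 := (hw ⟨x, hKT hx⟩).mp (Subgroup.mem_subgroupOf.mpr hx)
  rw [Subgroup.mem_subgroupOf, hφ] at h1
  exact h1

end Cfsg.Agent.H524.DualTrans
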