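import Cfsg.Agent.H524.DualTrans
import Cfsg.Agent.H395.Jordan
import Cfsg.Agent.H524.SqfBasic

/-!
# Groups in which no class size is divisible by four: the simple case, abstractly

If no class size of the nonabelian simple group `G` is divisible by 4 then the Sylow 2-subgroups
are elementary abelian (`sq_eq_one`), and `N(T)` is not transitive on the involutions of a Sylow
2-subgroup `T` of order at least 4 (`false_of_transitive`).
-/

set_option autoImplicit false

namespace Cfsg.Agent.H524.FourDvd

open Subgroup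
open scoped Pointwise

universe u

variable {G : Type*} [Group G] [Finite G]

/-- If 4 does not divide the class size of `x`, some conjugate of `x` centralizes a subgroup of
index dividing 2 of the given Sylow 2-subgroup. -/
theorem exists_conj {x : G} (h : ¬ 4 ∣ (Subgroup.centralizer ({x} : Set G)).index)
    (T : Sylow 2 G) : ∃ (g : G) (R : Subgroup G), R ≤ (T : Subgroup G) ∧
      R.relIndex (T : Subgroup G) ∣ 2 ∧ g * x * g⁻¹ ∈ Subgroup.centralizer (R : Set G) := by
  have h2 : Fact (Nat.Prime 2) := ⟨Nat.prime_two⟩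
  set C := Subgroup.centralizer ({x} : Set G) with hC
  obtain ⟨R0⟩ : Nonempty (Sylow 2 C) := inferInstance
  have hR : IsPGroup 2 ((R0 : Subgroup C).map C.subtype) := R0.isPGroup'.map _
  obtain ⟨S, hS⟩ := hR.exists_le_sylow
  obtain ⟨g, hg⟩ := MulAction.exists_smul_eq G S T
  have hrel : ((R0 : Subgroup C).map C.subtype).relIndex (S : Subgroup G) ∣ 2 := by
    have h3 : Nat.card ((R0 : Subgroup C).map C.subtype) *
        ((R0 : Subgroup C).map C.subtype).relIndex (S : Subgroup G) = Nat.card (S : Subgroup G) := by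
      have := Subgroup.relIndex_mul_relIndex ⊥ ((R0 : Subgroup C).map C.subtype) (S : Subgroup G)
        bot_le hS
      rwa [Subgroup.relIndex_bot_left, Subgroup.relIndex_bot_left] at this
    rw [Subgroup.card_map_of_injective C.subtype_injective, Sylow.card_eq_multiplicity S,
      Sylow.card_eq_multiplicity R0] at h3
    have e : Nat.card G = Nat.card C * C.index := (Subgroup.card_mul_index C).symm
    have hC0 : Nat.card C ≠ 0 := Nat.card_pos.ne'
    have hi0 : C.index ≠ 0 := Subgroup.index_ne_zero_of_finite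
    rw [e, Nat.factorization_mul hC0 hi0, Finsupp.add_apply, pow_add] at h3
    have h4 := Nat.eq_of_mul_eq_mul_left (pow_pos two_pos _) h3
    rw [h4]
    have h5 : C.index.factorization 2 ≤ 1 := by
      by_contra hcon
      push Not at hcon
      apply h
      have h6 : 2 ^ 2 ∣ C.index :=
        (Nat.prime_two.pow_dvd_iff_le_factorization hi0).mpr hcon
      simpa using h6
    have h7 : 2 ^ C.index.factorization 2 ∣ 2 ^ 1 := pow_dvd_pow 2 h5
    simpa using h7
  -- conjugate
  have hmem : ∀ s : G, s ∈ (S : Subgroup G) ↔ g * s * g⁻¹ ∈ (T : Subgroup G) := by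
    intro s
    have : g * s * g⁻¹ ∈ (g • S : Sylow 2 G) ↔ s ∈ (S : Subgroup G) := by
      change g * s * g⁻¹ ∈ MulAut.conj g • (S : Subgroup G) ↔ _
      rw [Subgroup.mem_pointwise_smul_iff_inv_smul_mem]
      simp [MulAut.smul_def, mul_assoc]
    rw [← this, hg]
    rfl
  have hST : (T : Subgroup G) = (S : Subgroup G).map (MulAut.conj g).toMonoidHom := by
    ext y
    constructor
    · intro hy
      refine ⟨g⁻¹ * y * g, (hmem _).mpr ?_, ?_⟩
      · have : g * (g⁻¹ * y * g) * g⁻¹ = y := by group
        rw [this]; exact hy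
      · change g * (g⁻¹ * y * g) * g⁻¹ = y
        group
    · rintro ⟨s, hs, rfl⟩
      exact (hmem s).mp hs
  refine ⟨g, ((R0 : Subgroup C).map C.subtype).map (MulAut.conj g).toMonoidHom, ?_, ?_, ?_⟩
  · rw [hST]; exact Subgroup.map_mono hS
  · rw [hST, Subgroup.relIndex_map_map_of_injective _ _ (MulAut.conj g).injective]
    exact hrel
  · rw [Subgroup.mem_centralizer_iff]
    rintro _ ⟨_, ⟨r, hr, rfl⟩, rfl⟩
    have h1 : (r : G) ∈ Subgroup.centralizer ({x} : Set G) := r.2
    rw [Subgroup.mem_centralizer_singleton_iff] at h1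
    change g * (r : G) * g⁻¹ * (g * x * g⁻¹) = g * x * g⁻¹ * (g * (r : G) * g⁻¹)
    calc g * (r : G) * g⁻¹ * (g * x * g⁻¹) = g * ((r : G) * x) * g⁻¹ := by group
      _ = g * (x * (r : G)) * g⁻¹ := by rw [h1]
      _ = _ := by group

omit [Finite G] in
/-- A nonabelian simple group has trivial centre; a subgroup with centralizer `⊤` is trivial. -/
theorem eq_one_of_centralizer_eq_top [IsSimpleGroup G] (hna : ¬ IsMulCommutative G)
    {R : Subgroup G} (h : Subgroup.centralizer (R : Set G) = ⊤) : R = ⊥ := by
  have hcen : Subgroup.center G = ⊥ := by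
    rcases (inferInstance : (Subgroup.center G).Normal).eq_bot_or_eq_top with h1 | h1
    · exact h1
    · exfalso
      apply hna
      refine ⟨⟨fun a b => ?_⟩⟩
      have : b ∈ Subgroup.center G := by rw [h1]; trivial
      exact (Subgroup.mem_center_iff.mp this a)
  rw [eq_bot_iff, ← hcen]
  intro r hr
  rw [Subgroup.mem_center_iff]
  intro g
  have hg : g ∈ Subgroup.centralizer (R : Set G) := by rw [h]; trivial
  exact ((Subgroup.mem_centralizer_iff.mp hg) r hr).symm

/-- Sylow 2-subgroups have exponent two. -/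
theorem sq_eq_one [IsSimpleGroup G] (hna : ¬ IsMulCommutative G)
    (h : ∀ x : G, ¬ 4 ∣ (Subgroup.centralizer ({x} : Set G)).index) (T : Sylow 2 G) :
    ∀ t ∈ (T : Subgroup G), t * t = 1 := by
  set Φ : Subgroup G := Subgroup.closure {s | ∃ t ∈ (T : Subgroup G), t * t = s} with hΦ
  have htop : Subgroup.centralizer (Φ : Set G) = ⊤ := by
    by_contra hne
    obtain ⟨x, hx⟩ := Cfsg.Agent.H395.Jordan.exists_not_conj_mem hne
    obtain ⟨g, R, hRT, hR, hgx⟩ := exists_conj (h x) T
    apply hx g⁻¹
    rw [inv_inv]
    have hle : Φ ≤ R := by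
      rw [hΦ, Subgroup.closure_le]
      rintro _ ⟨t, ht, rfl⟩
      rcases (Nat.dvd_prime Nat.prime_two).mp hR with h1 | h1
      · rw [Subgroup.relIndex_eq_one] at h1
        exact mul_mem (h1 ht) (h1 ht)
      · have h2 : (R.subgroupOf (T : Subgroup G)).index = 2 := h1
        have h3 := Subgroup.mul_self_mem_of_index_two h2 ⟨t, ht⟩
        exact Subgroup.mem_subgroupOf.mp h3
    exact Subgroup.centralizer_le hle hgx
  have hbot := eq_one_of_centralizer_eq_top hna htop
  intro t ht
  have : t * t ∈ Φ := Subgroup.subset_closure ⟨t, ht, rfl⟩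
  rwa [hbot, Subgroup.mem_bot] at this

/-- The contradiction if `N(T)` is transitive on the involutions of `T`. -/
theorem false_of_transitive [IsSimpleGroup G] (hna : ¬ IsMulCommutative G)
    (h : ∀ x : G, ¬ 4 ∣ (Subgroup.centralizer ({x} : Set G)).index) (T : Sylow 2 G)
    (h4 : 4 ∣ Nat.card (T : Subgroup G))
    (htr : ∀ x ∈ (T : Subgroup G), x ≠ 1 → ∀ y ∈ (T : Subgroup G), y ≠ 1 →
      ∃ n ∈ Subgroup.normalizer ((T : Subgroup G) : Set G), n * x * n⁻¹ = y) : False := by
  have h2 : Fact (Nat.Prime 2) := ⟨Nat.prime_two⟩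
  have hsq := sq_eq_one hna h T
  obtain ⟨n, hn⟩ := IsPGroup.iff_card.mp T.isPGroup'
  have hn2 : 2 ≤ n := by
    rw [hn] at h4
    have : 2 ^ 2 ∣ 2 ^ n := by simpa using h4
    exact (Nat.pow_dvd_pow_iff_le_right (by norm_num)).mp this
  -- a hyperplane
  obtain ⟨K, hK⟩ : ∃ K : Subgroup (T : Subgroup G), Nat.card K = 2 ^ (n - 1) :=
    Sylow.exists_subgroup_card_pow_prime 2 (by rw [hn]; exact pow_dvd_pow 2 (by omega))
  set H := K.map (T : Subgroup G).subtype with hH
  have hHT : H ≤ (T : Subgroup G) := Subgroup.map_subtype_le K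
  have hHcard : Nat.card H = 2 ^ (n - 1) := by
    rw [hH, Subgroup.card_map_of_injective (T : Subgroup G).subtype_injective, hK]
  have hHrel : H.relIndex (T : Subgroup G) = 2 := by
    have h3 := Subgroup.relIndex_mul_relIndex ⊥ H (T : Subgroup G) bot_le hHT
    rw [Subgroup.relIndex_bot_left, Subgroup.relIndex_bot_left, hHcard, hn] at h3
    have h5 : 2 ^ n = 2 ^ (n - 1) * 2 := by
      rw [← pow_succ]; congr 1; omega
    rw [h5] at h3
    exact Nat.eq_of_mul_eq_mul_left (pow_pos two_pos _) h3
  have htop : Subgroup.centralizer (H : Set G) = ⊤ := by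
    by_contra hne
    obtain ⟨x, hx⟩ := Cfsg.Agent.H395.Jordan.exists_not_conj_mem hne
    obtain ⟨g, R, hRT, hR, hgx⟩ := exists_conj (h x) T
    rcases (Nat.dvd_prime Nat.prime_two).mp hR with h1 | h1
    · rw [Subgroup.relIndex_eq_one] at h1
      apply hx g⁻¹
      rw [inv_inv]
      exact Subgroup.centralizer_le (hHT.trans h1) hgx
    · obtain ⟨m, hm⟩ := DualTrans.hyperplane_transitive hsq htr hRT hHT h1 hHrel
      apply hx (g⁻¹ * m)
      rw [Subgroup.mem_centralizer_iff]
      intro y hy
      have h3 := (Subgroup.mem_centralizer_iff.mp hgx) _ (hm y hy)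
      have h4 : (g⁻¹ * m)⁻¹ * x * (g⁻¹ * m) = m⁻¹ * (g * x * g⁻¹) * m := by group
      rw [h4]
      calc y * (m⁻¹ * (g * x * g⁻¹) * m) = m⁻¹ * ((m * y * m⁻¹) * (g * x * g⁻¹)) * m := by group
        _ = m⁻¹ * ((g * x * g⁻¹) * (m * y * m⁻¹)) * m := by rw [h3]
        _ = _ := by group
  have hbot := eq_one_of_centralizer_eq_top hna htop
  rw [hbot] at hHcard
  have h5 : Nat.card (⊥ : Subgroup G) = 1 := by simp
  rw [h5] at hHcard
  have h6 : 2 ≤ 2 ^ (n - 1) := by
    calc 2 = 2 ^ 1 := by norm_num
      _ ≤ 2 ^ (n - 1) := Nat.pow_le_pow_right (by norm_num) (by omega)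
  omega

/-- Reduction to simple groups. -/
theorem solvable_of_simple_case
    (hsimple : ∀ (G : Type u) [Group G] [Finite G] [IsSimpleGroup G],
      (∀ x : G, ¬ 4 ∣ (Subgroup.centralizer ({x} : Set G)).index) → IsMulCommutative G) :
    ∀ (n : ℕ) (G : Type u) [Group G] [Finite G], Nat.card G = n →
      (∀ x : G, ¬ 4 ∣ (Subgroup.centralizer ({x} : Set G)).index) → Group.IsSolvable G := by
  intro n
  induction n using Nat.strong_induction_on with
  | _ n ih =>
    intro G _ _ hn h
    rcases subsingleton_or_nontrivial G with hs | hnt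
    · infer_instance
    by_cases hex : ∃ N : Subgroup G, N.Normal ∧ N ≠ ⊥ ∧ N ≠ ⊤
    · obtain ⟨N, hN, hb, ht⟩ := hex
      have hcard := Subgroup.card_eq_card_quotient_mul_card_subgroup N
      have hq : 0 < Nat.card (G ⧸ N) := Nat.card_pos
      have hN0 : 0 < Nat.card N := Nat.card_pos
      have hN1 : Nat.card N ≠ 1 := fun h1 => hb (Subgroup.card_eq_one.mp h1)
      have hq1 : Nat.card (G ⧸ N) ≠ 1 := fun h1 => ht (Subgroup.index_eq_one.mp h1)
      have h1 : Group.IsSolvable N := by
        refine ih (Nat.card N) ?_ N rfl (fun x hx => ?_)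
        · rw [← hn, hcard]
          have : 2 ≤ Nat.card (G ⧸ N) := by omega
          nlinarith
        · apply h (x : G)
          refine dvd_trans ?_ (Sqf.relIndex_dvd N (Subgroup.centralizer ({(x : G)} : Set G)))
          have h3 : (Subgroup.centralizer ({(x : G)} : Set G)).subgroupOf N =
              Subgroup.centralizer ({x} : Set N) := by
            ext y
            rw [Subgroup.mem_subgroupOf, Subgroup.mem_centralizer_singleton_iff,
              Subgroup.mem_centralizer_singleton_iff]
            exact ⟨fun h => Subtype.ext h, fun h => congrArg Subtype.val h⟩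
          rw [Subgroup.relIndex, h3]
          exact hx
      have h2 : Group.IsSolvable (G ⧸ N) := by
        refine ih (Nat.card (G ⧸ N)) ?_ (G ⧸ N) rfl (fun x hx => ?_)
        · rw [← hn, hcard]
          have : 2 ≤ Nat.card N := by omega
          nlinarith
        · obtain ⟨y, rfl⟩ := QuotientGroup.mk'_surjective N x
          apply h y
          have h1 : Subgroup.centralizer ({y} : Set G) ≤
              (Subgroup.centralizer ({QuotientGroup.mk' N y} : Set (G ⧸ N))).comap
                (QuotientGroup.mk' N) := by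
            intro z hz
            rw [Subgroup.mem_centralizer_singleton_iff] at hz
            rw [Subgroup.mem_comap, Subgroup.mem_centralizer_singleton_iff, ← map_mul, hz, map_mul]
          have h2 := Subgroup.index_dvd_of_le h1
          rw [Subgroup.index_comap_of_surjective _ (QuotientGroup.mk'_surjective N)] at h2
          exact hx.trans h2
      exact Group.isSolvable_of_ker_le_range N.subtype (QuotientGroup.mk' N) (by simp)
    · push Not at hex
      have hsim : IsSimpleGroup G :=
        { exists_pair_ne := exists_pair_ne G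
          eq_bot_or_eq_top_of_normal := fun N hN => by
            by_cases hb : N = ⊥
            · exact Or.inl hb
            · exact Or.inr (hex N hN hb) }
      have hc := hsimple G h
      exact Group.isSolvable_of_comm (fun a b => hc.is_comm.comm a b)

end Cfsg.Agent.H524.FourDvd
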