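import Mathlib
import Cfsg.Agent.H524.SporPrim
import Cfsg.Agent.H524.LargeEight
import Cfsg.Agent.MonsterU.ModelChart
import Cfsg.Agent.MonsterU.Uncond
import Cfsg.Agent.MonsterP.Equiv
import Cfsg.Agent.H729.PairCo1
import Cfsg.Agent.H713.Spor.MOf
import Cfsg.Agent.H393.Iso.Monster
import Cfsg.Agent.H393.Iso.Co1
import Cfsg.Agent.BpSpor.MBigCo

/-!
# `PrimB` for the Monster
-/

set_option autoImplicit false

namespace Cfsg.Agent.H524.SporTool

open Cfsg Cfsg.Agent.H524.DirRed Cfsg.Agent.H524.LargeEight Cfsg.Agent.MonsterU.Lam2 Cfsg.Agent.MonsterU.Ch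
open Cfsg.Agent.SporadicA.Co0Mono (signCo0 signMap signCo0_smul signMap_apply signCo0_mul_self)

theorem qr_mem (t : ZMod 23) : qrWord t ∈ golayCode :=
  Submodule.subset_span (Or.inl ⟨t, rfl⟩)

/-- a dodecad -/
def dq : golayCode := ⟨qrWord 1, qr_mem 1⟩

/-- a dodecad -/
def cq : golayCode := ⟨qrWord 0, qr_mem 0⟩

theorem bf_dq : bf (cl lA) (cl (signCo0 dq • lA)) = 1 := by
  rw [bf_cl, b0, signCo0_smul]
  have h : dotInt (lA : GolayPt → ℤ) (signMap (dq : GolayPt → ZMod 2) (lA : GolayPt → ℤ)) = 8 := by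
    show dotInt vA (signMap (qrWord 1) vA) = 8
    decide +kernel
  rw [h]
  decide

/-- the involution of `Co₁` -/
noncomputable def gq : Spor.Co1 := QuotientGroup.mk (signCo0 dq)

theorem gq_sq : gq * gq = 1 := by
  show (QuotientGroup.mk (signCo0 dq * signCo0 dq) : Spor.Co1) = 1
  rw [signCo0_mul_self]
  rfl

theorem bf_gq : bf (cl lA) (gq • cl lA) = 1 := bf_dq

theorem gq_ne : gq ≠ 1 := by
  intro h
  have h1 := bf_gq
  rw [h, one_smul, bf_self] at h1
  exact zero_ne_one h1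

theorem orderOf_gq : orderOf gq = 2 := orderOf_eq_prime (by rw [pow_two, gq_sq]) gq_ne

theorem orderOf_eight {G : Type*} [Group G] {y z : G} (h : y ^ 4 = z) (hz : z * z = 1) (hz1 : z ≠ 1) :
    orderOf y = 2 ^ 3 := by
  have : Fact (Nat.Prime 2) := ⟨Nat.prime_two⟩
  refine orderOf_eq_prime_pow (n := 2) ?_ ?_
  · rw [show (2 : ℕ) ^ 2 = 4 by norm_num, h]
    exact hz1
  · rw [show (2 : ℕ) ^ (2 + 1) = 4 * 2 by norm_num, pow_mul, h, pow_two, hz]

open Cfsg.Agent.MonsterX.Model Cfsg.Agent.MonsterX.MainPack Cfsg.Agent.MonsterX.MainSimple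
  Cfsg.Agent.MonsterX.MainBasic Cfsg.Agent.MonsterU.Assembly

theorem primB_m_of {W : Type} [AddCommGroup W] [Module ℚ W] {M : MData W} (A : All M Spor.Co1)
    (hN : Nat.card M.G = 808017424794512875886459904961710757005754368000000000) (h2 : PrimB M.G 2) :
    ∀ p : ℕ, p.Prime → p ∣ Nat.card M.G → PrimB M.G p := by
  have hf : Finite M.G := G_finite A.hO
  have hfc : Finite Spor.Co1 := BpSpor.MBigCo.finite_co1
  obtain ⟨eta, pi, hch⟩ := Cfsg.Agent.MonsterU.ModelChart.chart A.hG A.hR A.hL A.hO A.hT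
  have hzz := hch.large.z_sq
  have hz1 := hch.large.z_ne
  have hz : orderOf (zG A.hG) = 2 := orderOf_eq_prime (by rw [pow_two, hzz]) hz1
  refine primB_all hN hz (c := 2 ^ 25 * 4157776806543360000)
    (by rw [H713.Spor.MOf.card_cent_z A.hG A.hR A.hL A.hO A.hT])
    [(3, 20), (5, 9), (7, 6), (11, 2), (13, 3), (17, 1), (19, 1), (29, 1), (31, 1), (41, 1), (47, 1), (59, 1), (71, 1)]
    (by intro a ha; fin_cases ha <;> norm_num) [2, 23] ?_ 46 (by norm_num)
  intro p hp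
  simp only [List.mem_cons, List.not_mem_nil, or_false] at hp
  rcases hp with rfl | rfl
  · exact ⟨Nat.prime_two, h2⟩
  · refine ⟨by norm_num, ?_⟩
    obtain ⟨y, hy, hpy⟩ := exists_over hch gq_sq bf_gq
    refine primB_of_not_comm (r := 2) (k := 3) (y := (y : M.G)) (by norm_num) Nat.prime_two (by norm_num)
      (by rw [hN]; norm_num) (orderOf_eight hy hzz hz1) fun x hx hc => ?_
    obtain ⟨x', -, hx', hc'⟩ := order_pi hch (by norm_num) (by norm_num) hy hx hc
    rw [hpy] at hc'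
    exact H393.Iso.na_co1 ⟨MulEquiv.refl _⟩ (pi x') gq hx' orderOf_gq hc'

theorem primB_m {G : Type*} [Group G] [Finite G] (h : Spor.IsoM G) :
    ∀ p : ℕ, p.Prime → p ∣ Nat.card G → PrimB G p := by
  have hN := NotCT.Orders.m h
  have h2 : PrimB G 2 := primB_two (H393.Iso.na_m h (p := 59) (by norm_num)) (by norm_num) (by norm_num)
    (by rw [hN]; norm_num) (by rw [hN]; norm_num)
  obtain ⟨e⟩ := h
  obtain ⟨f⟩ := Cfsg.Agent.MonsterP.Equiv.equiv
  have hc := Nat.card_congr (e.trans f).toEquiv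
  intro p hp hd
  exact (primB_m_of Cfsg.Agent.MonsterU.Uncond.all (by rw [← hc, hN]) (h2.congr (e.trans f)) p hp (by rwa [← hc])).congr
    (e.trans f).symm

end Cfsg.Agent.H524.SporTool
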