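import Mathlib
import Cfsg.Agent.H524.AltCls
import Cfsg.Agent.H524.LieRow
import Cfsg.Agent.H524.SporM
import Cfsg.Agent.H524.SporJ1
import Cfsg.Agent.H524.SporSC
import Cfsg.Agent.H524.SporSCB
import Cfsg.Agent.H524.SporSCC
import Cfsg.Agent.H524.SporPrim
import Cfsg.Agent.H524.SporON
import Cfsg.Agent.H524.SporMon
import Cfsg.Agent.H524.SporBaby
import Cfsg.Agent.H524.CopAll

/-!
# Class sizes of elements of prime power order in the finite simple groups

* `primB_spor`: the sporadic groups;
* `primB_known`: the known non-abelian simple groups: for every prime `p` dividing the order of the group some element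
  of prime power order, prime to `p`, has a class of size divisible by `p`.
-/

set_option autoImplicit false

namespace Cfsg.Agent.H524.PrimAll

open Subgroup Cfsg Cfsg.Agent.H524.DirRed Cfsg.Agent.H524.SporTool

universe u

theorem SC.prim {S : Type*} [Group S] [Finite S] [IsSimpleGroup S] (hna : ¬ ∀ a b : S, a * b = b * a) (h : SC S) :
    ∀ p : ℕ, p.Prime → p ∣ Nat.card S → PrimB S p := (both_of_cc hna h.exists_cc).1

/-- **The sporadic groups.** -/
theorem primB_spor {S : Type u} [Group S] [Finite S] [IsSimpleGroup S] (hna : ¬ ∀ a b : S, a * b = b * a)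
    (h : IsSporadicGroup S) : ∀ p : ℕ, p.Prime → p ∣ Nat.card S → PrimB S p := by
  rcases h with h | h | h | h | h | h | h | h | h | h | h | h | h | h | h | h | h | h | h | h | h | h | h | h | h | h
  · exact (both_of_cc hna (cc_m11 h)).1
  · exact (both_of_cc hna (cc_m12 h)).1
  · exact (both_of_cc hna (cc_m22 h)).1
  · exact (both_of_cc hna (cc_m23 h)).1
  · exact (both_of_cc hna (cc_m24 h)).1
  · exact (both_of_cc hna (cc_j1 hna h)).1
  · exact SC.prim hna (sc_j2 h)
  · exact SC.prim hna (sc_j3 h)
  · exact SC.prim hna (sc_j4 h)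
  · exact SC.prim hna (sc_co1 h)
  · exact SC.prim hna (sc_co2 h)
  · exact SC.prim hna (sc_co3 h)
  · exact primB_mcl h
  · exact primB_hs h
  · exact SC.prim hna (sc_suz h)
  · exact SC.prim hna (sc_he h)
  · exact SC.prim hna (sc_ru h)
  · exact primB_on h
  · exact primB_ly h
  · exact SC.prim hna (sc_fi22 h)
  · exact SC.prim hna (sc_fi23 h)
  · exact SC.prim hna (sc_fi24 h)
  · exact primB_hn h
  · exact primB_th h
  · exact primB_b h
  · exact primB_m h

/-- **The known non-abelian simple groups.** -/
theorem primB_known {S : Type u} [Group S] [Finite S] [IsSimpleGroup S] (hna : ¬ ∀ a b : S, a * b = b * a)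
    (hk : IsKnownSimple' S) : ∀ p : ℕ, p.Prime → p ∣ Nat.card S → PrimB S p := by
  have hna' : ¬ IsMulCommutative S := fun h => hna h.is_comm.comm
  rcases CopAll.known_split hna' hk with h | ⟨r, -, h⟩ | h | h
  · obtain ⟨n, hn, ⟨e⟩⟩ := h
    intro p hp hd
    rw [Nat.card_congr e.toEquiv] at hd
    exact PrimB.congr e.symm (AltCls.primB_alt (by rw [Fintype.card_fin]; exact hn) hp hd)
  · exact fun p hp hd => LieRow.primB_lie hna h hp hd
  · exact SC.prim hna (sc_tits h)
  · exact primB_spor hna h

end Cfsg.Agent.H524.PrimAll
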