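import Mathlib
import Cfsg.Agent.H524.RegSpor
import Cfsg.Agent.H524.AltCls
import Cfsg.Agent.H524.LieRow
import Cfsg.Agent.H524.CopAll
import Cfsg.Agent.H740.RegRankOne
import Cfsg.Agent.H755.Reg.PSU
import Cfsg.Agent.H680.RegSp
import Cfsg.Agent.H142.RegOwnTw
import Cfsg.Agent.H877.RegOm
import Cfsg.Agent.H743.RegOmOdd
import Cfsg.Agent.H759.Reg.ESeven
import Cfsg.Agent.H587.RegM
import Cfsg.Agent.H991.RegBaby
import Cfsg.Agent.H38.RegHNTh

/-!
# `RegAll` for the known simple groups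
-/

set_option autoImplicit false

namespace Cfsg.Agent.H524.RegKnown

open Subgroup Cfsg Cfsg.Agent.H524.DirRed Cfsg.Agent.H524.SporTool Cfsg.Agent.H524.RegTool

universe u

/-- Own characteristic, modulo `PSL_n`. -/
theorem regB_own {S : Type u} [Group S] [Finite S] [IsSimpleGroup S] (hna : ¬ ∀ a b : S, a * b = b * a) {l : ℕ}
    (h : IsLieTypeChar l S) (hpsl : IsPSLChar l S → ∀ q : ℕ, q.Prime → q ≠ l → q ∣ Nat.card S → RegB S l q)
    {q : ℕ} (hl : l.Prime) (hq : q.Prime) (hql : q ≠ l) (hd : q ∣ Nat.card S) : RegB S l q := by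
  rcases h with h | h | h | h | h | h | h | h | ⟨-, h⟩ | ⟨-, h⟩ | ⟨-, h⟩
  · exact hpsl h q hq hql hd
  · exact H680.RegSp.regB_psp h hq hql hd
  · exact H755.RegPSU.regB_psu h hq hql hd
  · exact H743.RegOm.regB_omegaOdd h hq hql hd
  · exact H877.RegOm.regB_omegaPlus h hq hql hd
  · exact H877.RegOm.regB_omegaMinus h hq hql hd
  · obtain ⟨F, _, _, _, h⟩ := h
    rcases h with ⟨h3, ⟨e⟩⟩ | ⟨⟨e⟩⟩ | ⟨⟨e⟩⟩ | h | ⟨⟨e⟩⟩
    · exact H142.RegOwn.regB_g2 hna hl hq hd ⟨F, inferInstance, inferInstance, h3, ⟨e⟩⟩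
    · exact H142.RegOwn.regB_f4 hna hl hq hd ⟨F, inferInstance, inferInstance, ⟨e⟩⟩
    · exact H142.RegOwn.regB_e6 hna hl hq hd ⟨F, inferInstance, inferInstance, ⟨e⟩⟩
    · exact H759.Reg.E7.regB_e7 h hq hd
    · exact H142.RegOwn.regB_e8 hna hl hq hd ⟨F, inferInstance, inferInstance, ⟨e⟩⟩
  · obtain ⟨K, _, _, _, q', hq', h⟩ := h
    rcases h with ⟨hK, ⟨e⟩⟩ | ⟨hK, ⟨e⟩⟩
    · exact H142.RegOwn.regB_2e6 hna hl hq hd ⟨K, inferInstance, inferInstance, q', hq', hK, ⟨e⟩⟩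
    · exact H142.RegOwn.regB_3d4 hna hl hq hd ⟨K, inferInstance, inferInstance, q', hq', hK, ⟨e⟩⟩
  · exact H740.RegRankOne.regB_sz hna h hl hq hd
  · exact H142.RegOwn.regB_2f4 hna hl hq hd h
  · exact H740.RegRankOne.regB_ree hna h hl hq hd

/-- **The known non-abelian simple groups**, modulo three rows. -/
theorem regAll_known_of {S : Type u} [Group S] [Finite S] [IsSimpleGroup S] (hna : ¬ ∀ a b : S, a * b = b * a)
    (hk : IsKnownSimple' S) (hpsl : ∀ l : ℕ, IsPSLChar l S → ∀ q : ℕ, q.Prime → q ≠ l → q ∣ Nat.card S → RegB S l q)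
    (hon : Spor.IsoON S → RegAll S) (hly : Spor.IsoLy S → RegAll S) : RegAll S := by
  have hna' : ¬ IsMulCommutative S := fun h => hna h.is_comm.comm
  rcases CopAll.known_split hna' hk with h | ⟨l, hl, h⟩ | h | h
  · obtain ⟨n, hn, ⟨e⟩⟩ := h
    intro p q hp hq hpq hd
    rw [Nat.card_congr e.toEquiv] at hd
    exact RegB.congr e.symm (AltCls.regB_alt (by rw [Fintype.card_fin]; exact hn) hp hq hpq hd)
  · intro p q hp hq hpq hd
    by_cases hpl : p = l
    · subst hpl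
      exact regB_own hna h (hpsl _) hp hq (Ne.symm hpq) hd
    · exact LieRow.regB_lie hna h hp hq hpl hd
  · exact (both_of_cc hna (sc_tits h).exists_cc).2
  · exact RegSpor.regAll_spor hna h hon hly H38.RegHNTh.regAll_hn H38.RegHNTh.regAll_th
      H991.RegBaby.regAll_b H587.RegM.regAll_m

end Cfsg.Agent.H524.RegKnown
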