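import Cfsg.Agent.H524.SqfMain
import Cfsg.Agent.Lib.Cores
import Cfsg.Agent.S0583

/-!
# Solvable groups with square-free class sizes: the structure theorem
-/

set_option autoImplicit false

namespace Cfsg.Agent.H524.Sqf

open Subgroup
open scoped commutatorElement

theorem commutator_map_mk {G : Type*} [Group G] (N : Subgroup G) [N.Normal] :
    commutator (G ⧸ N) = (commutator G).map (QuotientGroup.mk' N) := by
  rw [_root_.commutator_def, _root_.commutator_def, Subgroup.map_commutator,
    Subgroup.map_top_of_surjective _ (QuotientGroup.mk'_surjective N)]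

theorem not_sq_dvd_aux : ∀ (n : ℕ) (G : Type*) [Group G] [Finite G], Nat.card G = n → SF G →
    Group.IsNilpotent (commutator G) → ∀ p : ℕ, p.Prime → ¬ p * p ∣ Nat.card (commutator G) := by
  intro n
  induction n using Nat.strong_induction_on with
  | _ n ih =>
    intro G _ _ hn h hnil p hp hpp
    have : Fact p.Prime := ⟨hp⟩
    by_cases hO : ∀ N : Subgroup G, N.Normal → ¬ p ∣ Nat.card N → N = ⊥
    · have h1 := (hpp.trans (card_commutator_dvd_of_core h hnil hO))
      have h2 : p * p ∣ p * 1 := by rwa [mul_one]
      exact hp.one_lt.ne' (Nat.dvd_one.mp (Nat.dvd_of_mul_dvd_mul_left hp.pos h2))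
    · push Not at hO
      obtain ⟨N, hN, hpN, hNe⟩ := hO
      have hlt : Nat.card (G ⧸ N) < n := by
        have h1 := Subgroup.card_eq_card_quotient_mul_card_subgroup N
        rw [hn] at h1
        have h2 : 0 < Nat.card (G ⧸ N) := Nat.card_pos
        have h3 : 1 < Nat.card N := by
          rcases Nat.lt_or_ge 1 (Nat.card N) with h4 | h4
          · exact h4
          · exfalso
            have h5 : 0 < Nat.card N := Nat.card_pos
            exact hNe (Subgroup.card_eq_one.mp (by omega))
        nlinarith
      -- the restriction of the quotient map to the derived subgroup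
      let f : commutator G →* commutator (G ⧸ N) :=
        ((QuotientGroup.mk' N).comp (commutator G).subtype).codRestrict (commutator (G ⧸ N)) (by
          intro x
          rw [commutator_map_mk]
          exact ⟨x, x.2, rfl⟩)
      have hf : Function.Surjective f := by
        rintro ⟨y, hy⟩
        rw [commutator_map_mk] at hy
        obtain ⟨x, hx, rfl⟩ := hy
        exact ⟨⟨x, hx⟩, Subtype.ext rfl⟩
      have hnil' : Group.IsNilpotent (commutator (G ⧸ N)) :=
        Group.nilpotent_of_surjective f hf
      refine ih _ hlt (G ⧸ N) rfl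
        (h.of_surjective (QuotientGroup.mk' N) (QuotientGroup.mk'_surjective N)) hnil' p hp ?_
      have h1 : Nat.card (commutator G) = Nat.card (commutator (G ⧸ N)) * Nat.card f.ker := by
        have h2 := Subgroup.card_eq_card_quotient_mul_card_subgroup f.ker
        rw [h2]
        congr 1
        exact Nat.card_congr (QuotientGroup.quotientKerEquivOfSurjective f hf).toEquiv
      have h2 : Nat.card f.ker ∣ Nat.card N := by
        have h3 : (f.ker.map (commutator G).subtype) ≤ N := by
          rintro _ ⟨x, hx, rfl⟩
          rw [SetLike.mem_coe, MonoidHom.mem_ker] at hx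
          have h4 := congrArg Subtype.val hx
          exact (QuotientGroup.eq_one_iff (x : G)).mp h4
        have h4 := Subgroup.card_dvd_of_le h3
        rwa [Subgroup.card_map_of_injective (commutator G).subtype_injective] at h4
      have h3 : (p * p).Coprime (Nat.card f.ker) := by
        have h4 : p.Coprime (Nat.card f.ker) := by
          rw [Nat.Prime.coprime_iff_not_dvd hp]
          exact fun h5 => hpN (h5.trans h2)
        exact Nat.Coprime.mul_left h4 h4
      rw [h1] at hpp
      exact h3.dvd_of_dvd_mul_right hpp

variable {G : Type*} [Group G] [Finite G]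

theorem squarefree_commutator (h : SF G) (hnil : Group.IsNilpotent (commutator G)) :
    Squarefree (Nat.card (commutator G)) := by
  rw [Nat.squarefree_iff_prime_squarefree]
  exact fun p hp hpp => not_sq_dvd_aux _ G rfl h hnil p hp hpp

theorem isCyclic_commutator (h : SF G) (hnil : Group.IsNilpotent (commutator G)) :
    IsCyclic (commutator G) := by
  have := IsZGroup.of_squarefree (squarefree_commutator h hnil)
  infer_instance

omit [Finite G] in
theorem ucs_two (h : ∀ a b c : G, ⁅a, b⁆ * c = c * ⁅a, b⁆) :
    Subgroup.upperCentralSeries G 2 = ⊤ := by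
  rw [eq_top_iff]
  intro x _
  rw [Subgroup.mem_upperCentralSeries_succ_iff]
  intro y
  rw [Subgroup.upperCentralSeries_one, Subgroup.mem_center_iff]
  intro z
  exact (h _ _ z).symm

/-- The structure theorem for solvable groups with square-free class sizes. -/
theorem structure_theorem [Group.IsSolvable G] (h : SF G) :
    Cfsg.IsSupersolvable G ∧ (Cfsg.fittingSubgroup G).Normal ∧
    (∀ _h : (Cfsg.fittingSubgroup G).Normal, IsCyclic (G ⧸ Cfsg.fittingSubgroup G) ∧
      Squarefree (Cfsg.fittingSubgroup G).index) ∧
    IsCyclic (commutator G) ∧ Squarefree (Nat.card (commutator G)) ∧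
    Subgroup.upperCentralSeries ↥(Cfsg.fittingSubgroup G) 2 = ⊤ ∧
    commutator ↥(commutator G) = ⊥ := by
  have hss := h.isSupersolvable
  have hnil : Group.IsNilpotent (commutator G) :=
    Cfsg.Agent.SolvableStructure.Supersolvable.isNilpotent_commutator hss
  have hsq := squarefree_commutator h hnil
  have hcyc := isCyclic_commutator h hnil
  have hFn : (Cfsg.fittingSubgroup G).Normal := Cfsg.Agent.Lib.Cores.fittingSubgroup_normal
  have hGF : commutator G ≤ Cfsg.fittingSubgroup G :=
    Cfsg.Agent.Lib.Cores.le_fittingSubgroup inferInstance hnil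
  have hcm : ∀ a b : commutator G, a * b = b * a := by
    have := IsCyclic.isMulCommutative (α := commutator G)
    exact fun a b => this.is_comm.comm a b
  -- the index of `F`
  have hCF : Subgroup.centralizer ((commutator G : Subgroup G) : Set G) ≤
      Cfsg.fittingSubgroup G := by
    apply Cfsg.Agent.Lib.Cores.le_fittingSubgroup
    · infer_instance
    · refine ⟨⟨2, ucs_two (fun a b c => ?_)⟩⟩
      have h1 : ⁅(a : G), (b : G)⁆ ∈ commutator G :=
        Subgroup.commutator_mem_commutator (Subgroup.mem_top _) (Subgroup.mem_top _)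
      exact Subtype.ext ((Subgroup.mem_centralizer_iff.mp c.2) _ h1)
  have hFidx : Squarefree (Cfsg.fittingSubgroup G).index := by
    obtain ⟨x, hx⟩ := hcyc.exists_generator
    have hle : Subgroup.centralizer ({(x : G)} : Set G) ≤
        Subgroup.centralizer ((commutator G : Subgroup G) : Set G) := by
      intro w hw
      rw [Subgroup.mem_centralizer_singleton_iff] at hw
      rw [Subgroup.mem_centralizer_iff]
      intro y hy
      obtain ⟨k, hk⟩ := Subgroup.mem_zpowers_iff.mp (hx ⟨y, hy⟩)
      have h1 : y = (x : G) ^ k := by
        have h2 := congrArg Subtype.val hk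
        exact h2.symm
      rw [h1]
      exact ((show Commute (x : G) w from hw.symm).zpow_left k).eq
    exact (h (x : G)).squarefree_of_dvd (Subgroup.index_dvd_of_le (hle.trans hCF))
  -- `F` centralizes `G'`
  have hGcen : commutator G ≤ Subgroup.centralizer ((Cfsg.fittingSubgroup G : Subgroup G) : Set G) := by
    set C := Subgroup.centralizer ((Cfsg.fittingSubgroup G : Subgroup G) : Set G) with hC
    by_contra hcon
    have hne : C.relIndex (commutator G) ≠ 1 := by
      rw [Ne, Subgroup.relIndex_eq_one]; exact hcon
    obtain ⟨p, hp, hpd⟩ := Nat.exists_prime_and_dvd hne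
    have hpf : Fact p.Prime := ⟨hp⟩
    obtain ⟨Q⟩ : Nonempty (Sylow p (commutator G)) := inferInstance
    have hQn : (Q : Subgroup (commutator G)).Normal :=
      (Group.isNilpotent_of_finite_tfae.out 0 3 rfl rfl).mp hnil p inferInstance Q
    have hQc : (Q : Subgroup (commutator G)).Characteristic := Q.characteristic_of_normal hQn
    have hN : ((Q : Subgroup (commutator G)).map (commutator G).subtype).Normal := by
      infer_instance
    have hcard : Nat.card ((Q : Subgroup (commutator G)).map (commutator G).subtype) =
        Nat.card Q := Subgroup.card_map_of_injective (commutator G).subtype_injective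
    have hpG : p ∣ Nat.card (commutator G) := hpd.trans (Subgroup.relIndex_dvd_card _ _)
    have hQp : Nat.card Q = p := by
      obtain ⟨n, hn⟩ := IsPGroup.iff_card.mp Q.isPGroup'
      have h1 : p ∣ Nat.card Q := Q.dvd_card_of_dvd_card hpG
      have h2 : Squarefree (Nat.card Q) := hsq.squarefree_of_dvd (Subgroup.card_subgroup_dvd_card _)
      rw [hn] at h1 h2 ⊢
      rcases Nat.lt_or_ge n 2 with h3 | h3
      · interval_cases n
        · rw [pow_zero, Nat.dvd_one] at h1; exact absurd h1 hp.ne_one
        · exact pow_one p
      · exfalso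
        have h4 : p * p ∣ p ^ n := by rw [← pow_two]; exact pow_dvd_pow p h3
        exact hp.one_lt.ne' (Nat.isUnit_iff.mp (h2 p h4))
    set M := (Q : Subgroup (commutator G)).map (commutator G).subtype with hM
    have hMp : Nat.card M = p := by rw [hcard, hQp]
    have hMne : M ≠ ⊥ := by
      intro h1
      rw [h1] at hMp
      have : Nat.card (⊥ : Subgroup G) = 1 := by simp
      rw [this] at hMp
      exact hp.ne_one hMp.symm
    have hmin : ∀ K : Subgroup G, K.Normal → K ≤ M → K = ⊥ ∨ K = M := by
      intro K _ hK
      have h1 : Nat.card K ∣ p := by rw [← hMp]; exact Subgroup.card_dvd_of_le hK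
      rcases (Nat.dvd_prime hp).mp h1 with h2 | h2
      · exact Or.inl (Subgroup.card_eq_one.mp h2)
      · exact Or.inr (Subgroup.eq_of_le_of_card_ge hK (by rw [h2, hMp]))
    have h1 := Cfsg.Agent.S0583.result M hMne hmin
    have hMC : M ≤ C := by
      intro m hm
      rw [hC, Subgroup.mem_centralizer_iff]
      intro f hf
      exact ((Subgroup.mem_centralizer_iff.mp (h1 hf)) m hm).symm
    have hMG : M ≤ commutator G := Subgroup.map_subtype_le _
    -- `p` divides `|C ∩ G'|` and `|G' : C ∩ G'|`
    have h2 : p ∣ Nat.card (C ⊓ commutator G : Subgroup G) := by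
      have h3 := Subgroup.card_dvd_of_le (le_inf hMC hMG)
      rwa [hMp] at h3
    have h3 : Nat.card (C ⊓ commutator G : Subgroup G) * C.relIndex (commutator G) =
        Nat.card (commutator G) := by
      have h4 := Subgroup.relIndex_mul_relIndex ⊥ (C ⊓ commutator G) (commutator G) bot_le inf_le_right
      rwa [Subgroup.relIndex_bot_left, Subgroup.relIndex_bot_left, Subgroup.inf_relIndex_right] at h4
    have h4 : p * p ∣ Nat.card (commutator G) := by
      rw [← h3]; exact Nat.mul_dvd_mul h2 hpd
    exact hp.one_lt.ne' (Nat.isUnit_iff.mp (hsq p h4))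
  refine ⟨hss, hFn, fun _ => ⟨?_, ?_⟩, hcyc, hsq, ?_, ?_⟩
  · -- `G / F` is cyclic
    have hsqi := hFidx
    have hcomm : ∀ a b : G ⧸ Cfsg.fittingSubgroup G, a * b = b * a := by
      intro a b
      induction a using QuotientGroup.induction_on with
      | H a =>
        induction b using QuotientGroup.induction_on with
        | H b =>
          have h1 : ⁅a, b⁆ ∈ Cfsg.fittingSubgroup G :=
            hGF (Subgroup.commutator_mem_commutator (Subgroup.mem_top _) (Subgroup.mem_top _))
          have h2 : ⁅(a : G ⧸ Cfsg.fittingSubgroup G), (b : G ⧸ Cfsg.fittingSubgroup G)⁆ = 1 := by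
            have h3 : ((⁅a, b⁆ : G) : G ⧸ Cfsg.fittingSubgroup G) = ⁅(a : G ⧸ Cfsg.fittingSubgroup G),
                (b : G ⧸ Cfsg.fittingSubgroup G)⁆ :=
              map_commutatorElement (QuotientGroup.mk' (Cfsg.fittingSubgroup G)) a b
            rw [← h3, QuotientGroup.eq_one_iff]; exact h1
          rwa [commutatorElement_eq_one_iff_mul_comm] at h2
    have hnilq : Group.IsNilpotent (G ⧸ Cfsg.fittingSubgroup G) :=
      ⟨⟨2, ucs_two (fun a b c => hcomm _ _)⟩⟩
    have hsq' : Squarefree (Nat.card (G ⧸ Cfsg.fittingSubgroup G)) := hsqi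
    have := IsZGroup.of_squarefree hsq'
    infer_instance
  · exact hFidx
  · -- class at most two
    apply ucs_two
    intro a b c
    have h1 : ⁅(a : G), (b : G)⁆ ∈ commutator G :=
      Subgroup.commutator_mem_commutator (Subgroup.mem_top _) (Subgroup.mem_top _)
    have h2 := (Subgroup.mem_centralizer_iff.mp (hGcen h1)) c c.2
    exact Subtype.ext h2.symm
  · rw [eq_bot_iff, _root_.commutator_def (↥(commutator G)), Subgroup.commutator_le]
    intro a _ b _
    rw [Subgroup.mem_bot, commutatorElement_eq_one_iff_mul_comm]
    exact hcm a b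

end Cfsg.Agent.H524.Sqf
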