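import Cfsg.Agent.H524.SqfBasic

/-!
# Knoche: a `p`-group with class sizes dividing `p` has derived subgroup of order dividing `p`
-/

set_option autoImplicit false

namespace Cfsg.Agent.H524.Sqf

open Subgroup
open scoped commutatorElement

variable {P : Type*} [Group P]

/-- In a group of class at most two, `n ↦ ⁅y, n⁆` is a homomorphism. -/
def dl (hc : ∀ a b c : P, ⁅a, b⁆ * c = c * ⁅a, b⁆) (y : P) : P →* P where
  toFun n := ⁅y, n⁆
  map_one' := by simp
  map_mul' a b := by
    have h3 : ⁅y, a * b⁆ = y * a * y⁻¹ * (⁅y, b⁆ * a⁻¹) := by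
      rw [commutatorElement_def, commutatorElement_def]; group
    rw [h3, hc, commutatorElement_def, commutatorElement_def]; group

theorem dl_apply (hc : ∀ a b c : P, ⁅a, b⁆ * c = c * ⁅a, b⁆) (y n : P) : dl hc y n = ⁅y, n⁆ := rfl

theorem card_dl_range (hc : ∀ a b c : P, ⁅a, b⁆ * c = c * ⁅a, b⁆) (y : P) :
    Nat.card (dl hc y).range = (Subgroup.centralizer ({y} : Set P)).index := by
  rw [← Subgroup.index_ker]
  congr 1
  ext n
  rw [MonoidHom.mem_ker, dl_apply, Subgroup.mem_centralizer_singleton_iff,
    commutatorElement_eq_one_iff_mul_comm]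
  exact eq_comm

/-- **Knoche**: if all class sizes of a finite `p`-group divide `p`, then the derived subgroup
has order dividing `p`. -/
theorem card_commutator_dvd [Finite P] {p : ℕ} [hp : Fact p.Prime] (hP : IsPGroup p P)
    (h : ∀ y : P, (Subgroup.centralizer ({y} : Set P)).index ∣ p) :
    Nat.card (commutator P) ∣ p := by
  -- the centralizers are normal and contain the derived subgroup
  have hcen : commutator P ≤ Subgroup.center P := by
    intro c hcc
    rw [Subgroup.mem_center_iff]
    intro y
    have hnorm : (Subgroup.centralizer ({y} : Set P)).Normal := by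
      rcases (Nat.dvd_prime hp.out).mp (h y) with h1 | h1
      · rw [Subgroup.index_eq_one] at h1
        rw [h1]; infer_instance
      · exact Subgroup.normal_of_index_eq_minFac_card (by
          rw [h1]
          obtain ⟨n, hn⟩ := IsPGroup.iff_card.mp hP
          rw [hn]
          have hn0 : n ≠ 0 := by
            rintro rfl
            have h2 := Subgroup.index_dvd_card (Subgroup.centralizer ({y} : Set P))
            rw [h1, hn, pow_zero, Nat.dvd_one] at h2
            exact hp.out.ne_one h2
          rw [hp.out.pow_minFac hn0])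
    have hcomm : commutator P ≤ Subgroup.centralizer ({y} : Set P) := by
      rw [commutator_def, Subgroup.commutator_le]
      intro a _ b _
      rw [← QuotientGroup.eq_one_iff]
      have hcyc : IsCyclic (P ⧸ Subgroup.centralizer ({y} : Set P)) := by
        rcases (Nat.dvd_prime hp.out).mp (h y) with h1 | h1
        · have hs : Subsingleton (P ⧸ Subgroup.centralizer ({y} : Set P)) :=
            (Nat.card_eq_one_iff_unique.mp h1).1
          infer_instance
        · exact isCyclic_of_prime_card (p := p) h1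
      have : ((⁅a, b⁆ : P) : P ⧸ Subgroup.centralizer ({y} : Set P)) =
          ⁅(a : P ⧸ Subgroup.centralizer ({y} : Set P)), (b : P ⧸ Subgroup.centralizer ({y} : Set P))⁆ :=
        map_commutatorElement (QuotientGroup.mk' _) a b
      rw [this, commutatorElement_eq_one_iff_mul_comm]
      have hcm := IsCyclic.isMulCommutative (α := P ⧸ Subgroup.centralizer ({y} : Set P))
      exact hcm.is_comm.comm _ _
    have := hcomm hcc
    rw [Subgroup.mem_centralizer_singleton_iff] at this
    exact this.symm
  have hc : ∀ a b c : P, ⁅a, b⁆ * c = c * ⁅a, b⁆ := by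
    intro a b c
    have h1 : ⁅a, b⁆ ∈ commutator P := Subgroup.commutator_mem_commutator trivial trivial
    have := (Subgroup.mem_center_iff.mp (hcen h1)) c
    exact this.symm
  have hI : ∀ y : P, Nat.card (dl hc y).range ∣ p := fun y => by rw [card_dl_range]; exact h y
  have hmem : ∀ y n : P, ⁅y, n⁆ ∈ (dl hc y).range := fun y n => ⟨n, rfl⟩
  -- two elements
  have e : ∀ y z k : P, ⁅y * z, k⁆ = ⁅z, k⁆ * ⁅y, k⁆ := by
    intro y z k
    have h1 : ⁅y * z, k⁆ = y * ⁅z, k⁆ * y⁻¹ * ⁅y, k⁆ := by
      simp only [commutatorElement_def]; group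
    rw [h1, ← hc z k y]; group
  have two : ∀ y z : P, (∃ n : P, ⁅y, n⁆ = 1 ∧ ⁅z, n⁆ ≠ 1) → (∃ m : P, ⁅z, m⁆ = 1 ∧ ⁅y, m⁆ ≠ 1) →
      (dl hc y).range = (dl hc z).range := by
    rintro y z ⟨n, hyn, hzn⟩ ⟨m, hzm, hym⟩
    have h1 : ⁅y, m⁆ ∈ (dl hc (y * z)).range := by
      have := hmem (y * z) m
      rwa [e, hzm, one_mul] at this
    have h2 : ⁅z, n⁆ ∈ (dl hc (y * z)).range := by
      have := hmem (y * z) n
      rwa [e, hyn, mul_one] at this
    rw [eq_of_common hp.out (hI y) (hI (y * z)) hym (hmem y m) h1,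
      ← eq_of_common hp.out (hI z) (hI (y * z)) hzn (hmem z n) h2]
  -- if the kernels are different the images are the same
  have two' : ∀ y z : P, (∃ n : P, ⁅y, n⁆ ≠ 1) → (∃ n : P, ⁅z, n⁆ ≠ 1) →
      (∃ n : P, ⁅y, n⁆ = 1 ∧ ⁅z, n⁆ ≠ 1) → (dl hc y).range = (dl hc z).range := by
    intro y z hy hz hyz
    apply two y z hyz
    by_contra hcon
    push Not at hcon
    -- `C(z) ≤ C(y)`
    have hle : Subgroup.centralizer ({z} : Set P) ≤ Subgroup.centralizer ({y} : Set P) := by
      intro m hm
      rw [Subgroup.mem_centralizer_singleton_iff] at hm ⊢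
      have h1 : ⁅z, m⁆ = 1 := by rw [commutatorElement_eq_one_iff_mul_comm]; exact hm.symm
      have h2 := hcon m h1
      rw [commutatorElement_eq_one_iff_mul_comm] at h2
      exact h2.symm
    have hiy : (Subgroup.centralizer ({y} : Set P)).index = p := by
      refine ((Nat.dvd_prime hp.out).mp (h y)).resolve_left (fun h1 => ?_)
      rw [Subgroup.index_eq_one] at h1
      obtain ⟨n, hn⟩ := hy
      apply hn
      have : n ∈ Subgroup.centralizer ({y} : Set P) := by rw [h1]; trivial
      rw [Subgroup.mem_centralizer_singleton_iff] at this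
      rw [commutatorElement_eq_one_iff_mul_comm]; exact this.symm
    have h3 := Subgroup.relIndex_mul_index hle
    have h6 : (Subgroup.centralizer ({z} : Set P)).relIndex
        (Subgroup.centralizer ({y} : Set P)) = 1 := by
      have h5 : (Subgroup.centralizer ({z} : Set P)).relIndex
          (Subgroup.centralizer ({y} : Set P)) * p ∣ 1 * p := by
        rw [one_mul]; rw [hiy] at h3; rw [h3]; exact h z
      exact Nat.dvd_one.mp (Nat.dvd_of_mul_dvd_mul_right hp.out.pos h5)
    rw [Subgroup.relIndex_eq_one] at h6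
    obtain ⟨n, hyn, hzn⟩ := hyz
    have h7 : n ∈ Subgroup.centralizer ({y} : Set P) := by
      rw [Subgroup.mem_centralizer_singleton_iff]
      rw [commutatorElement_eq_one_iff_mul_comm] at hyn; exact hyn.symm
    have h8 := h6 h7
    rw [Subgroup.mem_centralizer_singleton_iff] at h8
    apply hzn
    rw [commutatorElement_eq_one_iff_mul_comm]; exact h8.symm
  have all : ∀ y z : P, (∃ n : P, ⁅y, n⁆ ≠ 1) → (∃ n : P, ⁅z, n⁆ ≠ 1) →
      (dl hc y).range = (dl hc z).range := by
    intro y z hy hz
    by_cases hyz : ∃ n : P, ⁅y, n⁆ = 1 ∧ ⁅z, n⁆ ≠ 1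
    · exact two' y z hy hz hyz
    · push Not at hyz
      -- pick `w` not commuting with `z`; then `w` does not commute with `y`
      obtain ⟨w, hw⟩ := hz
      have hyw : ⁅y, w⁆ ≠ 1 := fun h1 => hw (hyz w h1)
      have hwz : ∃ n : P, ⁅w, n⁆ ≠ 1 := ⟨z, fun h1 => hw (by
        rw [commutatorElement_eq_one_iff_mul_comm] at h1 ⊢; exact h1.symm)⟩
      have h1 : (dl hc y).range = (dl hc w).range :=
        two' y w hy hwz ⟨y, by simp, fun h1 => hyw (by
          rw [commutatorElement_eq_one_iff_mul_comm] at h1 ⊢; exact h1.symm)⟩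
      have h2 : (dl hc z).range = (dl hc w).range :=
        two' z w ⟨w, hw⟩ hwz ⟨z, by simp, fun h1 => hw (by
          rw [commutatorElement_eq_one_iff_mul_comm] at h1 ⊢; exact h1.symm)⟩
      rw [h1, h2]
  by_cases htriv : ∀ y n : P, ⁅y, n⁆ = 1
  · have : commutator P = ⊥ := by
      rw [eq_bot_iff, commutator_def, Subgroup.commutator_le]
      intro a _ b _
      rw [htriv a b]; exact Subgroup.one_mem _
    rw [this]; simp
  push Not at htriv
  obtain ⟨y, n, hyn⟩ := htriv
  have hle : commutator P ≤ (dl hc y).range := by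
    rw [commutator_def, Subgroup.commutator_le]
    intro a _ b _
    by_cases hab : ⁅a, b⁆ = 1
    · rw [hab]; exact Subgroup.one_mem _
    · rw [all y a ⟨n, hyn⟩ ⟨b, hab⟩]; exact hmem a b
  exact (Subgroup.card_dvd_of_le hle).trans (hI y)

end Cfsg.Agent.H524.Sqf
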